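import Mathlib
import Cfsg.Prelude.Def_Characters
import Cfsg.Agent.Helper75.Galois

/-!
# Rationality from Galois invariance (helper75)

* `exists_ringEquiv_extending_field`: automorphisms of a field `K` with `Algebra K ℂ` extend to `ℂ`.
* `cycField n`: the `n`-th cyclotomic field in `ℂ`; `mem_cycField_of_pow_eq_one`.
* `exists_pow_of_ringEquiv`: every `σ ∈ Aut(ℂ)` is a power map on `n`-th roots of unity.
* `rat_of_fixed`, `int_of_fixed`: elements (resp. algebraic integers) of `cycField n` fixed by all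
  of `Aut(ℂ)` are rational numbers (resp. integers).
-/

set_option autoImplicit false
open Polynomial

namespace Cfsg.Agent.Helper75

/-- Any ring automorphism of a field `K` with a `ℂ`-algebra structure extends to `ℂ`. -/
theorem exists_ringEquiv_extending_field {K : Type*} [Field K] [Algebra K ℂ] (σ₀ : K ≃+* K) :
    ∃ σ : ℂ ≃+* ℂ, ∀ c : K, σ (algebraMap K ℂ c) = algebraMap K ℂ (σ₀ c) := by
  obtain ⟨ι, v, hv⟩ := exists_isTranscendenceBasis' K ℂ
  have := IsAlgClosed.isAlgClosure_of_transcendence_basis v hv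
  let e : Algebra.adjoin K (Set.range v) ≃+* Algebra.adjoin K (Set.range v) :=
    hv.1.aevalEquiv.symm.toRingEquiv.trans
      ((MvPolynomial.mapEquiv ι σ₀).trans hv.1.aevalEquiv.toRingEquiv)
  refine ⟨IsAlgClosure.equivOfEquiv ℂ ℂ e, fun c => ?_⟩
  have h1 : algebraMap K ℂ c = algebraMap (Algebra.adjoin K (Set.range v)) ℂ
      (algebraMap K (Algebra.adjoin K (Set.range v)) c) := rfl
  rw [h1, IsAlgClosure.equivOfEquiv_algebraMap]
  have h2 : e (algebraMap K (Algebra.adjoin K (Set.range v)) c) =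
      algebraMap K (Algebra.adjoin K (Set.range v)) (σ₀ c) := by
    simp only [e, RingEquiv.trans_apply, AlgEquiv.coe_ringEquiv]
    rw [AlgEquiv.commutes, MvPolynomial.algebraMap_eq, MvPolynomial.mapEquiv_apply,
      MvPolynomial.map_C, ← MvPolynomial.algebraMap_eq, AlgEquiv.commutes]
    rfl
  rw [h2]
  rfl

/-- The `n`-th cyclotomic field inside `ℂ`. -/
noncomputable def cycField (n : ℕ) : IntermediateField ℚ ℂ :=
  IntermediateField.adjoin ℚ {b : ℂ | ∃ m ∈ ({n} : Set ℕ), m ≠ 0 ∧ b ^ m = 1}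

theorem mem_cycField_of_pow_eq_one (n : ℕ) (hn : n ≠ 0) {z : ℂ} (hz : z ^ n = 1) :
    z ∈ cycField n :=
  IntermediateField.subset_adjoin ℚ _ ⟨n, rfl, hn, hz⟩

theorem isCyclotomicExtension_cycField (n : ℕ) (hn : n ≠ 0) :
    IsCyclotomicExtension {n} ℚ (cycField n) := by
  apply IntermediateField.isCyclotomicExtension_adjoin_of_exists_isPrimitiveRoot
  intro m hm _
  rw [Set.mem_singleton_iff] at hm
  subst hm
  exact ⟨_, Complex.isPrimitiveRoot_exp m hn⟩

/-- Every field automorphism of `ℂ` acts on the `n`-th roots of unity as a `k`-th power map,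
`k` coprime to `n`. -/
theorem exists_pow_of_ringEquiv (σ : ℂ ≃+* ℂ) (n : ℕ) (hn : n ≠ 0) :
    ∃ k : ℕ, k.Coprime n ∧ ∀ z : ℂ, z ^ n = 1 → σ z = z ^ k := by
  have : NeZero n := ⟨hn⟩
  have hζ := Complex.isPrimitiveRoot_exp n hn
  have hσζ : IsPrimitiveRoot (σ (Complex.exp (2 * ↑Real.pi * Complex.I / ↑n))) n :=
    hζ.map_of_injective σ.injective
  obtain ⟨k, -, hk⟩ := hζ.eq_pow_of_pow_eq_one hσζ.pow_eq_one
  refine ⟨k, ?_, fun z hz => ?_⟩
  · rw [← hk] at hσζ
    exact (hζ.pow_iff_coprime (Nat.pos_of_ne_zero hn) k).mp hσζ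
  · obtain ⟨i, -, rfl⟩ := hζ.eq_pow_of_pow_eq_one hz
    rw [map_pow, ← hk, ← pow_mul, ← pow_mul, Nat.mul_comm]

/-- An element of the `n`-th cyclotomic field fixed by all field automorphisms of `ℂ` is
rational. -/
theorem rat_of_fixed (n : ℕ) (hn : n ≠ 0) (c : ℂ) (hc : c ∈ cycField n)
    (hfix : ∀ σ : ℂ ≃+* ℂ, σ c = c) : ∃ q : ℚ, c = (q : ℂ) := by
  have : NeZero n := ⟨hn⟩
  have hcyc := isCyclotomicExtension_cycField n hn
  have hgal : IsGalois ℚ (cycField n) := IsCyclotomicExtension.isGalois {n} ℚ (cycField n)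
  have hfin : FiniteDimensional ℚ (cycField n) :=
    IsCyclotomicExtension.finiteDimensional {n} ℚ (cycField n)
  have hbot : (⟨c, hc⟩ : cycField n) ∈ (⊥ : IntermediateField ℚ (cycField n)) := by
    rw [IsGalois.mem_bot_iff_fixed]
    intro f
    obtain ⟨σ, hσ⟩ := exists_ringEquiv_extending_field (K := cycField n) f.toRingEquiv
    have h1 := hσ ⟨c, hc⟩
    have h2 : algebraMap (cycField n) ℂ ⟨c, hc⟩ = c := rfl
    rw [h2, hfix σ] at h1
    apply Subtype.ext
    exact h1.symm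
  obtain ⟨q, hq⟩ := IntermediateField.mem_bot.mp hbot
  refine ⟨q, ?_⟩
  have := congrArg (fun x : cycField n => (x : ℂ)) hq
  simpa using this.symm

/-- An algebraic integer of the `n`-th cyclotomic field fixed by all field automorphisms of `ℂ`
is a rational integer. -/
theorem int_of_fixed (n : ℕ) (hn : n ≠ 0) (c : ℂ) (hc : c ∈ cycField n)
    (hint : IsIntegral ℤ c) (hfix : ∀ σ : ℂ ≃+* ℂ, σ c = c) : ∃ m : ℤ, c = (m : ℂ) := by
  obtain ⟨q, rfl⟩ := rat_of_fixed n hn c hc hfix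
  have h1 : IsIntegral ℤ q := by
    have : ((q : ℂ)) = algebraMap ℚ ℂ q := rfl
    rw [this] at hint
    exact (isIntegral_algebraMap_iff (algebraMap ℚ ℂ).injective).mp hint
  obtain ⟨m, hm⟩ := IsIntegrallyClosed.isIntegral_iff.mp h1
  exact ⟨m, by rw [← hm]; simp⟩

end Cfsg.Agent.Helper75
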