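import Mathlib
import Cfsg.Prelude.Def_Characters
import Cfsg.Prelude.Def_Blocks
import Cfsg.Agent.Helper75.Rational

/-!
# Lattice bound for elements of order `p` with `C_G(x) = ⟨x⟩ × K` (helper75) — definitions

* `isoIdem ρ χ`: the matrix `(χ(1)/|G|) ∑ χ(g⁻¹) ρ(g)` of the central idempotent of `χ` in a
  complex matrix representation `ρ`.
* `LatticeBoundStmt G p`: the statement of the lattice bound (proved in `LatBound.lean`): for a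
  finite Galois-stable set `𝒪` of irreducible characters,
  `|∑_{χ ∈ 𝒪} ∑_{k ∈ K} χ(1) χ(x k)| ≤ |K| ∑_{χ ∈ ℛ} χ(1)` where `ℛ` represents the orbits on
  `𝒪` of the automorphisms of `ℂ` fixing the `M₀`-th roots of unity.
-/

set_option autoImplicit false

namespace Cfsg.Agent.Helper75

universe u

/-- The matrix of the central idempotent of `χ` in the matrix representation `ρ`. -/
noncomputable def isoIdem {G : Type u} [Group G] [Fintype G] {N : ℕ}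
    (ρ : G →* Matrix (Fin N) (Fin N) ℂ) (χ : G → ℂ) : Matrix (Fin N) (Fin N) ℂ :=
  (χ 1 / (Nat.card G : ℂ)) • ∑ g : G, χ g⁻¹ • ρ g

/-- The lattice bound, as a statement. -/
def LatticeBoundStmt (G : Type u) [Group G] [Fintype G] (p : ℕ) : Prop :=
  ∀ (x : G) (K : Subgroup G) [DecidablePred (· ∈ K)]
    (𝒪 ℛ : Finset (Cfsg.IrrCharacter G)) (M₀ : ℕ),
    orderOf x = p →
    ¬ p ∣ Nat.card K →
    (∀ g : G, g * x = x * g ↔ ∃ i : ℕ, ∃ k ∈ K, g = x ^ i * k) →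
    (∀ χ ∈ 𝒪, ∀ σ : ℂ ≃+* ℂ, ∃ χ' ∈ 𝒪, ∀ g : G, (χ' : G → ℂ) g = σ ((χ : G → ℂ) g)) →
    ¬ p ∣ M₀ → Nat.card G ∣ p * M₀ → Nat.card G ≤ M₀ →
    (∀ χ ∈ 𝒪, ∃ χ₀ ∈ ℛ, ∃ τ : ℂ ≃+* ℂ, (∀ w : ℂ, w ^ M₀ = 1 → τ w = w) ∧
      ∀ g : G, (χ : G → ℂ) g = τ ((χ₀ : G → ℂ) g)) →
    ‖∑ χ ∈ 𝒪, ∑ k : K, (χ : G → ℂ) 1 * (χ : G → ℂ) (x * (k : G))‖
      ≤ (Nat.card K : ℝ) * ∑ χ ∈ ℛ, (Cfsg.charDegree (χ : G → ℂ) : ℝ)

end Cfsg.Agent.Helper75
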