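import Mathlib
import Cfsg.Prelude.Def_Characters
import Cfsg.Agent.Helper75.Galois
import Cfsg.Agent.Helper75.Rational

/-!
# Character values, cyclotomic fields and Galois power maps (helper75)

* `character_mem_cycField`, `character_isIntegral`.
* `upow g u`: `g ^ u` for a unit `u` of `ZMod |G|`; `upow_mul`, `upow_one`, `upowEquiv`.
* `exists_unit_of_ringEquiv`, `exists_ringEquiv_of_unit`: `Aut(ℂ)` acts on character values
  through the power maps `upow`.
-/

set_option autoImplicit false
open Polynomial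

namespace Cfsg.Agent.Helper75

/-- Character values lie in the `|G|`-th cyclotomic field. -/
theorem character_mem_cycField {G : Type*} [Group G] [Finite G] {V : Type*} [AddCommGroup V]
    [Module ℂ V] [FiniteDimensional ℂ V] (ρ : Representation ℂ G V) (g : G) :
    ρ.character g ∈ cycField (Nat.card G) := by
  have hm : Nat.card G ≠ 0 := Nat.card_pos.ne'
  have hf : (ρ g) ^ Nat.card G = 1 := by
    rw [← map_pow, pow_card_eq_one', map_one]
  obtain ⟨s, hs1, -, hs3⟩ := exists_eigen_multiset (ρ g) (Nat.card G) hm hf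
  have h1 := hs3 1
  simp only [pow_one, Multiset.map_id'] at h1
  unfold Representation.character
  rw [h1]
  exact multiset_sum_mem _ (fun μ hμ => mem_cycField_of_pow_eq_one _ hm (hs1 μ hμ))

/-- Character values are algebraic integers. -/
theorem character_isIntegral {G : Type*} [Group G] [Finite G] {V : Type*} [AddCommGroup V]
    [Module ℂ V] [FiniteDimensional ℂ V] (ρ : Representation ℂ G V) (g : G) :
    IsIntegral ℤ (ρ.character g) := by
  have hm : Nat.card G ≠ 0 := Nat.card_pos.ne'
  have hf : (ρ g) ^ Nat.card G = 1 := by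
    rw [← map_pow, pow_card_eq_one', map_one]
  obtain ⟨s, hs1, -, hs3⟩ := exists_eigen_multiset (ρ g) (Nat.card G) hm hf
  have h1 := hs3 1
  simp only [pow_one, Multiset.map_id'] at h1
  unfold Representation.character
  rw [h1]
  refine multiset_sum_mem (S := integralClosure ℤ ℂ) _ (fun μ hμ => ?_)
  exact ⟨X ^ Nat.card G - 1, monic_X_pow_sub_C 1 hm, by simp [hs1 μ hμ]⟩

/-- The power map `g ↦ g ^ u` for a unit `u` of `ZMod |G|`. -/
noncomputable def upow {G : Type*} [Group G] (g : G) (u : (ZMod (Nat.card G))ˣ) : G :=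
  g ^ (u : ZMod (Nat.card G)).val

theorem upow_mul {G : Type*} [Group G] [Finite G] (g : G) (u v : (ZMod (Nat.card G))ˣ) :
    upow g (u * v) = upow (upow g u) v := by
  have : NeZero (Nat.card G) := ⟨Nat.card_pos.ne'⟩
  unfold upow
  rw [← pow_mul, Units.val_mul, ZMod.val_mul, pow_mod_natCard]

theorem upow_one {G : Type*} [Group G] [Finite G] (g : G) : upow g 1 = g := by
  have : NeZero (Nat.card G) := ⟨Nat.card_pos.ne'⟩
  unfold upow
  rcases Nat.lt_or_ge 1 (Nat.card G) with h | h
  · have : Fact (1 < Nat.card G) := ⟨h⟩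
    rw [Units.val_one, ZMod.val_one, pow_one]
  · have h1 : Nat.card G = 1 := le_antisymm h Nat.card_pos
    have : Subsingleton G := (Nat.card_eq_one_iff_unique.mp h1).1
    exact Subsingleton.elim _ _

/-- `g ↦ upow g u` as a permutation of `G`. -/
noncomputable def upowEquiv {G : Type*} [Group G] [Finite G] (u : (ZMod (Nat.card G))ˣ) : G ≃ G where
  toFun g := upow g u
  invFun g := upow g u⁻¹
  left_inv g := by
    show upow (upow g u) u⁻¹ = g
    rw [← upow_mul, mul_inv_cancel, upow_one]
  right_inv g := by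
    show upow (upow g u⁻¹) u = g
    rw [← upow_mul, inv_mul_cancel, upow_one]

/-- For any `σ ∈ Aut(ℂ)` there is a unit `u` with `σ (χ g) = χ (upow g u)` for all characters. -/
theorem exists_unit_of_ringEquiv {G : Type*} [Group G] [Finite G] (σ : ℂ ≃+* ℂ) :
    ∃ u : (ZMod (Nat.card G))ˣ, ∀ {V : Type*} [AddCommGroup V] [Module ℂ V]
      [FiniteDimensional ℂ V] (ρ : Representation ℂ G V) (g : G),
      σ (ρ.character g) = ρ.character (upow g u) := by
  have hm : Nat.card G ≠ 0 := Nat.card_pos.ne'
  have : NeZero (Nat.card G) := ⟨hm⟩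
  obtain ⟨k, hk, hσ⟩ := exists_pow_of_ringEquiv σ (Nat.card G) hm
  refine ⟨ZMod.unitOfCoprime k hk, fun ρ g => ?_⟩
  rw [← character_pow_eq ρ σ k hσ g]
  congr 1
  unfold upow
  rw [ZMod.coe_unitOfCoprime, ZMod.val_natCast, pow_mod_natCard]

/-- For each unit `u` there is `σ ∈ Aut(ℂ)` with `σ (χ g) = χ (upow g u)` for all characters. -/
theorem exists_ringEquiv_of_unit {G : Type*} [Group G] [Finite G] (u : (ZMod (Nat.card G))ˣ) :
    ∃ σ : ℂ ≃+* ℂ, ∀ {V : Type*} [AddCommGroup V] [Module ℂ V]
      [FiniteDimensional ℂ V] (ρ : Representation ℂ G V) (g : G),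
      σ (ρ.character g) = ρ.character (upow g u) := by
  have hm : Nat.card G ≠ 0 := Nat.card_pos.ne'
  have : NeZero (Nat.card G) := ⟨hm⟩
  obtain ⟨σ, hσ⟩ := exists_ringEquiv_pow (Nat.card G) hm (u : ZMod (Nat.card G)).val
    (ZMod.val_coe_unit_coprime u)
  exact ⟨σ, fun ρ g => (character_pow_eq ρ σ _ hσ g).symm⟩

end Cfsg.Agent.Helper75
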