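import Mathlib
import Cfsg.Prelude.Def_Characters
import Cfsg.Agent.Helper3.Induced
import Cfsg.Agent.Helper80.CharIrr
import Cfsg.Agent.Helper75.Clifford

/-!
# Linearity of `Cfsg.classInner`, orthonormality, and multiplicities of constituents (helper75)

* `classInner_add_left/right`, `classInner_smul_left/right`, `classInner_sum_left/right`,
  `classInner_zero_left/right`, `classInner_sub_left/right`, `classInner_neg_left/right`.
* `classInner_irr`, `classInner_irr_self`, `classInner_irr_of_ne` (orthonormality of irreducible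
  characters in `classInner` form).
* `character_eq_sum_irr`: a character is the sum of `⟨Φ, χ⟩ • χ`; `exists_nat_mult`.
* `character_one_eq_sum`: degree formula; `eq_irr_of_constituent_of_le`: a character with an
  irreducible constituent of at least its degree equals that constituent.
-/

set_option autoImplicit false

namespace Cfsg.Agent.Helper75

open Cfsg

section lin

variable {K : Type*} [Group K] [Fintype K]

theorem classInner_add_left (a b c : K → ℂ) :
    classInner (a + b) c = classInner a c + classInner b c := by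
  unfold classInner
  simp only [Pi.add_apply, add_mul, Finset.sum_add_distrib, mul_add]

theorem classInner_add_right (a b c : K → ℂ) :
    classInner a (b + c) = classInner a b + classInner a c := by
  unfold classInner
  simp only [Pi.add_apply, map_add, mul_add, Finset.sum_add_distrib]

theorem classInner_smul_left (z : ℂ) (a c : K → ℂ) :
    classInner (z • a) c = z * classInner a c := by
  unfold classInner
  simp only [Pi.smul_apply, smul_eq_mul, Finset.mul_sum]
  apply Finset.sum_congr rfl
  intro x _
  ring

theorem classInner_smul_right (z : ℂ) (a c : K → ℂ) :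
    classInner a (z • c) = (starRingEnd ℂ) z * classInner a c := by
  unfold classInner
  simp only [Pi.smul_apply, smul_eq_mul, Finset.mul_sum, map_mul]
  apply Finset.sum_congr rfl
  intro x _
  ring

theorem classInner_zero_left (c : K → ℂ) : classInner (0 : K → ℂ) c = 0 := by
  unfold classInner
  simp

theorem classInner_zero_right (c : K → ℂ) : classInner c (0 : K → ℂ) = 0 := by
  unfold classInner
  simp

theorem classInner_neg_left (a c : K → ℂ) : classInner (-a) c = -classInner a c := by
  have := classInner_smul_left (-1) a c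
  simpa using this

theorem classInner_neg_right (a c : K → ℂ) : classInner a (-c) = -classInner a c := by
  have := classInner_smul_right (-1) a c
  simpa using this

theorem classInner_sub_left (a b c : K → ℂ) :
    classInner (a - b) c = classInner a c - classInner b c := by
  rw [sub_eq_add_neg, classInner_add_left, classInner_neg_left, sub_eq_add_neg]

theorem classInner_sub_right (a b c : K → ℂ) :
    classInner a (b - c) = classInner a b - classInner a c := by
  rw [sub_eq_add_neg, classInner_add_right, classInner_neg_right, sub_eq_add_neg]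

theorem classInner_sum_left {ι : Type*} (s : Finset ι) (f : ι → K → ℂ) (c : K → ℂ) :
    classInner (∑ i ∈ s, f i) c = ∑ i ∈ s, classInner (f i) c := by
  classical
  induction s using Finset.induction_on with
  | empty => simp [classInner_zero_left]
  | insert a s ha ih => rw [Finset.sum_insert ha, Finset.sum_insert ha, classInner_add_left, ih]

theorem classInner_sum_right {ι : Type*} (s : Finset ι) (f : ι → K → ℂ) (c : K → ℂ) :
    classInner c (∑ i ∈ s, f i) = ∑ i ∈ s, classInner c (f i) := by
  classical
  induction s using Finset.induction_on with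
  | empty => simp [classInner_zero_right]
  | insert a s ha ih => rw [Finset.sum_insert ha, Finset.sum_insert ha, classInner_add_right, ih]

/-- Orthonormality of the irreducible characters in `classInner` form. -/
theorem classInner_irr (χ ψ : IrrCharacter K) :
    classInner (χ : K → ℂ) (ψ : K → ℂ) = if χ = ψ then 1 else 0 := by
  unfold classInner
  rw [Cfsg.Agent.Helper80.irr_orthogonality_conj, Nat.card_eq_fintype_card]
  have hK : (Fintype.card K : ℂ) ≠ 0 := by exact_mod_cast Fintype.card_ne_zero
  by_cases h : χ = ψ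
  · rw [if_pos h, if_pos h, inv_mul_cancel₀ hK]
  · rw [if_neg h, if_neg h, mul_zero]

theorem classInner_irr_self {χ : K → ℂ} (hχ : IsIrrCharacter K χ) : classInner χ χ = 1 := by
  have := classInner_irr (⟨χ, hχ⟩ : IrrCharacter K) ⟨χ, hχ⟩
  simpa using this

theorem classInner_irr_of_ne {χ ψ : K → ℂ} (hχ : IsIrrCharacter K χ) (hψ : IsIrrCharacter K ψ)
    (h : χ ≠ ψ) : classInner χ ψ = 0 := by
  have := classInner_irr (⟨χ, hχ⟩ : IrrCharacter K) ⟨ψ, hψ⟩
  rw [if_neg (fun h' => h (congrArg Subtype.val h'))] at this
  exact this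

omit [Fintype K] in
theorem isCharacter_isClassFunction' {Φ : K → ℂ} (hΦ : IsCharacter K Φ) :
    IsClassFunction K Φ := fun g x => Cfsg.Agent.Helper80.isCharacter_conj hΦ g x

/-- A character is the sum of its irreducible constituents with multiplicities
`⟨Φ, χ⟩`. -/
theorem character_eq_sum_irr [Fintype (IrrCharacter K)] {Φ : K → ℂ} (hΦ : IsCharacter K Φ) :
    Φ = ∑ χ : IrrCharacter K, classInner Φ (χ : K → ℂ) • (χ : K → ℂ) :=
  Cfsg.Agent.Helper3.classFunction_eq_sum Φ (isCharacter_isClassFunction' hΦ)

/-- Multiplicities of a character are natural numbers. -/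
theorem exists_nat_mult {Φ : K → ℂ} (hΦ : IsCharacter K Φ) :
    ∃ m : IrrCharacter K → ℕ, ∀ χ : IrrCharacter K, classInner Φ (χ : K → ℂ) = (m χ : ℂ) := by
  have h : ∀ χ : IrrCharacter K, ∃ n : ℕ, classInner Φ (χ : K → ℂ) = (n : ℂ) := fun χ =>
    Cfsg.Agent.Helper3.classInner_isCharacter_nat hΦ (Cfsg.Agent.Helper80.isCharacter_of_irr χ.2)
  choose m hm using h
  exact ⟨m, hm⟩

/-- If the irreducible character `χ` is a constituent of the character `Φ` and
`Φ 1 = (d : ℂ)` with `d ≤ charDegree χ`, then `Φ = χ`. -/
theorem eq_irr_of_constituent_of_le {Φ : K → ℂ} (hΦ : IsCharacter K Φ) (χ : IrrCharacter K)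
    (hne : classInner Φ (χ : K → ℂ) ≠ 0) (hle : charDegree Φ ≤ charDegree (χ : K → ℂ)) :
    Φ = (χ : K → ℂ) := by
  classical
  let _ : Fintype (IrrCharacter K) := Fintype.ofFinite _
  obtain ⟨m, hm⟩ := exists_nat_mult hΦ
  have hsum := character_eq_sum_irr hΦ
  have hdeg : (charDegree Φ : ℂ) = ∑ ψ : IrrCharacter K, ((m ψ * charDegree (ψ : K → ℂ) : ℕ) : ℂ) := by
    rw [← Cfsg.Agent.Helper80.isCharacter_one_eq hΦ]
    conv_lhs => rw [hsum]
    rw [Finset.sum_apply]
    apply Finset.sum_congr rfl
    intro ψ _
    rw [Pi.smul_apply, smul_eq_mul, hm ψ, Cfsg.Agent.Helper80.irr_one_eq ψ]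
    push_cast
    rfl
  have hdegN : charDegree Φ = ∑ ψ : IrrCharacter K, m ψ * charDegree (ψ : K → ℂ) := by
    have : (charDegree Φ : ℂ) = ((∑ ψ : IrrCharacter K, m ψ * charDegree (ψ : K → ℂ) : ℕ) : ℂ) := by
      rw [hdeg]; push_cast; rfl
    exact_mod_cast this
  have hmχ : 1 ≤ m χ := by
    rcases Nat.eq_zero_or_pos (m χ) with h0 | hpos
    · exfalso; apply hne; rw [hm χ, h0]; simp
    · exact hpos
  have hdpos := Cfsg.Agent.Helper80.irr_degree_pos χ
  rw [hdegN, ← Finset.add_sum_erase Finset.univ _ (Finset.mem_univ χ)] at hle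
  have h1 : charDegree (χ : K → ℂ) ≤ m χ * charDegree (χ : K → ℂ) :=
    Nat.le_mul_of_pos_left _ hmχ
  have hrest : ∑ ψ ∈ Finset.univ.erase χ, m ψ * charDegree (ψ : K → ℂ) = 0 := by omega
  have hmχ1 : m χ = 1 := by
    have h2 : m χ * charDegree (χ : K → ℂ) ≤ 1 * charDegree (χ : K → ℂ) := by omega
    have := Nat.le_of_mul_le_mul_right h2 hdpos
    omega
  have hm0 : ∀ ψ : IrrCharacter K, ψ ≠ χ → m ψ = 0 := by
    intro ψ hψ
    have h3 := (Finset.sum_eq_zero_iff.mp hrest) ψ (Finset.mem_erase.mpr ⟨hψ, Finset.mem_univ _⟩)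
    rcases Nat.mul_eq_zero.mp h3 with h | h
    · exact h
    · exact absurd h (Cfsg.Agent.Helper80.irr_degree_pos ψ).ne'
  conv_lhs => rw [hsum]
  rw [Finset.sum_eq_single χ]
  · rw [hm χ, hmχ1]; simp
  · intro ψ _ hψ
    rw [hm ψ, hm0 ψ hψ]; simp
  · intro h; exact absurd (Finset.mem_univ χ) h

end lin

end Cfsg.Agent.Helper75
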