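import Mathlib
import Cfsg.Prelude.Def_Characters
import Cfsg.Agent.Helper3.IndFun
import Cfsg.Agent.Helper79.Quotient
import Cfsg.Agent.Helper75.Clifford

/-!
# Conjugating functions on a normal subgroup; induction restricted to the subgroup (helper75)

* `conjFun H g θ = fun h => θ ⟨g * h * g⁻¹, _⟩` with `conjFun_one`, `conjFun_mul`,
  `isIrrCharacter_conjFun`, `isCharacter_conjFun`, `classInner_conjFun`, `conjFun_restrict`.
* `indFun_apply_mem`: `(Ind θ) h = |H|⁻¹ ∑ x, θ^x h` for `h ∈ H` normal.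
* `sum_conjFun_eq`: `∑ x, θ^x = |Stab θ| • ∑ᶠ ψ ∈ orbit, ψ`.
* `indFun_conjFun`: `Ind (θ^g) = Ind θ`.
* `indFun_one`: `(Ind ψ) 1 = |G| / |T| * ψ 1`.
-/

set_option autoImplicit false

namespace Cfsg.Agent.Helper75

open Cfsg

variable {G : Type*} [Group G]

/-- The conjugate `θ^g : h ↦ θ (g h g⁻¹)` of a function on a normal subgroup. -/
def conjFun (H : Subgroup G) [hN : H.Normal] (g : G) (θ : H → ℂ) : H → ℂ :=
  fun h => θ ⟨g * h * g⁻¹, hN.conj_mem h h.2 g⟩

theorem conjFun_apply (H : Subgroup G) [hN : H.Normal] (g : G) (θ : H → ℂ) (h : H) :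
    conjFun H g θ h = θ ⟨g * h * g⁻¹, hN.conj_mem h h.2 g⟩ := rfl

theorem conjFun_eq_comp (H : Subgroup G) [hN : H.Normal] (g : G) (θ : H → ℂ) :
    conjFun H g θ = fun h => θ (MulAut.conjNormal g h) := by
  funext h
  rw [conjFun_apply]
  congr 1

theorem conjFun_one (H : Subgroup G) [hN : H.Normal] (θ : H → ℂ) : conjFun H 1 θ = θ := by
  funext h
  rw [conjFun_apply]
  congr 1
  apply Subtype.ext
  simp

theorem conjFun_mul (H : Subgroup G) [hN : H.Normal] (g g' : G) (θ : H → ℂ) :
    conjFun H (g * g') θ = conjFun H g' (conjFun H g θ) := by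
  funext h
  rw [conjFun_apply, conjFun_apply, conjFun_apply]
  congr 1
  apply Subtype.ext
  simp [mul_assoc]

theorem conjFun_conjFun_inv (H : Subgroup G) [hN : H.Normal] (g : G) (θ : H → ℂ) :
    conjFun H g⁻¹ (conjFun H g θ) = θ := by
  rw [← conjFun_mul, mul_inv_cancel, conjFun_one]

theorem conjFun_inv_conjFun (H : Subgroup G) [hN : H.Normal] (g : G) (θ : H → ℂ) :
    conjFun H g (conjFun H g⁻¹ θ) = θ := by
  rw [← conjFun_mul, inv_mul_cancel, conjFun_one]

theorem isIrrCharacter_conjFun (H : Subgroup G) [hN : H.Normal] (g : G) {θ : H → ℂ}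
    (hθ : IsIrrCharacter H θ) : IsIrrCharacter H (conjFun H g θ) := by
  rw [conjFun_eq_comp]
  exact (Cfsg.Agent.Helper79.isIrrCharacter_mulEquiv (MulAut.conjNormal g : H ≃* H)).mpr hθ

theorem isCharacter_conjFun (H : Subgroup G) [hN : H.Normal] (g : G) {θ : H → ℂ}
    (hθ : IsCharacter H θ) : IsCharacter H (conjFun H g θ) := by
  rw [conjFun_eq_comp]
  exact (Cfsg.Agent.Helper79.isCharacter_mulEquiv (MulAut.conjNormal g : H ≃* H)).mpr hθ

theorem classInner_conjFun (H : Subgroup G) [hN : H.Normal] [Fintype H] (g : G) (α β : H → ℂ) :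
    classInner (conjFun H g α) (conjFun H g β) = classInner α β := by
  unfold classInner
  congr 1
  rw [conjFun_eq_comp, conjFun_eq_comp]
  exact Equiv.sum_comp (MulAut.conjNormal g : H ≃* H).toEquiv
    (fun n : H => α n * (starRingEnd ℂ) (β n))

theorem conjFun_restrict (H : Subgroup G) [hN : H.Normal] (g : G) (χ : G → ℂ)
    (hχ : IsClassFunction G χ) : conjFun H g (fun h : H => χ h) = fun h : H => χ h := by
  funext h
  rw [conjFun_apply]
  exact hχ (h : G) g

/-- The restriction to the normal subgroup `H` of the function induced from `θ`. -/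
theorem indFun_apply_mem [Fintype G] (H : Subgroup G) [hN : H.Normal] (θ : H → ℂ) (h : H) :
    indFun H θ (h : G) = (Nat.card H : ℂ)⁻¹ * ∑ x : G, conjFun H x θ h := by
  unfold indFun
  congr 1
  rw [← Equiv.sum_comp (Equiv.inv G)]
  apply Finset.sum_congr rfl
  intro x _
  rw [conjFun_apply]
  have hmem : (Equiv.inv G x)⁻¹ * (h : G) * (Equiv.inv G x) ∈ H := by
    have := hN.conj_mem h h.2 x
    simpa using this
  rw [Cfsg.Agent.Helper3.extendByZero_of_mem H θ hmem]
  congr 1
  apply Subtype.ext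
  simp

/-- Induction from a conjugate function gives the same induced function. -/
theorem indFun_conjFun [Fintype G] (H : Subgroup G) [hN : H.Normal] (g : G) (θ : H → ℂ) :
    indFun H (conjFun H g θ) = indFun H θ := by
  funext y
  unfold indFun
  congr 1
  rw [← Equiv.sum_comp (Equiv.mulRight g⁻¹) (fun x : G => extendByZero H θ (x⁻¹ * y * x))]
  apply Finset.sum_congr rfl
  intro x _
  by_cases hx : x⁻¹ * y * x ∈ H
  · rw [Cfsg.Agent.Helper3.extendByZero_of_mem H _ hx, conjFun_apply]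
    have hmem : (Equiv.mulRight g⁻¹ x)⁻¹ * y * (Equiv.mulRight g⁻¹ x) ∈ H := by
      have := hN.conj_mem _ hx g
      simpa [mul_assoc] using this
    rw [Cfsg.Agent.Helper3.extendByZero_of_mem H θ hmem]
    congr 1
    apply Subtype.ext
    simp [mul_assoc]
  · rw [Cfsg.Agent.Helper3.extendByZero_of_not_mem H _ hx]
    have hmem : (Equiv.mulRight g⁻¹ x)⁻¹ * y * (Equiv.mulRight g⁻¹ x) ∉ H := by
      intro h
      apply hx
      have := hN.conj_mem _ h g⁻¹
      simpa [mul_assoc] using this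
    rw [Cfsg.Agent.Helper3.extendByZero_of_not_mem H θ hmem]

/-- The value at `1` of an induced function. -/
theorem indFun_one [Fintype G] (T : Subgroup G) (ψ : T → ℂ) :
    indFun T ψ 1 = (Nat.card G : ℂ) / (Nat.card T : ℂ) * ψ 1 := by
  unfold indFun
  have h1 : ∀ x : G, extendByZero T ψ (x⁻¹ * 1 * x) = ψ 1 := by
    intro x
    have hmem : x⁻¹ * 1 * x ∈ T := by simp
    rw [Cfsg.Agent.Helper3.extendByZero_of_mem T ψ hmem]
    congr 1
    apply Subtype.ext
    simp
  simp only [h1, Finset.sum_const, Finset.card_univ, nsmul_eq_mul, Nat.card_eq_fintype_card]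
  ring

/-- Orbit counting: the sum of all conjugates is the order of the stabilizer times the sum of the
distinct conjugates. -/
theorem sum_conjFun_eq [Fintype G] (H : Subgroup G) [hN : H.Normal] (θ : H → ℂ) :
    ∑ x : G, conjFun H x θ = (Nat.card {g : G // conjFun H g θ = θ} : ℂ) •
      ∑ᶠ ψ ∈ {ψ : H → ℂ | ∃ g : G, ψ = conjFun H g θ}, ψ := by
  classical
  have hset : {ψ : H → ℂ | ∃ g : G, ψ = conjFun H g θ} =
      ((Finset.univ.image (fun x : G => conjFun H x θ) : Finset (H → ℂ)) : Set (H → ℂ)) := by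
    ext ψ
    rw [Finset.mem_coe, Finset.mem_image]
    constructor
    · rintro ⟨g, rfl⟩
      exact ⟨g, Finset.mem_univ _, rfl⟩
    · rintro ⟨g, -, rfl⟩
      exact ⟨g, rfl⟩
  rw [hset, finsum_mem_coe_finset, Finset.smul_sum]
  have hcomp := Finset.sum_comp (s := (Finset.univ : Finset G)) (fun ψ : H → ℂ => ψ)
    (fun x : G => conjFun H x θ)
  rw [hcomp]
  apply Finset.sum_congr rfl
  intro ψ hψ
  rw [Finset.mem_image] at hψ
  obtain ⟨g₀, -, rfl⟩ := hψ
  have hcard : (Finset.univ.filter (fun a : G => conjFun H a θ = conjFun H g₀ θ)).card =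
      Nat.card {g : G // conjFun H g θ = θ} := by
    rw [Nat.card_eq_fintype_card, Fintype.card_subtype]
    apply Finset.card_nbij' (fun a => a * g₀⁻¹) (fun b => b * g₀)
    · intro a ha
      rw [Finset.mem_coe, Finset.mem_filter] at ha ⊢
      refine ⟨Finset.mem_univ _, ?_⟩
      rw [conjFun_mul, ha.2, conjFun_conjFun_inv]
    · intro b hb
      rw [Finset.mem_coe, Finset.mem_filter] at hb ⊢
      refine ⟨Finset.mem_univ _, ?_⟩
      rw [conjFun_mul, hb.2]
    · intro a _; simp
    · intro b _; simp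
  rw [hcard, Nat.cast_smul_eq_nsmul ℂ]

end Cfsg.Agent.Helper75
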