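import Mathlib
import Cfsg.Prelude.Def_Characters
import Cfsg.Agent.Helper75.ConjFun
import Cfsg.Agent.Helper75.InnerLin
import Cfsg.Agent.Helper79.Basic

/-!
# Clifford's theorem in `conjFun` form and the Clifford correspondence (helper75)

* `clifford_restrict`: `χ|_H = ⟨χ|_H, θ⟩ • ∑ᶠ ψ ∈ orbit of θ, ψ`.
* `orbitSum_one`: the orbit sum at `1` is `|G| / |Stab θ| * θ 1`.
* `clifford_conj_of_le`: for `H ≤ T`, `H` normal in `G`, two irreducible constituents of the
  restriction to `H` of an irreducible character of `T` are `T`-conjugate.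
* `restrict_eq_smul_of_invariant`: if `θ` is `T`-invariant and a constituent of `ψ|_H`, then
  `ψ|_H = ⟨ψ|_H, θ⟩ • θ`.
* `clifford_correspondence`: `ψ ∈ Irr(T | θ)`, `χ ∈ Irr(G)` over `ψ`, `T` the inertia group of `θ`:
  `Ind ψ = χ` and `⟨χ|_H, θ⟩ = ⟨ψ|_H, θ⟩`.
-/

set_option autoImplicit false

namespace Cfsg.Agent.Helper75

open Cfsg

variable {G : Type*} [Group G]

theorem charDegree_of_one_eq_nat {K : Type*} [Group K] {Φ : K → ℂ} {n : ℕ} (h : Φ 1 = (n : ℂ)) :
    charDegree Φ = n := by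
  unfold charDegree
  rw [h]
  simp

/-- Clifford's theorem: the restriction of an irreducible character to a normal subgroup is a
multiple of the sum of the distinct conjugates of any of its irreducible constituents. -/
theorem clifford_restrict [Fintype G] (H : Subgroup G) [hN : H.Normal] [Fintype H]
    {χ : G → ℂ} (hχ : IsIrrCharacter G χ) {θ : H → ℂ} (hθ : IsIrrCharacter H θ)
    (hne : classInner (fun n : H => χ n) θ ≠ 0) :
    (fun n : H => χ n) = classInner (fun n : H => χ n) θ •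
      ∑ᶠ ψ ∈ {ψ : H → ℂ | ∃ g : G, ψ = conjFun H g θ}, ψ := by
  classical
  let _ : Fintype (IrrCharacter H) := Fintype.ofFinite _
  have hχc : IsCharacter G χ := Cfsg.Agent.Helper80.isCharacter_of_irr hχ
  have hres : IsCharacter H (fun n : H => χ n) := Cfsg.Agent.Helper79.isCharacter_restrict hχc H
  have hsum := character_eq_sum_irr hres
  set S : Set (H → ℂ) := {ψ : H → ℂ | ∃ g : G, ψ = conjFun H g θ} with hS
  have hSinner : ∀ ψ ∈ S, classInner (fun n : H => χ n) ψ = classInner (fun n : H => χ n) θ := by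
    rintro ψ ⟨g, rfl⟩
    have h1 := classInner_conjFun H g (fun n : H => χ n) θ
    rw [conjFun_restrict H g χ (isCharacter_isClassFunction' hχc)] at h1
    exact h1
  have hSmem : ∀ ψ : IrrCharacter H, classInner (fun n : H => χ n) (ψ : H → ℂ) ≠ 0 →
      (ψ : H → ℂ) ∈ S := by
    intro ψ hψ
    obtain ⟨g, hg⟩ := clifford_irrCharacter H χ hχ (ψ : H → ℂ) θ ψ.2 hθ hψ hne
    refine ⟨g, ?_⟩
    rw [conjFun_eq_comp]
    funext n
    exact hg n
  set T : Finset (IrrCharacter H) := Finset.univ.filter (fun ψ => (ψ : H → ℂ) ∈ S) with hT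
  have hSeq : S = ((T.image (fun ψ : IrrCharacter H => (ψ : H → ℂ)) : Finset (H → ℂ)) :
      Set (H → ℂ)) := by
    ext ψ
    rw [Finset.mem_coe, Finset.mem_image]
    constructor
    · intro hψ
      have hirr : IsIrrCharacter H ψ := by
        obtain ⟨g, rfl⟩ := hψ
        exact isIrrCharacter_conjFun H g hθ
      exact ⟨⟨ψ, hirr⟩, Finset.mem_filter.mpr ⟨Finset.mem_univ _, hψ⟩, rfl⟩
    · rintro ⟨φ, hφ, rfl⟩
      exact (Finset.mem_filter.mp hφ).2
  rw [hSeq, finsum_mem_coe_finset, Finset.sum_image (fun x _ y _ h => Subtype.ext h),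
    Finset.smul_sum]
  conv_lhs => rw [hsum]
  rw [hT, Finset.sum_filter]
  apply Finset.sum_congr rfl
  intro ψ _
  by_cases hψ : (ψ : H → ℂ) ∈ S
  · rw [if_pos hψ, hSinner _ hψ]
  · rw [if_neg hψ]
    have : classInner (fun n : H => χ n) (ψ : H → ℂ) = 0 := by
      by_contra h
      exact hψ (hSmem ψ h)
    rw [this, zero_smul]

/-- The value at `1` of the sum of the distinct conjugates. -/
theorem orbitSum_one [Fintype G] (H : Subgroup G) [hN : H.Normal] (θ : H → ℂ) :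
    (∑ᶠ ψ ∈ {ψ : H → ℂ | ∃ g : G, ψ = conjFun H g θ}, ψ) 1 =
      (Nat.card G : ℂ) / (Nat.card {g : G // conjFun H g θ = θ} : ℂ) * θ 1 := by
  have h := congrFun (sum_conjFun_eq H θ) 1
  rw [Finset.sum_apply, Pi.smul_apply, smul_eq_mul] at h
  have hone : ∀ x : G, conjFun H x θ 1 = θ 1 := by
    intro x
    rw [conjFun_apply]
    congr 1
    apply Subtype.ext
    simp
  simp only [hone, Finset.sum_const, Finset.card_univ, nsmul_eq_mul] at h
  have hc : (Nat.card {g : G // conjFun H g θ = θ} : ℂ) ≠ 0 := by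
    have : Nonempty {g : G // conjFun H g θ = θ} := ⟨⟨1, conjFun_one H θ⟩⟩
    exact_mod_cast (Nat.card_pos (α := {g : G // conjFun H g θ = θ})).ne'
  rw [Nat.card_eq_fintype_card (α := G), div_mul_eq_mul_div, eq_div_iff hc, mul_comm, ← h]

/-- Restriction from `T` to `H ≤ T`. -/
def resTo {H T : Subgroup G} (hHT : H ≤ T) (ψ : T → ℂ) : H → ℂ :=
  fun n => ψ ⟨(n : G), hHT n.2⟩

theorem resTo_apply {H T : Subgroup G} (hHT : H ≤ T) (ψ : T → ℂ) (n : H) :
    resTo hHT ψ n = ψ ⟨(n : G), hHT n.2⟩ := rfl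

theorem isCharacter_resTo {H T : Subgroup G} (hHT : H ≤ T) {ψ : T → ℂ} (hψ : IsCharacter T ψ) :
    IsCharacter H (resTo hHT ψ) :=
  Cfsg.Agent.Helper79.isCharacter_comp hψ (Subgroup.inclusion hHT)

theorem resTo_sum {H T : Subgroup G} (hHT : H ≤ T) {ι : Type*} (s : Finset ι) (f : ι → T → ℂ) :
    resTo hHT (∑ i ∈ s, f i) = ∑ i ∈ s, resTo hHT (f i) := by
  funext n
  rw [resTo_apply, Finset.sum_apply, Finset.sum_apply]
  rfl

theorem resTo_smul {H T : Subgroup G} (hHT : H ≤ T) (c : ℂ) (f : T → ℂ) :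
    resTo hHT (c • f) = c • resTo hHT f := rfl

/-- Inner products over `H.subgroupOf T` and over `H`. -/
theorem classInner_subgroupOf {H T : Subgroup G} (hHT : H ≤ T) [Fintype H]
    [Fintype ↥(H.subgroupOf T)] (ψ : T → ℂ) (θ : H → ℂ) :
    classInner (fun n : ↥(H.subgroupOf T) => ψ n)
      (fun x : ↥(H.subgroupOf T) => θ (Subgroup.subgroupOfEquivOfLe hHT x)) =
      classInner (resTo hHT ψ) θ := by
  unfold classInner
  rw [Nat.card_congr (Subgroup.subgroupOfEquivOfLe hHT).toEquiv]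
  congr 1
  rw [← Equiv.sum_comp (Subgroup.subgroupOfEquivOfLe hHT).toEquiv
    (fun n : H => resTo hHT ψ n * (starRingEnd ℂ) (θ n))]
  rfl

/-- For `H ≤ T` with `H` normal in `G`: two irreducible constituents of the restriction to `H` of
an irreducible character of `T` are conjugate under `T`. -/
theorem clifford_conj_of_le {H T : Subgroup G} [hN : H.Normal] [Fintype H] (hHT : H ≤ T)
    {ψ : T → ℂ} (hψ : IsIrrCharacter T ψ) {θ θ' : H → ℂ} (hθ : IsIrrCharacter H θ)
    (hθ' : IsIrrCharacter H θ') (h : classInner (resTo hHT ψ) θ ≠ 0)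
    (h' : classInner (resTo hHT ψ) θ' ≠ 0) :
    ∃ t : G, t ∈ T ∧ θ = conjFun H t θ' := by
  classical
  have : Finite ↥(H.subgroupOf T) :=
    Finite.of_equiv H (Subgroup.subgroupOfEquivOfLe hHT).symm.toEquiv
  let _ : Fintype ↥(H.subgroupOf T) := Fintype.ofFinite _
  set e := Subgroup.subgroupOfEquivOfLe hHT with he
  have h1 : IsIrrCharacter ↥(H.subgroupOf T) (fun x => θ (e x)) :=
    (Cfsg.Agent.Helper79.isIrrCharacter_mulEquiv e).mpr hθ
  have h2 : IsIrrCharacter ↥(H.subgroupOf T) (fun x => θ' (e x)) :=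
    (Cfsg.Agent.Helper79.isIrrCharacter_mulEquiv e).mpr hθ'
  have h3 : classInner (fun n : ↥(H.subgroupOf T) => ψ n) (fun x => θ (e x)) ≠ 0 := by
    rw [he, classInner_subgroupOf hHT ψ θ]; exact h
  have h4 : classInner (fun n : ↥(H.subgroupOf T) => ψ n) (fun x => θ' (e x)) ≠ 0 := by
    rw [he, classInner_subgroupOf hHT ψ θ']; exact h'
  obtain ⟨g, hg⟩ := clifford_irrCharacter (H.subgroupOf T) ψ hψ _ _ h1 h2 h3 h4
  refine ⟨(g : G), g.2, ?_⟩
  funext m
  have h5 := hg (e.symm m)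
  simp only [MulEquiv.apply_symm_apply] at h5
  rw [h5, conjFun_apply]
  congr 1

/-- If `θ` is invariant under `T` and is a constituent of `ψ|_H` for an irreducible character `ψ`
of `T`, then `ψ|_H` is a multiple of `θ`. -/
theorem restrict_eq_smul_of_invariant {H T : Subgroup G} [hN : H.Normal] [Fintype H]
    (hHT : H ≤ T) {ψ : T → ℂ} (hψ : IsIrrCharacter T ψ) {θ : H → ℂ} (hθ : IsIrrCharacter H θ)
    (hinv : ∀ t ∈ T, conjFun H t θ = θ) (h : classInner (resTo hHT ψ) θ ≠ 0) :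
    resTo hHT ψ = classInner (resTo hHT ψ) θ • θ := by
  classical
  let _ : Fintype (IrrCharacter H) := Fintype.ofFinite _
  have hres : IsCharacter H (resTo hHT ψ) :=
    isCharacter_resTo hHT (Cfsg.Agent.Helper80.isCharacter_of_irr hψ)
  have hsum := character_eq_sum_irr hres
  conv_lhs => rw [hsum]
  rw [Finset.sum_eq_single (⟨θ, hθ⟩ : IrrCharacter H)]
  · intro θ' _ hθ'
    by_cases h0 : classInner (resTo hHT ψ) (θ' : H → ℂ) = 0
    · rw [h0, zero_smul]
    · exfalso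
      obtain ⟨t, ht, hconj⟩ := clifford_conj_of_le hHT hψ θ'.2 hθ h0 h
      rw [hinv t ht] at hconj
      exact hθ' (Subtype.ext hconj)
  · intro h; exact absurd (Finset.mem_univ _) h

/-- The Clifford correspondence: let `T` be the inertia group of the irreducible character `θ` of
the normal subgroup `H`, `ψ` an irreducible character of `T` over `θ` and `χ` an irreducible
character of `G` over `ψ`.  Then `χ` is induced from `ψ` and `θ` has the same multiplicity in
`χ|_H` and in `ψ|_H`. -/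
theorem clifford_correspondence [Fintype G] {H T : Subgroup G} [hN : H.Normal] [Fintype H]
    [Fintype T] (hHT : H ≤ T) {θ : H → ℂ} (hθ : IsIrrCharacter H θ)
    (hT : ∀ g : G, g ∈ T ↔ conjFun H g θ = θ)
    {ψ : T → ℂ} (hψ : IsIrrCharacter T ψ) {χ : G → ℂ} (hχ : IsIrrCharacter G χ)
    (hf : classInner (resTo hHT ψ) θ ≠ 0) (hc : classInner (fun t : T => χ t) ψ ≠ 0) :
    indFun T ψ = χ ∧ classInner (fun n : H => χ n) θ = classInner (resTo hHT ψ) θ := by
  classical
  let _ : Fintype (IrrCharacter T) := Fintype.ofFinite _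
  have hχc : IsCharacter G χ := Cfsg.Agent.Helper80.isCharacter_of_irr hχ
  have hψc : IsCharacter T ψ := Cfsg.Agent.Helper80.isCharacter_of_irr hψ
  have hθc : IsCharacter H θ := Cfsg.Agent.Helper80.isCharacter_of_irr hθ
  have hA := restrict_eq_smul_of_invariant hHT hψ hθ (fun t ht => (hT t).mp ht) hf
  obtain ⟨fN, hfN⟩ := Cfsg.Agent.Helper3.classInner_isCharacter_nat (isCharacter_resTo hHT hψc) hθc
  have hresT : IsCharacter T (fun t : T => χ t) := Cfsg.Agent.Helper79.isCharacter_restrict hχc T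
  obtain ⟨m, hm⟩ := exists_nat_mult hresT
  have hsumT := character_eq_sum_irr hresT
  have hk : ∀ ψ'' : IrrCharacter T, ∃ k : ℕ,
      classInner (resTo hHT (ψ'' : T → ℂ)) θ = (k : ℂ) := fun ψ'' =>
    Cfsg.Agent.Helper3.classInner_isCharacter_nat
      (isCharacter_resTo hHT (Cfsg.Agent.Helper80.isCharacter_of_irr ψ''.2)) hθc
  choose k hk using hk
  have he : classInner (fun n : H => χ n) θ =
      ((∑ ψ'' : IrrCharacter T, m ψ'' * k ψ'' : ℕ) : ℂ) := by
    have h1 : (fun n : H => χ n) = resTo hHT (fun t : T => χ t) := rfl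
    rw [h1]
    conv_lhs => rw [hsumT]
    rw [resTo_sum, classInner_sum_left]
    push_cast
    apply Finset.sum_congr rfl
    intro ψ'' _
    rw [resTo_smul, classInner_smul_left, hm, hk]
  have hmψ : 1 ≤ m ⟨ψ, hψ⟩ := by
    rcases Nat.eq_zero_or_pos (m ⟨ψ, hψ⟩) with h0 | hpos
    · exfalso
      apply hc
      have := hm ⟨ψ, hψ⟩
      rw [h0] at this
      simpa using this
    · exact hpos
  have hkψ : k ⟨ψ, hψ⟩ = fN := by
    have h2 : (fN : ℂ) = (k ⟨ψ, hψ⟩ : ℂ) := hfN.symm.trans (hk ⟨ψ, hψ⟩)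
    exact_mod_cast h2.symm
  have hle : fN ≤ ∑ ψ'' : IrrCharacter T, m ψ'' * k ψ'' := by
    calc fN = 1 * k ⟨ψ, hψ⟩ := by rw [hkψ, one_mul]
      _ ≤ m ⟨ψ, hψ⟩ * k ⟨ψ, hψ⟩ := Nat.mul_le_mul_right _ hmψ
      _ ≤ _ := Finset.single_le_sum (f := fun ψ'' : IrrCharacter T => m ψ'' * k ψ'')
          (fun i _ => Nat.zero_le _) (Finset.mem_univ _)
  set eN := ∑ ψ'' : IrrCharacter T, m ψ'' * k ψ'' with heN
  have hθ1 : θ 1 = (charDegree θ : ℂ) := Cfsg.Agent.Helper80.isCharacter_one_eq hθc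
  have hcardT : Nat.card {g : G // conjFun H g θ = θ} = Nat.card T :=
    (Nat.card_congr (Equiv.subtypeEquivRight hT)).symm
  have hTne : (Nat.card T : ℂ) ≠ 0 := by exact_mod_cast (Nat.card_pos (α := T)).ne'
  have hquot : (Nat.card G : ℂ) / (Nat.card T : ℂ) = (T.index : ℂ) := by
    rw [← Subgroup.index_mul_card T]
    push_cast
    field_simp
  have hene : classInner (fun n : H => χ n) θ ≠ 0 := by
    rw [he]
    have : 0 < eN := lt_of_lt_of_le (by
      rcases Nat.eq_zero_or_pos fN with h0 | hpos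
      · exfalso; apply hf; rw [hfN, h0]; simp
      · exact hpos) hle
    exact_mod_cast this.ne'
  have hχ1 : χ 1 = ((T.index * eN * charDegree θ : ℕ) : ℂ) := by
    have h1 := congrFun (clifford_restrict H hχ hθ hene) 1
    rw [Pi.smul_apply, orbitSum_one, hcardT, hquot, he, hθ1, smul_eq_mul] at h1
    rw [OneMemClass.coe_one] at h1
    rw [h1]
    push_cast
    ring
  have hψ1 : ψ 1 = ((fN * charDegree θ : ℕ) : ℂ) := by
    have h1 := congrFun hA 1
    rw [resTo_apply, Pi.smul_apply, hfN, hθ1, smul_eq_mul] at h1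
    have h2 : (⟨((1 : H) : G), hHT (1 : H).2⟩ : T) = 1 := Subtype.ext rfl
    rw [h2] at h1
    rw [h1]
    push_cast
    ring
  have hind1 : indFun T ψ 1 = ((T.index * fN * charDegree θ : ℕ) : ℂ) := by
    rw [indFun_one, hquot, hψ1]
    push_cast
    ring
  have hindc : IsCharacter G (indFun T ψ) := Cfsg.Agent.Helper3.isCharacter_indFun T ψ hψc
  have hconst : classInner (indFun T ψ) χ ≠ 0 := by
    rw [Cfsg.Agent.Helper3.frobenius_reciprocity T ψ χ (isCharacter_isClassFunction' hχc),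
      classInner_conj_symm (fun t : T => χ t) ψ]
    exact (map_ne_zero _).mpr hc
  have hdeg1 : charDegree (indFun T ψ) = T.index * fN * charDegree θ :=
    charDegree_of_one_eq_nat hind1
  have hdeg2 : charDegree χ = T.index * eN * charDegree θ :=
    charDegree_of_one_eq_nat hχ1
  have hdle : charDegree (indFun T ψ) ≤ charDegree χ := by
    rw [hdeg1, hdeg2]
    exact Nat.mul_le_mul_right _ (Nat.mul_le_mul_left _ hle)
  have hEq : indFun T ψ = χ := eq_irr_of_constituent_of_le hindc ⟨χ, hχ⟩ hconst hdle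
  refine ⟨hEq, ?_⟩
  have h3 : T.index * fN * charDegree θ = T.index * eN * charDegree θ := by
    rw [← hdeg1, ← hdeg2, hEq]
  have hidxpos : 0 < T.index := Nat.pos_of_ne_zero Subgroup.index_ne_zero_of_finite
  have hdθpos : 0 < charDegree θ := Cfsg.Agent.Helper80.irr_degree_pos ⟨θ, hθ⟩
  have h4 : fN = eN := by
    have := Nat.eq_of_mul_eq_mul_right hdθpos h3
    exact Nat.eq_of_mul_eq_mul_left hidxpos this
  rw [he, hfN, h4]

/-- Multiplicities under restriction `G → T → H`: the multiplicity of `θ` in `χ|_H` is the sum over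
the irreducible characters `ψ''` of `T` of `⟨χ|_T, ψ''⟩ * ⟨ψ''|_H, θ⟩`, all of them natural
numbers. -/
theorem exists_restrict_mults [Fintype G] {H T : Subgroup G} [Fintype H] [Fintype T]
    [Fintype (IrrCharacter T)]
    (hHT : H ≤ T) {θ : H → ℂ} (hθc : IsCharacter H θ) {χ : G → ℂ} (hχc : IsCharacter G χ) :
    ∃ m k : IrrCharacter T → ℕ,
      (∀ ψ : IrrCharacter T, classInner (fun t : T => χ t) (ψ : T → ℂ) = (m ψ : ℂ)) ∧
      (∀ ψ : IrrCharacter T, classInner (resTo hHT (ψ : T → ℂ)) θ = (k ψ : ℂ)) ∧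
      classInner (fun n : H => χ n) θ = ((∑ ψ : IrrCharacter T, m ψ * k ψ : ℕ) : ℂ) := by
  classical
  have hresT : IsCharacter T (fun t : T => χ t) := Cfsg.Agent.Helper79.isCharacter_restrict hχc T
  obtain ⟨m, hm⟩ := exists_nat_mult hresT
  have hsumT := character_eq_sum_irr hresT
  have hk : ∀ ψ'' : IrrCharacter T, ∃ k : ℕ,
      classInner (resTo hHT (ψ'' : T → ℂ)) θ = (k : ℂ) := fun ψ'' =>
    Cfsg.Agent.Helper3.classInner_isCharacter_nat
      (isCharacter_resTo hHT (Cfsg.Agent.Helper80.isCharacter_of_irr ψ''.2)) hθc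
  choose k hk using hk
  refine ⟨m, k, hm, hk, ?_⟩
  have h1 : (fun n : H => χ n) = resTo hHT (fun t : T => χ t) := rfl
  rw [h1]
  conv_lhs => rw [hsumT]
  rw [resTo_sum, classInner_sum_left]
  push_cast
  apply Finset.sum_congr rfl
  intro ψ'' _
  rw [resTo_smul, classInner_smul_left, hm, hk]

/-- If `θ` occurs in `χ|_H`, then some irreducible constituent `ψ` of `χ|_T` lies over `θ`. -/
theorem exists_irr_over [Fintype G] {H T : Subgroup G} [Fintype H] [Fintype T]
    (hHT : H ≤ T) {θ : H → ℂ} (hθc : IsCharacter H θ) {χ : G → ℂ} (hχc : IsCharacter G χ)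
    (hne : classInner (fun n : H => χ n) θ ≠ 0) :
    ∃ ψ : T → ℂ, IsIrrCharacter T ψ ∧ classInner (fun t : T => χ t) ψ ≠ 0 ∧
      classInner (resTo hHT ψ) θ ≠ 0 := by
  classical
  let _ : Fintype (IrrCharacter T) := Fintype.ofFinite _
  obtain ⟨m, k, hm, hk, he⟩ := exists_restrict_mults hHT hθc hχc
  rw [he] at hne
  have hne' : (∑ ψ : IrrCharacter T, m ψ * k ψ) ≠ 0 := by
    intro h; apply hne; rw [h]; simp
  obtain ⟨ψ, -, hψ⟩ := Finset.exists_ne_zero_of_sum_ne_zero hne'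
  refine ⟨ψ, ψ.2, ?_, ?_⟩
  · rw [hm]
    exact_mod_cast (Nat.mul_ne_zero_iff.mp hψ).1
  · rw [hk]
    exact_mod_cast (Nat.mul_ne_zero_iff.mp hψ).2

/-- Two distinct irreducible constituents of `χ|_T` contribute separately to the multiplicity of
`θ` in `χ|_H`. -/
theorem restrict_mult_add_le [Fintype G] {H T : Subgroup G} [Fintype H] [Fintype T]
    (hHT : H ≤ T) {θ : H → ℂ} (hθc : IsCharacter H θ) {χ : G → ℂ} (hχc : IsCharacter G χ)
    {ψ ψ' : T → ℂ} (hψ : IsIrrCharacter T ψ) (hψ' : IsIrrCharacter T ψ') (hne : ψ ≠ ψ')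
    (hc : classInner (fun t : T => χ t) ψ ≠ 0) (hc' : classInner (fun t : T => χ t) ψ' ≠ 0) :
    ∃ e f f' : ℕ, classInner (fun n : H => χ n) θ = (e : ℂ) ∧
      classInner (resTo hHT ψ) θ = (f : ℂ) ∧ classInner (resTo hHT ψ') θ = (f' : ℂ) ∧
      f + f' ≤ e := by
  classical
  let _ : Fintype (IrrCharacter T) := Fintype.ofFinite _
  obtain ⟨m, k, hm, hk, he⟩ := exists_restrict_mults hHT hθc hχc
  refine ⟨_, k ⟨ψ, hψ⟩, k ⟨ψ', hψ'⟩, he, hk ⟨ψ, hψ⟩, hk ⟨ψ', hψ'⟩, ?_⟩
  have hm1 : 1 ≤ m ⟨ψ, hψ⟩ := by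
    rcases Nat.eq_zero_or_pos (m ⟨ψ, hψ⟩) with h0 | hpos
    · exfalso; apply hc
      have := hm ⟨ψ, hψ⟩
      rw [h0] at this
      simpa using this
    · exact hpos
  have hm2 : 1 ≤ m ⟨ψ', hψ'⟩ := by
    rcases Nat.eq_zero_or_pos (m ⟨ψ', hψ'⟩) with h0 | hpos
    · exfalso; apply hc'
      have := hm ⟨ψ', hψ'⟩
      rw [h0] at this
      simpa using this
    · exact hpos
  have hneI : (⟨ψ, hψ⟩ : IrrCharacter T) ≠ ⟨ψ', hψ'⟩ := fun h => hne (congrArg Subtype.val h)
  have hpair : ∑ φ ∈ ({⟨ψ, hψ⟩, ⟨ψ', hψ'⟩} : Finset (IrrCharacter T)), m φ * k φ ≤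
      ∑ φ : IrrCharacter T, m φ * k φ :=
    Finset.sum_le_sum_of_subset (Finset.subset_univ _)
  rw [Finset.sum_pair hneI] at hpair
  have h1 : k ⟨ψ, hψ⟩ ≤ m ⟨ψ, hψ⟩ * k ⟨ψ, hψ⟩ := Nat.le_mul_of_pos_left _ hm1
  have h2 : k ⟨ψ', hψ'⟩ ≤ m ⟨ψ', hψ'⟩ * k ⟨ψ', hψ'⟩ := Nat.le_mul_of_pos_left _ hm2
  omega

/-- A nonzero-degree character has an irreducible constituent. -/
theorem exists_irr_constituent {K : Type*} [Group K] [Fintype K] {Φ : K → ℂ}
    (hΦ : IsCharacter K Φ) (h1 : Φ 1 ≠ 0) :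
    ∃ χ : K → ℂ, IsIrrCharacter K χ ∧ classInner Φ χ ≠ 0 := by
  classical
  let _ : Fintype (IrrCharacter K) := Fintype.ofFinite _
  by_contra hcon
  push Not at hcon
  have hsum := character_eq_sum_irr hΦ
  have : Φ = 0 := by
    rw [hsum]
    apply Finset.sum_eq_zero
    intro χ _
    rw [hcon χ χ.2, zero_smul]
  apply h1
  rw [this]
  rfl

end Cfsg.Agent.Helper75
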