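import Mathlib

/-!
# Lattice bound: group-theoretic preliminaries (helper75)

`x` of prime order `p` with `C_G(x) = ⟨x⟩ K`, `K` a `p'`-group: `K` is the set of `p'`-elements of
`C_G(x)`, it is normalized by `N_G(⟨x⟩)`, and `N_G(⟨x⟩) = ⟨z⟩ C_G(x)` for some `z` with
`z ^ (p - 1) ∈ C_G(x)`.
-/

set_option autoImplicit false

namespace Cfsg.Agent.Helper75

universe u

variable {G : Type u} [Group G] [Finite G]

omit [Finite G] in
theorem lat_mem_K_iff (p : ℕ) [Fact p.Prime] (x : G) (hx : orderOf x = p) (K : Subgroup G)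
    (hK : ¬ p ∣ Nat.card K)
    (hC : ∀ g : G, g * x = x * g ↔ ∃ i : ℕ, ∃ k ∈ K, g = x ^ i * k) (g : G) :
    g ∈ K ↔ g * x = x * g ∧ ¬ p ∣ orderOf g := by
  have hp : p.Prime := Fact.out
  constructor
  · intro hg
    refine ⟨(hC g).mpr ⟨0, g, hg, by simp⟩, fun h => hK (h.trans ?_)⟩
    exact Subgroup.orderOf_dvd_natCard K hg
  · rintro ⟨hcomm, hord⟩
    obtain ⟨i, k, hk, rfl⟩ := (hC g).mp hcomm
    have hkx : k * x = x * k := (hC k).mpr ⟨0, k, hk, by simp⟩
    have hcomm' : Commute (x ^ i) k := (Commute.pow_left (show Commute x k from hkx.symm) i)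
    have hkn : k ^ Nat.card K = 1 := by
      have := pow_card_eq_one' (G := K) (x := ⟨k, hk⟩)
      exact congrArg Subtype.val this
    have h1 : (x ^ i * k) ^ Nat.card K = x ^ (i * Nat.card K) := by
      rw [hcomm'.mul_pow, hkn, mul_one, ← pow_mul]
    have h2 : orderOf (x ^ (i * Nat.card K)) ∣ orderOf (x ^ i * k) := by
      rw [← h1]; exact orderOf_pow_dvd _
    have h3 : orderOf (x ^ (i * Nat.card K)) ∣ p := by
      apply orderOf_dvd_of_pow_eq_one
      rw [← pow_mul, mul_comm, pow_mul, ← hx, pow_orderOf_eq_one, one_pow]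
    have h4 : orderOf (x ^ (i * Nat.card K)) = 1 := by
      rcases (Nat.dvd_prime hp).mp h3 with h | h
      · exact h
      · exact absurd (h ▸ h2) hord
    rw [orderOf_eq_one_iff] at h4
    have h5 : p ∣ i * Nat.card K := by
      rw [← hx]; exact orderOf_dvd_of_pow_eq_one h4
    have h6 : p ∣ i := (hp.dvd_mul.mp h5).resolve_right hK
    have h7 : x ^ i = 1 := by
      rw [← hx] at h6
      exact orderOf_dvd_iff_pow_eq_one.mp h6
    rw [h7, one_mul]
    exact hk

theorem lat_conj_pow (x : G) (r : G)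
    (hr : r ∈ Subgroup.normalizer ((Subgroup.zpowers x : Subgroup G) : Set G)) :
    ∃ j : ℕ, r * x * r⁻¹ = x ^ j := by
  have h1 : r * x * r⁻¹ ∈ Subgroup.zpowers x :=
    (Subgroup.mem_normalizer_iff.mp hr x).mp (Subgroup.mem_zpowers x)
  rw [← (isOfFinOrder_of_finite x).mem_powers_iff_mem_zpowers] at h1
  obtain ⟨j, hj⟩ := (Submonoid.mem_powers_iff _ _).mp h1
  exact ⟨j, hj.symm⟩

theorem lat_K_normal (p : ℕ) [Fact p.Prime] (x : G) (hx : orderOf x = p) (K : Subgroup G)
    (hK : ¬ p ∣ Nat.card K)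
    (hC : ∀ g : G, g * x = x * g ↔ ∃ i : ℕ, ∃ k ∈ K, g = x ^ i * k) (r : G)
    (hr : r ∈ Subgroup.normalizer ((Subgroup.zpowers x : Subgroup G) : Set G))
    (k : G) (hk : k ∈ K) : r * k * r⁻¹ ∈ K := by
  rw [lat_mem_K_iff p x hx K hK hC]
  obtain ⟨hkx, hko⟩ := (lat_mem_K_iff p x hx K hK hC k).mp hk
  obtain ⟨j, hj⟩ := lat_conj_pow x r⁻¹ (inv_mem hr)
  rw [inv_inv] at hj
  constructor
  · have hkj : k * x ^ j = x ^ j * k := (Commute.pow_right (show Commute k x from hkx) j)
    have h1 : r * x ^ j * r⁻¹ = x := by rw [← hj]; group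
    calc r * k * r⁻¹ * x = r * (k * (r⁻¹ * x * r)) * r⁻¹ := by group
      _ = r * (k * x ^ j) * r⁻¹ := by rw [hj]
      _ = r * (x ^ j * k) * r⁻¹ := by rw [hkj]
      _ = (r * x ^ j * r⁻¹) * (r * k * r⁻¹) := by group
      _ = x * (r * k * r⁻¹) := by rw [h1]
  · have : orderOf (r * k * r⁻¹) = orderOf k := by
      have := (MulAut.conj r).orderOf_eq k
      rwa [MulAut.conj_apply] at this
    rw [this]; exact hko

theorem lat_exists_gen (p : ℕ) [Fact p.Prime] (x : G) (hx : orderOf x = p) :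
    ∃ z ∈ Subgroup.normalizer ((Subgroup.zpowers x : Subgroup G) : Set G),
      z ^ (p - 1) * x = x * z ^ (p - 1) ∧
      ∀ r ∈ Subgroup.normalizer ((Subgroup.zpowers x : Subgroup G) : Set G),
        ∃ l : ℕ, ∃ c : G, c * x = x * c ∧ r = z ^ l * c := by
  classical
  have hp : p.Prime := Fact.out
  have hcardP : Nat.card (Subgroup.zpowers x) = p := by rw [Nat.card_zpowers, hx]
  haveI : Fact (Nat.card (Subgroup.zpowers x)).Prime := ⟨by rw [hcardP]; exact hp⟩
  haveI : IsCyclic (Subgroup.zpowers x) := isCyclic_of_prime_card hcardP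
  haveI : IsCyclic (MulAut (Subgroup.zpowers x)) :=
    isCyclic_of_surjective (IsCyclic.mulAutMulEquiv (Subgroup.zpowers x)).symm
      (MulEquiv.surjective _)
  haveI : IsCyclic (Subgroup.zpowers x).normalizerMonoidHom.range := Subgroup.isCyclic _
  obtain ⟨g₀, hg₀⟩ := IsCyclic.exists_generator
    (α := (Subgroup.zpowers x).normalizerMonoidHom.range)
  obtain ⟨z, hz⟩ := g₀.2
  have hker : ∀ n : Subgroup.normalizer ((Subgroup.zpowers x : Subgroup G) : Set G),
      (Subgroup.zpowers x).normalizerMonoidHom n = 1 → (n : G) * x = x * (n : G) := by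
    intro n hn
    have h1 : n ∈ (Subgroup.zpowers x).normalizerMonoidHom.ker := hn
    rw [Subgroup.normalizerMonoidHom_ker, Subgroup.mem_subgroupOf,
      Subgroup.mem_centralizer_iff] at h1
    exact (h1 x (Subgroup.mem_zpowers x)).symm
  refine ⟨z, z.2, ?_, ?_⟩
  · have h1 : Nat.card (MulAut (Subgroup.zpowers x)) = p - 1 := by
      rw [IsCyclic.card_mulAut, hcardP, Nat.totient_prime hp]
    have h2 : (Subgroup.zpowers x).normalizerMonoidHom (z ^ (p - 1)) = 1 := by
      rw [map_pow, ← h1]; exact pow_card_eq_one'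
    have := hker (z ^ (p - 1)) h2
    simpa using this
  · intro r hr
    have h1 : (⟨(Subgroup.zpowers x).normalizerMonoidHom ⟨r, hr⟩, ⟨_, rfl⟩⟩ :
        (Subgroup.zpowers x).normalizerMonoidHom.range) ∈ Subgroup.zpowers g₀ := hg₀ _
    rw [← (isOfFinOrder_of_finite g₀).mem_powers_iff_mem_zpowers] at h1
    obtain ⟨l, hl⟩ := (Submonoid.mem_powers_iff _ _).mp h1
    have h2 : (Subgroup.zpowers x).normalizerMonoidHom (z ^ l)
        = (Subgroup.zpowers x).normalizerMonoidHom ⟨r, hr⟩ := by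
      have := congrArg Subtype.val hl
      rw [map_pow, hz]
      simpa using this
    have h3 : (Subgroup.zpowers x).normalizerMonoidHom ((z ^ l)⁻¹ * ⟨r, hr⟩) = 1 := by
      rw [map_mul, map_inv, h2, inv_mul_cancel]
    have h4 := hker _ h3
    refine ⟨l, ((z : G) ^ l)⁻¹ * r, ?_, by group⟩
    simpa using h4

end Cfsg.Agent.Helper75
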