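import Cfsg.Agent.Helper75.Contrib

/-!
# Contributions of a subsection (helper75)

Let `H ≤ G`, `y ∈ Z(H)` a `p`-element, `b` a block of `H` of defect `d`.  For irreducible
characters `χ, ψ` of `G` put `F_χ` = the `b`-part of `c ↦ χ(y c)` and

`contrib H y b p d χ ψ = p^d |H|⁻¹ Σ_{s p-regular} F_χ(s) conj F_ψ(s)`.

* `contrib_eq_sum`: expansion along `b`.
* `contrib_isIntegral`: it is an algebraic integer.
* `contrib_mem_cycField`: it lies in the `|G|`-th cyclotomic field.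
* `contrib_not_memLocalIdeal`: if `b` induces `B` and `χ, ψ ∈ B` have height zero, the
  contribution is a local unit, in particular nonzero.
-/

set_option autoImplicit false
open Cfsg
open scoped ComplexConjugate

namespace Cfsg.Agent.Helper75

universe u

/-- The contribution `p^d |H|⁻¹ Σ_{s p-regular} F_χ(s) conj F_ψ(s)`. -/
noncomputable def contrib {G : Type u} [Group G] (H : Subgroup G) [Fintype H] (y : G)
    (b : Set (Cfsg.IrrCharacter H)) (p d : ℕ) (χ ψ : G → ℂ) : ℂ :=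
  (p : ℂ) ^ d / (Nat.card H : ℂ) * Helper77.pregInner p
    (Cfsg.blockPart b (fun c : H => χ (y * c))) (Cfsg.blockPart b (fun c : H => ψ (y * c)))

theorem irr_mem_cycField {G : Type u} [Group G] [Finite G] (χ : Cfsg.IrrCharacter G) (g : G) :
    (χ : G → ℂ) g ∈ cycField (Nat.card G) := by
  obtain ⟨n, ρ, -, hχ⟩ := χ.2
  rw [← hχ]
  exact character_mem_cycField ρ g

theorem irr_subgroup_mem_cycField {G : Type u} [Group G] [Finite G] (H : Subgroup G)
    (θ : Cfsg.IrrCharacter H) (c : H) : (θ : H → ℂ) c ∈ cycField (Nat.card G) :=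
  cycField_mono Nat.card_pos.ne' (Subgroup.card_subgroup_dvd_card H) (irr_mem_cycField θ c)

theorem blockPart_filter_apply {K : Type u} [Group K] [Fintype K] [Fintype (Cfsg.IrrCharacter K)]
    (b : Set (Cfsg.IrrCharacter K)) [DecidablePred (fun θ => θ ∈ b)] (f : K → ℂ) (s : K) :
    Cfsg.blockPart b f s = ∑ θ ∈ Finset.univ.filter (fun θ : Cfsg.IrrCharacter K => θ ∈ b),
      Cfsg.classInner f (θ : K → ℂ) * (θ : K → ℂ) s := by
  rw [Helper73.blockPart_eq_finsum, finsum_mem_eq_finite_toFinset_sum _ (Set.toFinite b)]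
  refine Finset.sum_congr ?_ (fun _ _ => rfl)
  ext θ
  simp

theorem pregInner_sum_sum {K : Type u} [Group K] [Fintype K] (p : ℕ) {ι : Type*} (s : Finset ι)
    (a a' : ι → ℂ) (f : ι → K → ℂ) :
    Helper77.pregInner p (fun x => ∑ i ∈ s, a i * f i x) (fun x => ∑ j ∈ s, a' j * f j x)
      = ∑ i ∈ s, ∑ j ∈ s, a i * conj (a' j) * Helper77.pregInner p (f i) (f j) := by
  unfold Helper77.pregInner
  have h1 : ∀ x : K, (if ¬ p ∣ orderOf x then
        (∑ i ∈ s, a i * f i x) * conj (∑ j ∈ s, a' j * f j x) else 0)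
      = ∑ i ∈ s, ∑ j ∈ s, a i * conj (a' j) *
          (if ¬ p ∣ orderOf x then f i x * conj (f j x) else 0) := by
    intro x
    by_cases hx : p ∣ orderOf x
    · simp [hx]
    · simp only [hx, not_false_eq_true, if_true]
      rw [map_sum, Finset.sum_mul_sum]
      refine Finset.sum_congr rfl fun i _ => Finset.sum_congr rfl fun j _ => ?_
      rw [map_mul]
      ring
  rw [Finset.sum_congr rfl (fun x _ => h1 x), Finset.sum_comm]
  refine Finset.sum_congr rfl fun i _ => ?_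
  rw [Finset.sum_comm]
  refine Finset.sum_congr rfl fun j _ => ?_
  rw [Finset.mul_sum]

section sub

variable {G : Type u} [Group G] [Fintype G]

omit [Fintype G] in
/-- The coefficient of `θ` in `c ↦ χ(y c)` is a `p`-power root of unity times the multiplicity
of `θ` in the restriction of `χ`. -/
theorem secCoeff_eq (H : Subgroup G) [Fintype H] (p : ℕ) (y : G) (hyH : y ∈ H)
    (hcent : ∀ h : H, y * (h : G) = (h : G) * y) (hyp : ∃ k : ℕ, orderOf y = p ^ k)
    (χ : Cfsg.IrrCharacter G) (θ : Cfsg.IrrCharacter H) :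
    ∃ ε : ℂ, (∃ k : ℕ, ε ^ p ^ k = 1) ∧ ∃ a : ℕ,
      Cfsg.classInner (fun c : H => (χ : G → ℂ) (y * c)) (θ : H → ℂ) = ε * (a : ℂ) ∧
      Cfsg.classInner (fun h : H => (χ : G → ℂ) h) (θ : H → ℂ) = (a : ℂ) := by
  have hz : (⟨y, hyH⟩ : H) ∈ Subgroup.center H := by
    rw [Subgroup.mem_center_iff]
    intro h
    exact Subtype.ext (hcent h).symm
  have hzp : ∃ k : ℕ, orderOf (⟨y, hyH⟩ : H) = p ^ k := by
    obtain ⟨k, hk⟩ := hyp
    exact ⟨k, by rw [← hk, ← Subgroup.orderOf_coe]⟩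
  obtain ⟨ε, hε, h1⟩ := Helper73.exists_twist_scalar p (⟨y, hyH⟩ : H) hz hzp
    (fun h : H => (χ : G → ℂ) h) θ
  obtain ⟨a, ha⟩ := Helper3.classInner_isCharacter_nat
    (Helper79.isCharacter_restrict (Helper79.irr_isCharacter χ) H) (Helper79.irr_isCharacter θ)
  exact ⟨ε, hε, a, by rw [← ha]; exact h1, ha⟩

omit [Fintype G] in
theorem secCoeff_isIntegral (H : Subgroup G) [Fintype H] (p : ℕ) (hp : p.Prime) (y : G)
    (hyH : y ∈ H) (hcent : ∀ h : H, y * (h : G) = (h : G) * y)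
    (hyp : ∃ k : ℕ, orderOf y = p ^ k) (χ : Cfsg.IrrCharacter G) (θ : Cfsg.IrrCharacter H) :
    IsIntegral ℤ (Cfsg.classInner (fun c : H => (χ : G → ℂ) (y * c)) (θ : H → ℂ)) := by
  obtain ⟨ε, ⟨k, hk⟩, a, h1, -⟩ := secCoeff_eq H p y hyH hcent hyp χ θ
  rw [h1]
  refine IsIntegral.mul ?_ (isIntegral_natCast _)
  apply IsIntegral.of_pow (pow_pos hp.pos k)
  rw [hk]
  exact isIntegral_one

theorem contrib_eq_sum (H : Subgroup G) [Fintype H] [Fintype (Cfsg.IrrCharacter H)] (y : G)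
    (b : Set (Cfsg.IrrCharacter H)) [DecidablePred (fun θ => θ ∈ b)] (p d : ℕ)
    (χ ψ : G → ℂ) :
    contrib H y b p d χ ψ
      = ∑ θ ∈ Finset.univ.filter (fun θ : Cfsg.IrrCharacter H => θ ∈ b),
          ∑ θ' ∈ Finset.univ.filter (fun θ : Cfsg.IrrCharacter H => θ ∈ b),
            Cfsg.classInner (fun c : H => χ (y * c)) (θ : H → ℂ)
              * conj (Cfsg.classInner (fun c : H => ψ (y * c)) (θ' : H → ℂ))
              * cn p d (θ : H → ℂ) (θ' : H → ℂ) := by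
  unfold contrib
  have h1 : ∀ φ : G → ℂ, Cfsg.blockPart b (fun c : H => φ (y * c))
      = fun x => ∑ θ ∈ Finset.univ.filter (fun θ : Cfsg.IrrCharacter H => θ ∈ b),
          Cfsg.classInner (fun c : H => φ (y * c)) (θ : H → ℂ) * (θ : H → ℂ) x := by
    intro φ
    funext x
    exact blockPart_filter_apply b _ x
  rw [h1 χ, h1 ψ, pregInner_sum_sum, Finset.mul_sum]
  refine Finset.sum_congr rfl fun θ _ => ?_
  rw [Finset.mul_sum]
  refine Finset.sum_congr rfl fun θ' _ => ?_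
  unfold cn
  ring

theorem contrib_isIntegral (H : Subgroup G) [Fintype H] {p : ℕ} {M : Ideal Cfsg.AlgInt}
    (hM : Cfsg.IsPModular p M) (y : G) (hyH : y ∈ H)
    (hcent : ∀ h : H, y * (h : G) = (h : G) * y) (hyp : ∃ k : ℕ, orderOf y = p ^ k)
    {b : Set (Cfsg.IrrCharacter H)} (hb : Cfsg.IsPBlock M b) {d : ℕ}
    (hd : Cfsg.blockDefect p b = d) (χ ψ : Cfsg.IrrCharacter G) :
    IsIntegral ℤ (contrib H y b p d (χ : G → ℂ) (ψ : G → ℂ)) := by
  classical
  have := Fintype.ofFinite (Cfsg.IrrCharacter H)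
  rw [contrib_eq_sum]
  refine IsIntegral.sum _ fun θ _ => IsIntegral.sum _ fun θ' hθ' => ?_
  rw [Finset.mem_filter] at hθ'
  obtain ⟨j, hj⟩ := cn_int hM hb hd θ hθ'.2
  rw [hj]
  exact IsIntegral.mul (IsIntegral.mul (secCoeff_isIntegral H p hM.1 y hyH hcent hyp χ θ)
    (map_isIntegral_int (starRingEnd ℂ) (secCoeff_isIntegral H p hM.1 y hyH hcent hyp ψ θ')))
    (isIntegral_intCast _)

theorem contrib_mem_cycField (H : Subgroup G) [Fintype H] (y : G)
    (b : Set (Cfsg.IrrCharacter H)) (p d : ℕ) (χ ψ : Cfsg.IrrCharacter G) :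
    contrib H y b p d (χ : G → ℂ) (ψ : G → ℂ) ∈ cycField (Nat.card G) := by
  classical
  have := Fintype.ofFinite (Cfsg.IrrCharacter H)
  have hF : ∀ (φ : Cfsg.IrrCharacter G) (x : H),
      Cfsg.blockPart b (fun c : H => (φ : G → ℂ) (y * c)) x ∈ cycField (Nat.card G) := by
    intro φ x
    rw [blockPart_filter_apply]
    refine sum_mem fun θ _ => mul_mem ?_ (irr_subgroup_mem_cycField H θ x)
    unfold Cfsg.classInner
    refine mul_mem (inv_mem (natCast_mem _ _)) (sum_mem fun c _ => mul_mem (irr_mem_cycField φ _)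
      (conj_mem_cycField _ (irr_subgroup_mem_cycField H θ c)))
  unfold contrib Helper77.pregInner
  refine mul_mem (div_mem (pow_mem (natCast_mem _ _) _) (natCast_mem _ _)) (sum_mem fun x _ => ?_)
  split_ifs
  · exact zero_mem _
  · exact mul_mem (hF χ x) (conj_mem_cycField _ (hF ψ x))

/-- The integer-weighted degree sum `V_χ = Σ_{θ ∈ b} [χ|_H, θ] · defWeight θ`. -/
noncomputable def vsum (H : Subgroup G) [Fintype H] (b : Set (Cfsg.IrrCharacter H)) (p d : ℕ)
    (χ : G → ℂ) : ℂ :=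
  ∑ᶠ θ ∈ b, Cfsg.classInner (fun h : H => χ h) (θ : H → ℂ) * defWeight p d (θ : H → ℂ)

theorem vsum_eq_sum (H : Subgroup G) [Fintype H] [Fintype (Cfsg.IrrCharacter H)]
    (b : Set (Cfsg.IrrCharacter H)) [DecidablePred (fun θ => θ ∈ b)] (p d : ℕ) (χ : G → ℂ) :
    vsum H b p d χ = ∑ θ ∈ Finset.univ.filter (fun θ : Cfsg.IrrCharacter H => θ ∈ b),
      Cfsg.classInner (fun h : H => χ h) (θ : H → ℂ) * defWeight p d (θ : H → ℂ) := by
  unfold vsum
  rw [finsum_mem_eq_finite_toFinset_sum _ (Set.toFinite b)]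
  refine Finset.sum_congr ?_ (fun _ _ => rfl)
  ext θ
  simp

theorem vsum_memLocalRing (H : Subgroup G) [Fintype H] {p : ℕ} {M : Ideal Cfsg.AlgInt}
    (hM : Cfsg.IsPModular p M) {b : Set (Cfsg.IrrCharacter H)} (hb : Cfsg.IsPBlock M b) {d : ℕ}
    (hd : Cfsg.blockDefect p b = d) (χ : Cfsg.IrrCharacter G) :
    Cfsg.MemLocalRing M (vsum H b p d (χ : G → ℂ)) := by
  classical
  have := Fintype.ofFinite (Cfsg.IrrCharacter H)
  have hMm := hM.2.1
  rw [vsum_eq_sum]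
  refine Helper77.memLocalRing_sum hMm _ _ fun θ hθ => ?_
  rw [Finset.mem_filter] at hθ
  obtain ⟨a, ha⟩ := Helper3.classInner_isCharacter_nat
    (Helper79.isCharacter_restrict (Helper79.irr_isCharacter χ) H) (Helper79.irr_isCharacter θ)
  rw [ha]
  exact Helper77.memLocalRing_mul hMm (Helper81.memLocalRing_natCast hMm.ne_top a)
    (defWeight_memLocalRing hM hb hd hθ.2)

/-- `Σ_θ X_θ w_θ ≡ V_χ` and `Σ_θ conj(X_θ) w_θ ≡ V_χ` modulo the local ideal. -/
theorem secSum_sub_vsum (H : Subgroup G) [Fintype H] [Fintype (Cfsg.IrrCharacter H)] {p : ℕ}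
    {M : Ideal Cfsg.AlgInt} (hM : Cfsg.IsPModular p M) (y : G) (hyH : y ∈ H)
    (hcent : ∀ h : H, y * (h : G) = (h : G) * y) (hyp : ∃ k : ℕ, orderOf y = p ^ k)
    {b : Set (Cfsg.IrrCharacter H)} [DecidablePred (fun θ => θ ∈ b)] (hb : Cfsg.IsPBlock M b)
    {d : ℕ} (hd : Cfsg.blockDefect p b = d) (χ : Cfsg.IrrCharacter G) :
    Cfsg.MemLocalIdeal M
      (∑ θ ∈ Finset.univ.filter (fun θ : Cfsg.IrrCharacter H => θ ∈ b),
          Cfsg.classInner (fun c : H => (χ : G → ℂ) (y * c)) (θ : H → ℂ)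
            * defWeight p d (θ : H → ℂ) - vsum H b p d (χ : G → ℂ)) ∧
    Cfsg.MemLocalIdeal M
      (∑ θ ∈ Finset.univ.filter (fun θ : Cfsg.IrrCharacter H => θ ∈ b),
          conj (Cfsg.classInner (fun c : H => (χ : G → ℂ) (y * c)) (θ : H → ℂ))
            * defWeight p d (θ : H → ℂ) - vsum H b p d (χ : G → ℂ)) := by
  have hMm := hM.2.1
  rw [vsum_eq_sum, ← Finset.sum_sub_distrib, ← Finset.sum_sub_distrib]
  constructor
  · refine Helper77.memLocalIdeal_sum hMm _ _ fun θ hθ => ?_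
    rw [Finset.mem_filter] at hθ
    obtain ⟨ε, ⟨k, hk⟩, a, h1, h2⟩ := secCoeff_eq H p y hyH hcent hyp χ θ
    rw [h1, h2]
    have e : ε * (a : ℂ) * defWeight p d (θ : H → ℂ) - (a : ℂ) * defWeight p d (θ : H → ℂ)
        = (ε - 1) * ((a : ℂ) * defWeight p d (θ : H → ℂ)) := by ring
    rw [e]
    exact Helper77.memLocalIdeal_mul' hMm (Helper77.memLocalIdeal_root_sub_one hM hk)
      (Helper77.memLocalRing_mul hMm (Helper81.memLocalRing_natCast hMm.ne_top a)
        (defWeight_memLocalRing hM hb hd hθ.2))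
  · refine Helper77.memLocalIdeal_sum hMm _ _ fun θ hθ => ?_
    rw [Finset.mem_filter] at hθ
    obtain ⟨ε, ⟨k, hk⟩, a, h1, h2⟩ := secCoeff_eq H p y hyH hcent hyp χ θ
    rw [h1, h2, map_mul, Complex.conj_natCast]
    have e : conj ε * (a : ℂ) * defWeight p d (θ : H → ℂ) - (a : ℂ) * defWeight p d (θ : H → ℂ)
        = (conj ε - 1) * ((a : ℂ) * defWeight p d (θ : H → ℂ)) := by ring
    rw [e]
    have hk' : (conj ε) ^ p ^ k = 1 := by rw [← map_pow, hk, map_one]
    exact Helper77.memLocalIdeal_mul' hMm (Helper77.memLocalIdeal_root_sub_one hM hk')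
      (Helper77.memLocalRing_mul hMm (Helper81.memLocalRing_natCast hMm.ne_top a)
        (defWeight_memLocalRing hM hb hd hθ.2))

/-- For `χ ∈ B` of height zero, `V_χ` is a local unit. -/
theorem vsum_not_memLocalIdeal (H : Subgroup G) [Fintype H] {p : ℕ} {M : Ideal Cfsg.AlgInt}
    (hM : Cfsg.IsPModular p M) {b : Set (Cfsg.IrrCharacter H)} {B : Set (Cfsg.IrrCharacter G)}
    (hind : Cfsg.IsInducedBlock M H b B) {d : ℕ} (hd : Cfsg.blockDefect p b = d)
    {θ₀ : Cfsg.IrrCharacter H} (hθ₀ : θ₀ ∈ b) (h0 : Cfsg.blockHeight p b (θ₀ : H → ℂ) = 0)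
    {χ : Cfsg.IrrCharacter G} (hχ : χ ∈ B) (hχ0 : Cfsg.blockHeight p B (χ : G → ℂ) = 0) :
    ¬ Cfsg.MemLocalIdeal M (vsum H b p d (χ : G → ℂ)) := by
  classical
  have := Fintype.ofFinite (Cfsg.IrrCharacter H)
  have hMm := hM.2.1
  have hb := hind.1
  intro hV
  apply Helper73.hzc_res_not_memLocalIdeal hM H hind hχ hχ0 hθ₀
  have hcl : Cfsg.IsClassFunction H (fun h : H => (χ : G → ℂ) h) :=
    Helper79.isCharacter_isClassFunction
      (Helper79.isCharacter_restrict (Helper79.irr_isCharacter χ) H)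
  rw [Helper73.hzc_eq_sum_irr p hcl]
  have h1 : ∑ ξ : Cfsg.IrrCharacter H,
        conj (Cfsg.classInner (fun h : H => (χ : G → ℂ) h) (ξ : H → ℂ))
          * Helper73.hzc p (ξ : H → ℂ) (θ₀ : H → ℂ)
      = ∑ ξ ∈ Finset.univ.filter (fun θ : Cfsg.IrrCharacter H => θ ∈ b),
          Cfsg.classInner (fun h : H => (χ : G → ℂ) h) (ξ : H → ℂ)
            * Helper73.hzc p (ξ : H → ℂ) (θ₀ : H → ℂ) := by
    rw [Finset.sum_filter]
    refine Finset.sum_congr rfl fun ξ _ => ?_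
    by_cases hξ : ξ ∈ b
    · rw [if_pos hξ]
      obtain ⟨a, ha⟩ := Helper3.classInner_isCharacter_nat
        (Helper79.isCharacter_restrict (Helper79.irr_isCharacter χ) H)
        (Helper79.irr_isCharacter ξ)
      rw [ha, Complex.conj_natCast]
    · rw [if_neg hξ, Helper73.hzc_eq_zero_of_not_mem hM hb hξ hθ₀, mul_zero]
  rw [h1]
  have h2 : Cfsg.MemLocalIdeal M
      (∑ ξ ∈ Finset.univ.filter (fun θ : Cfsg.IrrCharacter H => θ ∈ b),
          Cfsg.classInner (fun h : H => (χ : G → ℂ) h) (ξ : H → ℂ)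
            * Helper73.hzc p (ξ : H → ℂ) (θ₀ : H → ℂ)
        - kap p d (θ₀ : H → ℂ) * vsum H b p d (χ : G → ℂ)) := by
    rw [vsum_eq_sum, Finset.mul_sum, ← Finset.sum_sub_distrib]
    refine Helper77.memLocalIdeal_sum hMm _ _ fun ξ hξ => ?_
    rw [Finset.mem_filter] at hξ
    obtain ⟨a, ha⟩ := Helper3.classInner_isCharacter_nat
      (Helper79.isCharacter_restrict (Helper79.irr_isCharacter χ) H)
      (Helper79.irr_isCharacter ξ)
    rw [ha]
    have e : (a : ℂ) * Helper73.hzc p (ξ : H → ℂ) (θ₀ : H → ℂ)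
          - kap p d (θ₀ : H → ℂ) * ((a : ℂ) * defWeight p d (ξ : H → ℂ))
        = (a : ℂ) * (Helper73.hzc p (ξ : H → ℂ) (θ₀ : H → ℂ)
          - kap p d (θ₀ : H → ℂ) * defWeight p d (ξ : H → ℂ)) := by ring
    rw [e]
    exact Helper77.memLocalIdeal_mul hMm (Helper81.memLocalRing_natCast hMm.ne_top a)
      (hzc_sub_kap hM hb hd hθ₀ h0 hξ.2)
  have h3 := Helper77.memLocalIdeal_mul hMm (kap_memLocalRing hM hb hd hθ₀ h0) hV
  have h4 := Helper77.memLocalIdeal_add hMm h2 h3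
  rwa [sub_add_cancel] at h4

/-- **Non-vanishing of contributions** for height zero characters and a subsection whose block
has the same defect as the induced block's weight `d`. -/
theorem contrib_not_memLocalIdeal (H : Subgroup G) [Fintype H] {p : ℕ} {M : Ideal Cfsg.AlgInt}
    (hM : Cfsg.IsPModular p M) (y : G) (hyH : y ∈ H)
    (hcent : ∀ h : H, y * (h : G) = (h : G) * y) (hyp : ∃ k : ℕ, orderOf y = p ^ k)
    {b : Set (Cfsg.IrrCharacter H)} {B : Set (Cfsg.IrrCharacter G)}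
    (hind : Cfsg.IsInducedBlock M H b B) {d : ℕ} (hd : Cfsg.blockDefect p b = d)
    {χ ψ : Cfsg.IrrCharacter G} (hχ : χ ∈ B) (hχ0 : Cfsg.blockHeight p B (χ : G → ℂ) = 0)
    (hψ : ψ ∈ B) (hψ0 : Cfsg.blockHeight p B (ψ : G → ℂ) = 0) :
    ¬ Cfsg.MemLocalIdeal M (contrib H y b p d (χ : G → ℂ) (ψ : G → ℂ)) := by
  classical
  have := Fintype.ofFinite (Cfsg.IrrCharacter H)
  have hMm := hM.2.1
  have hb := hind.1
  obtain ⟨θ₀, hθ₀, h0⟩ := Helper16.exists_height_zero (p := p) hMm hb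
  have hκR := kap_memLocalRing hM hb hd hθ₀ h0
  have hκ := kap_not_memLocalIdeal hM hb hd hθ₀ h0
  have hVχ := vsum_not_memLocalIdeal H hM hind hd hθ₀ h0 hχ hχ0
  have hVψ := vsum_not_memLocalIdeal H hM hind hd hθ₀ h0 hψ hψ0
  have hVχR := vsum_memLocalRing H hM hb hd χ
  have hVψR := vsum_memLocalRing H hM hb hd ψ
  obtain ⟨hS1, -⟩ := secSum_sub_vsum H hM y hyH hcent hyp hb hd χ
  obtain ⟨-, hS2⟩ := secSum_sub_vsum H hM y hyH hcent hyp hb hd ψ
  obtain ⟨S1, hS1def⟩ : ∃ S1 : ℂ, S1 = ∑ θ ∈ Finset.univ.filter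
      (fun θ : Cfsg.IrrCharacter H => θ ∈ b),
      Cfsg.classInner (fun c : H => (χ : G → ℂ) (y * c)) (θ : H → ℂ)
        * defWeight p d (θ : H → ℂ) := ⟨_, rfl⟩
  obtain ⟨S2, hS2def⟩ : ∃ S2 : ℂ, S2 = ∑ θ ∈ Finset.univ.filter
      (fun θ : Cfsg.IrrCharacter H => θ ∈ b),
      conj (Cfsg.classInner (fun c : H => (ψ : G → ℂ) (y * c)) (θ : H → ℂ))
        * defWeight p d (θ : H → ℂ) := ⟨_, rfl⟩
  rw [← hS1def] at hS1
  rw [← hS2def] at hS2
  have hXR : ∀ (φ : Cfsg.IrrCharacter G) (θ : Cfsg.IrrCharacter H), Cfsg.MemLocalRing M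
      (Cfsg.classInner (fun c : H => (φ : G → ℂ) (y * c)) (θ : H → ℂ)) := fun φ θ =>
    Helper77.memLocalRing_of_isIntegral hMm (secCoeff_isIntegral H p hM.1 y hyH hcent hyp φ θ)
  have hXR' : ∀ (φ : Cfsg.IrrCharacter G) (θ : Cfsg.IrrCharacter H), Cfsg.MemLocalRing M
      (conj (Cfsg.classInner (fun c : H => (φ : G → ℂ) (y * c)) (θ : H → ℂ))) := fun φ θ =>
    Helper77.memLocalRing_of_isIntegral hMm
      (map_isIntegral_int (starRingEnd ℂ) (secCoeff_isIntegral H p hM.1 y hyH hcent hyp φ θ))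
  -- step 1
  have hstep1 : Cfsg.MemLocalIdeal M (contrib H y b p d (χ : G → ℂ) (ψ : G → ℂ)
      - kap p d (θ₀ : H → ℂ) * S1 * S2) := by
    rw [contrib_eq_sum, hS1def, hS2def, mul_assoc, Finset.sum_mul_sum, Finset.mul_sum,
      ← Finset.sum_sub_distrib]
    refine Helper77.memLocalIdeal_sum hMm _ _ fun θ hθ => ?_
    rw [Finset.mul_sum, ← Finset.sum_sub_distrib]
    refine Helper77.memLocalIdeal_sum hMm _ _ fun θ' hθ' => ?_
    rw [Finset.mem_filter] at hθ hθ'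
    have e : Cfsg.classInner (fun c : H => (χ : G → ℂ) (y * c)) (θ : H → ℂ)
          * conj (Cfsg.classInner (fun c : H => (ψ : G → ℂ) (y * c)) (θ' : H → ℂ))
          * cn p d (θ : H → ℂ) (θ' : H → ℂ)
        - kap p d (θ₀ : H → ℂ) *
          (Cfsg.classInner (fun c : H => (χ : G → ℂ) (y * c)) (θ : H → ℂ)
              * defWeight p d (θ : H → ℂ)
            * (conj (Cfsg.classInner (fun c : H => (ψ : G → ℂ) (y * c)) (θ' : H → ℂ))
              * defWeight p d (θ' : H → ℂ)))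
        = (Cfsg.classInner (fun c : H => (χ : G → ℂ) (y * c)) (θ : H → ℂ)
          * conj (Cfsg.classInner (fun c : H => (ψ : G → ℂ) (y * c)) (θ' : H → ℂ)))
          * (cn p d (θ : H → ℂ) (θ' : H → ℂ)
            - kap p d (θ₀ : H → ℂ) * defWeight p d (θ : H → ℂ)
              * defWeight p d (θ' : H → ℂ)) := by ring
    rw [e]
    exact Helper77.memLocalIdeal_mul hMm (Helper77.memLocalRing_mul hMm (hXR χ θ) (hXR' ψ θ'))
      (cn_sub_kap hM hb hd hθ₀ h0 hθ.2 hθ'.2)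
  -- step 2
  have hS2R : Cfsg.MemLocalRing M S2 := by
    have := Helper77.memLocalRing_add hMm (Helper77.memLocalRing_of_memLocalIdeal hS2) hVψR
    rwa [sub_add_cancel] at this
  have hstep2 : Cfsg.MemLocalIdeal M (kap p d (θ₀ : H → ℂ) * S1 * S2
      - kap p d (θ₀ : H → ℂ) * vsum H b p d (χ : G → ℂ) * vsum H b p d (ψ : G → ℂ)) := by
    have e : kap p d (θ₀ : H → ℂ) * S1 * S2
          - kap p d (θ₀ : H → ℂ) * vsum H b p d (χ : G → ℂ) * vsum H b p d (ψ : G → ℂ)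
        = kap p d (θ₀ : H → ℂ) * ((S1 - vsum H b p d (χ : G → ℂ)) * S2
          + vsum H b p d (χ : G → ℂ) * (S2 - vsum H b p d (ψ : G → ℂ))) := by ring
    rw [e]
    exact Helper77.memLocalIdeal_mul hMm hκR (Helper77.memLocalIdeal_add hMm
      (Helper77.memLocalIdeal_mul' hMm hS1 hS2R) (Helper77.memLocalIdeal_mul hMm hVχR hS2))
  intro hI
  have h5 := Helper77.memLocalIdeal_sub hMm hI (Helper77.memLocalIdeal_add hMm hstep1 hstep2)
  have e5 : contrib H y b p d (χ : G → ℂ) (ψ : G → ℂ)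
        - (contrib H y b p d (χ : G → ℂ) (ψ : G → ℂ) - kap p d (θ₀ : H → ℂ) * S1 * S2
          + (kap p d (θ₀ : H → ℂ) * S1 * S2
            - kap p d (θ₀ : H → ℂ) * vsum H b p d (χ : G → ℂ) * vsum H b p d (ψ : G → ℂ)))
      = kap p d (θ₀ : H → ℂ) * (vsum H b p d (χ : G → ℂ) * vsum H b p d (ψ : G → ℂ)) := by ring
  rw [e5] at h5
  rcases Helper16.memLocalIdeal_or_of_mul hMm hκR h5 with h6 | h6
  · exact hκ h6
  · rcases Helper16.memLocalIdeal_or_of_mul hMm hVχR h6 with h7 | h7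
    · exact hVχ h7
    · exact hVψ h7

end sub

end Cfsg.Agent.Helper75
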