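import Mathlib
import Cfsg.Prelude.Def_Characters
import Cfsg.Agent.Helper75.Galois
import Cfsg.Agent.Helper75.Rational
import Cfsg.Agent.Helper75.RationalChar

/-!
# Zeros of characters via Galois conjugates and AM–GM (helper75)

* `card_le_sum_of_one_le_prod`: AM–GM in the form used here.
* `one_le_norm_prod_upow`: the product of `χ (g ^ u)` over the units `u` of `ZMod |G|` is a nonzero
  rational integer when `χ g ≠ 0`.
* `card_filter_le_sum_normSq`: for `S ⊆ G` closed under Galois power maps,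
  `#{g ∈ S | χ g ≠ 0} ≤ ∑ g ∈ S, ‖χ g‖ ^ 2` (Burnside's zero argument).
-/

set_option autoImplicit false
open Polynomial

namespace Cfsg.Agent.Helper75

/-- AM–GM: nonnegative reals with product at least `1` have sum at least their number. -/
theorem card_le_sum_of_one_le_prod {ι : Type*} (s : Finset ι) (z : ι → ℝ)
    (hz : ∀ i ∈ s, 0 ≤ z i) (h : 1 ≤ ∏ i ∈ s, z i) : (s.card : ℝ) ≤ ∑ i ∈ s, z i := by
  rcases s.eq_empty_or_nonempty with rfl | hne
  · simp
  have hcard : (0 : ℝ) < s.card := by exact_mod_cast hne.card_pos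
  have key := Real.geom_mean_le_arith_mean_weighted s (fun _ => (s.card : ℝ)⁻¹) z
    (fun i _ => inv_nonneg.mpr hcard.le) (by simp [hcard.ne']) hz
  rw [Real.finsetProd_rpow s z hz, ← Finset.mul_sum] at key
  have h1 : (1 : ℝ) ≤ (∏ i ∈ s, z i) ^ (s.card : ℝ)⁻¹ :=
    Real.one_le_rpow h (inv_nonneg.mpr hcard.le)
  have h2 : (1 : ℝ) ≤ (s.card : ℝ)⁻¹ * ∑ i ∈ s, z i := le_trans h1 key
  rw [inv_mul_eq_div, le_div_iff₀ hcard, one_mul] at h2
  exact h2

/-- The product of a nonzero character value over its Galois conjugates is a nonzero rational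
integer, so has norm at least `1`. -/
theorem one_le_norm_prod_upow {G : Type*} [Group G] [Finite G] {V : Type*} [AddCommGroup V]
    [Module ℂ V] [FiniteDimensional ℂ V] (ρ : Representation ℂ G V) (g : G)
    (hg : ρ.character g ≠ 0) :
    1 ≤ ‖∏ u : (ZMod (Nat.card G))ˣ, ρ.character (upow g u)‖ := by
  have hm : Nat.card G ≠ 0 := Nat.card_pos.ne'
  have : NeZero (Nat.card G) := ⟨hm⟩
  set P : ℂ := ∏ u : (ZMod (Nat.card G))ˣ, ρ.character (upow g u) with hP
  have hmem : P ∈ cycField (Nat.card G) :=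
    prod_mem (fun u _ => character_mem_cycField ρ _)
  have hint : IsIntegral ℤ P :=
    IsIntegral.prod _ (fun u _ => character_isIntegral ρ _)
  have hfix : ∀ σ : ℂ ≃+* ℂ, σ P = P := by
    intro σ
    obtain ⟨v, hv⟩ := exists_unit_of_ringEquiv (G := G) σ
    rw [hP, map_prod]
    rw [← Equiv.prod_comp (Equiv.mulRight v)
      (fun u : (ZMod (Nat.card G))ˣ => ρ.character (upow g u))]
    apply Finset.prod_congr rfl
    intro u _
    rw [hv ρ, Equiv.coe_mulRight, upow_mul]
  obtain ⟨m, hmP⟩ := int_of_fixed (Nat.card G) hm P hmem hint hfix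
  have hP0 : P ≠ 0 := by
    rw [hP, Finset.prod_ne_zero_iff]
    intro u _
    obtain ⟨σ, hσ⟩ := exists_ringEquiv_of_unit (G := G) u
    rw [← hσ ρ g]
    exact (map_ne_zero_iff σ σ.injective).mpr hg
  have hm0 : m ≠ 0 := by
    rintro rfl
    exact hP0 (by simpa using hmP)
  rw [hmP, Complex.norm_intCast]
  exact_mod_cast Int.one_le_abs hm0

/-- For a set `S` of group elements closed under the Galois power maps, the sum of `|χ g|²` over
`S` is at least the number of elements of `S` at which `χ` does not vanish. -/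
theorem card_filter_le_sum_normSq {G : Type*} [Group G] [Finite G] {V : Type*} [AddCommGroup V]
    [Module ℂ V] [FiniteDimensional ℂ V] (ρ : Representation ℂ G V) [DecidableEq G]
    (S : Finset G) (hS : ∀ g ∈ S, ∀ u : (ZMod (Nat.card G))ˣ, upow g u ∈ S) :
    ((S.filter (fun g => ρ.character g ≠ 0)).card : ℝ) ≤ ∑ g ∈ S, ‖ρ.character g‖ ^ 2 := by
  classical
  have hm : Nat.card G ≠ 0 := Nat.card_pos.ne'
  have : NeZero (Nat.card G) := ⟨hm⟩
  set S' := S.filter (fun g => ρ.character g ≠ 0) with hS'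
  have hsum : ∑ g ∈ S, ‖ρ.character g‖ ^ 2 = ∑ g ∈ S', ‖ρ.character g‖ ^ 2 := by
    rw [hS', Finset.sum_filter]
    apply Finset.sum_congr rfl
    intro g _
    by_cases h : ρ.character g = 0
    · simp [h]
    · simp [h]
  rw [hsum]
  have hclosed : ∀ g ∈ S', ∀ u : (ZMod (Nat.card G))ˣ, upow g u ∈ S' := by
    intro g hg u
    rw [hS', Finset.mem_filter] at hg ⊢
    refine ⟨hS g hg.1 u, ?_⟩
    obtain ⟨σ, hσ⟩ := exists_ringEquiv_of_unit (G := G) u
    rw [← hσ ρ g]
    exact (map_ne_zero_iff σ σ.injective).mpr hg.2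
  have hperm : ∀ u : (ZMod (Nat.card G))ˣ,
      ∑ g ∈ S', ‖ρ.character (upow g u)‖ ^ 2 = ∑ g ∈ S', ‖ρ.character g‖ ^ 2 := by
    intro u
    apply Finset.sum_nbij' (fun g => upow g u) (fun g => upow g u⁻¹)
    · intro g hg; exact hclosed g hg u
    · intro g hg; exact hclosed g hg u⁻¹
    · intro g _; rw [← upow_mul, mul_inv_cancel, upow_one]
    · intro g _; rw [← upow_mul, inv_mul_cancel, upow_one]
    · intro g _; rfl
  have hφ : (0 : ℝ) < Fintype.card (ZMod (Nat.card G))ˣ := by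
    exact_mod_cast Fintype.card_pos
  have h1 : (Fintype.card (ZMod (Nat.card G))ˣ : ℝ) * ∑ g ∈ S', ‖ρ.character g‖ ^ 2 =
      ∑ g ∈ S', ∑ u : (ZMod (Nat.card G))ˣ, ‖ρ.character (upow g u)‖ ^ 2 := by
    rw [Finset.sum_comm]
    simp only [hperm]
    rw [Finset.sum_const, Finset.card_univ, nsmul_eq_mul]
  have h2 : ∀ g ∈ S', (Fintype.card (ZMod (Nat.card G))ˣ : ℝ) ≤
      ∑ u : (ZMod (Nat.card G))ˣ, ‖ρ.character (upow g u)‖ ^ 2 := by
    intro g hg
    rw [hS', Finset.mem_filter] at hg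
    have := card_le_sum_of_one_le_prod (Finset.univ : Finset (ZMod (Nat.card G))ˣ)
      (fun u => ‖ρ.character (upow g u)‖ ^ 2) (fun u _ => by positivity) (by
        rw [Finset.prod_pow, ← norm_prod]
        exact one_le_pow₀ (one_le_norm_prod_upow ρ g hg.2))
    simpa using this
  have h3 : (S'.card : ℝ) * (Fintype.card (ZMod (Nat.card G))ˣ : ℝ) ≤
      (Fintype.card (ZMod (Nat.card G))ˣ : ℝ) * ∑ g ∈ S', ‖ρ.character g‖ ^ 2 := by
    rw [h1]
    calc (S'.card : ℝ) * (Fintype.card (ZMod (Nat.card G))ˣ : ℝ)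
        = ∑ g ∈ S', (Fintype.card (ZMod (Nat.card G))ˣ : ℝ) := by
          rw [Finset.sum_const, nsmul_eq_mul]
      _ ≤ _ := Finset.sum_le_sum h2
  rw [mul_comm] at h3
  exact le_of_mul_le_mul_left h3 hφ

end Cfsg.Agent.Helper75
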