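import Mathlib
import Cfsg.Agent.Helper75.Zeros

/-!
# A Galois-average AM–GM inequality (helper75)

`card_le_of_galois`: if `m i` (`i ∈ s`) are nonzero algebraic integers of the `n`-th cyclotomic
field with `∑ i ∈ s, m i * conj (m i) = N` a natural number, then `s.card ≤ N`.

Tools: `ringHom_eqOn_cycField` (ring homomorphisms agreeing on the `n`-th roots of unity agree on
the cyclotomic field), `ringEquiv_mem_cycField`, `ringEquiv_conj_comm`, `cycField_mono`,
`one_le_norm_prod_galois`.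
-/

set_option autoImplicit false
open scoped ComplexConjugate

namespace Cfsg.Agent.Helper75

/-- Two ring homomorphisms `ℂ → ℂ` agreeing on the `n`-th roots of unity agree on the `n`-th
cyclotomic field. -/
theorem ringHom_eqOn_cycField (n : ℕ) (f g : ℂ →+* ℂ) (h : ∀ z : ℂ, z ^ n = 1 → f z = g z)
    {z : ℂ} (hz : z ∈ cycField n) : f z = g z := by
  unfold cycField at hz
  induction hz using IntermediateField.adjoin_induction with
  | mem x hx =>
    obtain ⟨m, hm, -, hx⟩ := hx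
    rw [Set.mem_singleton_iff] at hm
    subst hm
    exact h x hx
  | algebraMap q => simp
  | add x y _ _ hx hy => rw [map_add, map_add, hx, hy]
  | inv x _ hx => rw [map_inv₀, map_inv₀, hx]
  | mul x y _ _ hx hy => rw [map_mul, map_mul, hx, hy]

/-- Field automorphisms of `ℂ` preserve the `n`-th cyclotomic field. -/
theorem ringEquiv_mem_cycField (σ : ℂ ≃+* ℂ) (n : ℕ) {z : ℂ} (hz : z ∈ cycField n) :
    σ z ∈ cycField n := by
  unfold cycField at hz ⊢
  induction hz using IntermediateField.adjoin_induction with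
  | mem x hx =>
    obtain ⟨m, hm, hm0, hx⟩ := hx
    exact IntermediateField.subset_adjoin ℚ _ ⟨m, hm, hm0, by rw [← map_pow, hx, map_one]⟩
  | algebraMap q =>
    have : σ (algebraMap ℚ ℂ q) = algebraMap ℚ ℂ q := by simp
    rw [this]
    exact IntermediateField.algebraMap_mem _ q
  | add x y _ _ hx hy => rw [map_add]; exact add_mem hx hy
  | inv x _ hx => rw [map_inv₀]; exact inv_mem hx
  | mul x y _ _ hx hy => rw [map_mul]; exact mul_mem hx hy

/-- Complex conjugation preserves the `n`-th cyclotomic field. -/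
theorem conj_mem_cycField (n : ℕ) {z : ℂ} (hz : z ∈ cycField n) :
    conj z ∈ cycField n := by
  unfold cycField at hz ⊢
  induction hz using IntermediateField.adjoin_induction with
  | mem x hx =>
    obtain ⟨m, hm, hm0, hx⟩ := hx
    exact IntermediateField.subset_adjoin ℚ _ ⟨m, hm, hm0, by rw [← map_pow, hx, map_one]⟩
  | algebraMap q =>
    have : conj (algebraMap ℚ ℂ q) = algebraMap ℚ ℂ q := by simp
    rw [this]
    exact IntermediateField.algebraMap_mem _ q
  | add x y _ _ hx hy => rw [map_add]; exact add_mem hx hy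
  | inv x _ hx => rw [map_inv₀]; exact inv_mem hx
  | mul x y _ _ hx hy => rw [map_mul]; exact mul_mem hx hy

/-- The cyclotomic fields are monotone for divisibility. -/
theorem cycField_mono {m n : ℕ} (hn : n ≠ 0) (h : m ∣ n) : cycField m ≤ cycField n := by
  unfold cycField
  apply IntermediateField.adjoin_le_iff.mpr
  rintro x ⟨k, hk, hk0, hx⟩
  rw [Set.mem_singleton_iff] at hk
  subst hk
  obtain ⟨c, rfl⟩ := h
  exact IntermediateField.subset_adjoin ℚ _ ⟨k * c, rfl, hn, by rw [pow_mul, hx, one_pow]⟩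

/-- Field automorphisms of `ℂ` commute with complex conjugation on cyclotomic fields. -/
theorem ringEquiv_conj_comm (σ : ℂ ≃+* ℂ) (n : ℕ) (hn : n ≠ 0) {z : ℂ} (hz : z ∈ cycField n) :
    σ (conj z) = conj (σ z) := by
  have key := ringHom_eqOn_cycField n ((σ : ℂ →+* ℂ).comp (starRingEnd ℂ))
    ((starRingEnd ℂ).comp (σ : ℂ →+* ℂ)) (fun ζ hζ => ?_) hz
  · simpa using key
  · have h1 : ‖ζ‖ = 1 := Complex.norm_eq_one_of_pow_eq_one hζ hn
    have h2 : ‖σ ζ‖ = 1 :=
      Complex.norm_eq_one_of_pow_eq_one (by rw [← map_pow, hζ, map_one]) hn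
    simp only [RingHom.comp_apply, RingHom.coe_coe]
    rw [← Complex.inv_eq_conj h1, ← Complex.inv_eq_conj h2, map_inv₀]

/-- The product of the Galois conjugates of a nonzero algebraic integer of a cyclotomic field has
norm at least `1`. -/
theorem one_le_norm_prod_galois (n : ℕ) [NeZero n] (σ : (ZMod n)ˣ → (ℂ ≃+* ℂ))
    (hσ : ∀ (u : (ZMod n)ˣ) (z : ℂ), z ^ n = 1 → σ u z = z ^ (u : ZMod n).val) (m : ℂ)
    (hmem : m ∈ cycField n) (hint : IsIntegral ℤ m) (hne : m ≠ 0) :
    1 ≤ ‖∏ u : (ZMod n)ˣ, σ u m‖ := by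
  have hn : n ≠ 0 := NeZero.ne n
  set P : ℂ := ∏ u : (ZMod n)ˣ, σ u m with hP
  have hmemP : P ∈ cycField n := prod_mem (fun u _ => ringEquiv_mem_cycField (σ u) n hmem)
  have hintP : IsIntegral ℤ P := IsIntegral.prod _ (fun u _ => map_isIntegral_int (σ u) hint)
  have hfix : ∀ τ : ℂ ≃+* ℂ, τ P = P := by
    intro τ
    obtain ⟨k, hk, hτ⟩ := exists_pow_of_ringEquiv τ n hn
    set v : (ZMod n)ˣ := ZMod.unitOfCoprime k hk with hv
    rw [hP, map_prod]
    rw [← Equiv.prod_comp (Equiv.mulLeft v) (fun u : (ZMod n)ˣ => σ u m)]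
    apply Finset.prod_congr rfl
    intro u _
    rw [Equiv.coe_mulLeft]
    have key := ringHom_eqOn_cycField n ((τ : ℂ →+* ℂ).comp (σ u : ℂ →+* ℂ))
      (σ (v * u) : ℂ →+* ℂ) (fun ζ hζ => ?_) hmem
    · simpa using key
    · simp only [RingHom.comp_apply, RingHom.coe_coe]
      rw [hσ u ζ hζ, hσ (v * u) ζ hζ, map_pow, hτ ζ hζ, ← pow_mul]
      rw [pow_eq_pow_mod (k * (u : ZMod n).val) hζ]
      congr 1
      rw [Units.val_mul, ZMod.val_mul, hv, ZMod.coe_unitOfCoprime, ZMod.val_natCast]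
      rw [Nat.mod_mul_mod]
  obtain ⟨j, hj⟩ := int_of_fixed n hn P hmemP hintP hfix
  have hP0 : P ≠ 0 := by
    rw [hP, Finset.prod_ne_zero_iff]
    intro u _
    exact (map_ne_zero_iff (σ u) (σ u).injective).mpr hne
  have hj0 : j ≠ 0 := by
    rintro rfl
    exact hP0 (by simpa using hj)
  rw [hj, Complex.norm_intCast]
  exact_mod_cast Int.one_le_abs hj0

/-- **Galois-average AM–GM**: nonzero algebraic integers `m i` of the `n`-th cyclotomic field
whose squared absolute values sum to the natural number `N` are at most `N` in number. -/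
theorem card_le_of_galois (n : ℕ) (hn : n ≠ 0) {ι : Type*} (s : Finset ι) (m : ι → ℂ)
    (hmem : ∀ i ∈ s, m i ∈ cycField n) (hint : ∀ i ∈ s, IsIntegral ℤ (m i))
    (hne : ∀ i ∈ s, m i ≠ 0) (N : ℕ) (hN : ∑ i ∈ s, m i * conj (m i) = (N : ℂ)) :
    s.card ≤ N := by
  classical
  have : NeZero n := ⟨hn⟩
  choose σ hσ using fun u : (ZMod n)ˣ =>
    exists_ringEquiv_pow n hn (u : ZMod n).val (ZMod.val_coe_unit_coprime u)
  have hsum : ∀ u : (ZMod n)ˣ, ∑ i ∈ s, ‖σ u (m i)‖ ^ 2 = (N : ℝ) := by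
    intro u
    have h1 := congrArg (σ u) hN
    rw [map_sum, map_natCast] at h1
    have h2 : ∀ i ∈ s, σ u (m i * conj (m i)) = ((‖σ u (m i)‖ ^ 2 : ℝ) : ℂ) := by
      intro i hi
      rw [map_mul, ringEquiv_conj_comm (σ u) n hn (hmem i hi), Complex.mul_conj,
        Complex.normSq_eq_norm_sq]
    rw [Finset.sum_congr rfl h2, ← Complex.ofReal_sum] at h1
    exact_mod_cast h1
  have hprod : 1 ≤ ∏ x ∈ s ×ˢ (Finset.univ : Finset (ZMod n)ˣ), ‖σ x.2 (m x.1)‖ ^ 2 := by
    rw [Finset.prod_product]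
    have h1 : ∀ i ∈ s, (1 : ℝ) ≤ ∏ u : (ZMod n)ˣ, ‖σ u (m i)‖ ^ 2 := by
      intro i hi
      rw [Finset.prod_pow, ← norm_prod]
      have := one_le_norm_prod_galois n σ hσ (m i) (hmem i hi) (hint i hi) (hne i hi)
      nlinarith
    calc (1 : ℝ) = ∏ i ∈ s, (1 : ℝ) := by simp
      _ ≤ ∏ i ∈ s, ∏ u : (ZMod n)ˣ, ‖σ u (m i)‖ ^ 2 :=
        Finset.prod_le_prod (fun _ _ => zero_le_one) h1
  have key := card_le_sum_of_one_le_prod (s ×ˢ (Finset.univ : Finset (ZMod n)ˣ))
    (fun x => ‖σ x.2 (m x.1)‖ ^ 2) (fun x _ => by positivity) hprod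
  rw [Finset.sum_product, Finset.card_product, Finset.sum_comm,
    Finset.sum_congr rfl (fun u _ => hsum u), Finset.sum_const, Finset.card_univ,
    nsmul_eq_mul] at key
  have hφ : (0 : ℝ) < Fintype.card (ZMod n)ˣ := by exact_mod_cast Fintype.card_pos
  push_cast at key
  have h3 : (s.card : ℝ) ≤ N := by
    rw [mul_comm] at key
    exact le_of_mul_le_mul_left key hφ
  exact_mod_cast h3

end Cfsg.Agent.Helper75
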