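import Mathlib
import Cfsg.Agent.Helper77.D1Defs2
import Cfsg.Agent.Helper29.D1ID
import Cfsg.Agent.Helper74.D1IB
import Cfsg.Agent.Helper78.Counting
import Cfsg.Agent.Helper77.LocalRing
import Cfsg.Agent.Helper75.LatGroup

/-!
# Blocks of defect one: the value of the class sums (helper75)

Core of piece FV of CALL S4442FB, with the two inputs FZ and FP as hypotheses.
-/

universe u
set_option autoImplicit false
open Cfsg Cfsg.Agent.Helper77
open scoped ComplexConjugate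

namespace Cfsg.Agent.Helper75

variable {G : Type u} [Group G] [Finite G]

theorem d1fv_core (p : ℕ) [Fact p.Prime] (hcc : D1CCStmt G p) (hinj : D1InjStmt G p)
    (x : G) (K : Subgroup G) (h : D1Hyp p x K)
    (θ : Cfsg.IrrCharacter K) (Ω : Finset (Cfsg.IrrCharacter G))
    (hZ : ∀ χ' ∈ Ω, dco K (θ : K → ℂ) (χ' : G → ℂ) x ≠ 0)
    (hP : ∀ j : ℕ, ¬ p ∣ j → ∑ χ' ∈ Ω, dco K (θ : K → ℂ) (χ' : G → ℂ) (x ^ j)
      = ∑ χ' ∈ Ω, dco K (θ : K → ℂ) (χ' : G → ℂ) x)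
    (Θ Orb : Finset (Cfsg.IrrCharacter K))
    (hOrb : ∀ θ' : Cfsg.IrrCharacter K, θ' ∈ Orb ↔
      ∃ n : G, n * x * n⁻¹ ∈ Subgroup.zpowers x ∧ thetaConj K n (θ : K → ℂ) (θ' : K → ℂ))
    (hsub : Orb ⊆ Θ) :
    ∑ χ' ∈ Ω, ∑ θ' ∈ Θ, dco K (θ' : K → ℂ) (χ' : G → ℂ) x
      = (Orb.card : ℂ) * ∑ χ' ∈ Ω, dco K (θ : K → ℂ) (χ' : G → ℂ) x := by
  classical
  have hp : p.Prime := Fact.out
  obtain ⟨M, hM⟩ := Helper78.exists_isPModular p hp
  have hMm := hM.2.1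
  rw [Finset.sum_comm, ← Finset.sum_sdiff hsub]
  have ha : ∑ θ' ∈ Θ \ Orb, ∑ χ' ∈ Ω, dco K (θ' : K → ℂ) (χ' : G → ℂ) x = 0 := by
    refine Finset.sum_eq_zero fun θ' hθ' => Finset.sum_eq_zero fun χ' hχ' => ?_
    by_contra hne
    rw [Finset.mem_sdiff] at hθ'
    apply hθ'.2
    rw [hOrb]
    apply hinj M x K hM h θ θ'
    intro g
    have h1 := hcc M x K hM h θ χ' (hZ χ' hχ') g
    have h2 := hcc M x K hM h θ' χ' hne g
    have e : omTheta p x K (θ : K → ℂ) g - omTheta p x K (θ' : K → ℂ) g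
        = (centralChar (χ' : G → ℂ) g - omTheta p x K (θ' : K → ℂ) g)
          - (centralChar (χ' : G → ℂ) g - omTheta p x K (θ : K → ℂ) g) := by ring
    rw [e]
    exact Helper77.memLocalIdeal_sub hMm h2 h1
  have hb : ∀ θ' ∈ Orb, ∑ χ' ∈ Ω, dco K (θ' : K → ℂ) (χ' : G → ℂ) x
      = ∑ χ' ∈ Ω, dco K (θ : K → ℂ) (χ' : G → ℂ) x := by
    intro θ' hθ'
    obtain ⟨n, hn, hθn⟩ := (hOrb θ').mp hθ'
    have hnN : n ∈ Subgroup.normalizer ((Subgroup.zpowers x : Subgroup G) : Set G) := by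
      rw [← (isOfFinOrder_of_finite x).mem_powers_iff_mem_zpowers] at hn
      obtain ⟨j, hj⟩ := (Submonoid.mem_powers_iff _ _).mp hn
      exact Helper74.d1ib_norm p x h.hx 1 j (by rw [Nat.dvd_one]; exact hp.one_lt.ne') n
        (by rw [pow_one]; exact hj.symm)
    obtain ⟨j, hj⟩ := Helper75.lat_conj_pow x n⁻¹ (inv_mem hnN)
    rw [inv_inv] at hj
    have hjp : ¬ p ∣ j := by
      intro hdvd
      have h1 : x ^ j = 1 := by
        rw [← h.hx] at hdvd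
        exact orderOf_dvd_iff_pow_eq_one.mp hdvd
      rw [h1] at hj
      have h2 : x = 1 := by
        have h3 : x = n * (n⁻¹ * x * n) * n⁻¹ := by group
        rw [h3, hj]; group
      have h3 : orderOf x = 1 := by rw [h2, orderOf_one]
      rw [h.hx] at h3
      exact hp.one_lt.ne' h3
    rw [← hP j hjp]
    refine Finset.sum_congr rfl fun χ' _ => ?_
    have h1 := Helper29.d1_dco_conj p x K h (θ : K → ℂ) (θ' : K → ℂ) n hnN hθn χ' (x ^ j)
    have e : n * x ^ j * n⁻¹ = x := by rw [← hj]; group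
    rw [e] at h1
    exact h1
  rw [ha, zero_add, Finset.sum_congr rfl hb, Finset.sum_const, nsmul_eq_mul]

end Cfsg.Agent.Helper75
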