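import Mathlib
import Cfsg.Agent.Helper75.D1FVCore
import Cfsg.Agent.Helper83.D1FZ
import Cfsg.Agent.Helper29.D1FP

/-!
# Blocks of defect one: piece FV of CALL S4442FB (helper75)
-/

universe u
set_option autoImplicit false
open Cfsg Cfsg.Agent.Helper77
open scoped ComplexConjugate

namespace Cfsg.Agent.Helper75

variable {G : Type u} [Group G] [Finite G]

/-- FV -/
theorem d1fb_W_value (p : ℕ) [Fact p.Prime] (hcc : D1CCStmt G p) (hinj : D1InjStmt G p)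
    (x : G) (K : Subgroup G) (h : D1Hyp p x K)
    (M₀ : ℕ) (hM₀ : ¬ p ∣ M₀) (hGM : Nat.card G ∣ p * M₀)
    (θ : Cfsg.IrrCharacter K) (χ : Cfsg.IrrCharacter G)
    (hχ : dco K (θ : K → ℂ) (χ : G → ℂ) x ≠ 0) (Ω : Finset (Cfsg.IrrCharacter G))
    (hΩ : ∀ χ' : Cfsg.IrrCharacter G, χ' ∈ Ω ↔ galRel M₀ (χ : G → ℂ) (χ' : G → ℂ))
    (Θ Orb : Finset (Cfsg.IrrCharacter K))
    (hOrb : ∀ θ' : Cfsg.IrrCharacter K, θ' ∈ Orb ↔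
      ∃ n : G, n * x * n⁻¹ ∈ Subgroup.zpowers x ∧ thetaConj K n (θ : K → ℂ) (θ' : K → ℂ))
    (hsub : Orb ⊆ Θ) :
    ∑ χ' ∈ Ω, ∑ θ' ∈ Θ, dco K (θ' : K → ℂ) (χ' : G → ℂ) x
      = (Orb.card : ℂ) * ∑ χ' ∈ Ω, dco K (θ : K → ℂ) (χ' : G → ℂ) x := by
  refine d1fv_core p hcc hinj x K h θ Ω ?_ ?_ Θ Orb hOrb hsub
  · intro χ' hχ' h0
    exact hχ ((Helper83.d1fb_inertial p x K h M₀ hM₀ hGM θ χ χ' ((hΩ χ').mp hχ')).mpr h0)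
  · intro j hj
    exact Helper29.d1fb_sum_pow p x K h M₀ hM₀ hGM θ χ Ω hΩ j hj

end Cfsg.Agent.Helper75
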