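import Mathlib
import Cfsg.Prelude.Def_Characters
import Cfsg.Agent.Helper3.CenterDvd

/-!
# Degree divides the index of a subgroup acting by scalars (helper75)

`finrank_dvd_index_of_scalar`: if every element of the subgroup `A` acts as a scalar in the
irreducible representation `ρ`, then the degree of `ρ` divides the index of `A`
(generalizing `Cfsg.Agent.Helper3.finrank_dvd_index_center`, same proof).
-/

set_option autoImplicit false

namespace Cfsg.Agent.Helper75

open Cfsg.Agent.Helper3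

theorem finrank_dvd_index_of_scalar {G : Type*} [Group G] [Finite G] {V : Type*} [AddCommGroup V]
    [Module ℂ V] [FiniteDimensional ℂ V] (ρ : Representation ℂ G V) [ρ.IsIrreducible]
    (A : Subgroup G) (hA : ∀ a ∈ A, ∃ lam : ℂ, ρ a = lam • (LinearMap.id : V →ₗ[ℂ] V)) :
    Module.finrank ℂ V ∣ A.index := by
  classical
  have : Fintype G := Fintype.ofFinite G
  have : Fintype (G ⧸ A) := Fintype.ofFinite _
  have hpos := finrank_pos_of_isIrreducible ρ
  have hnt : Nontrivial V := Module.finrank_pos_iff.mp hpos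
  let F : G → (V →ₗ[ℂ] V) := fun g => ρ.character g⁻¹ • ρ g
  have hF : ∀ g : G, ∀ z ∈ A, F (g * z) = F g := by
    intro g z hz
    obtain ⟨lam, hlam⟩ := hA z hz
    have hz' : z⁻¹ ∈ A := A.inv_mem hz
    obtain ⟨mu, hmu⟩ := hA z⁻¹ hz'
    have hml : mu * lam = 1 := by
      have h1 : ρ z⁻¹ * ρ z = 1 := by rw [← map_mul, inv_mul_cancel, map_one]
      rw [hlam, hmu] at h1
      obtain ⟨v, hv⟩ := exists_ne (0 : V)
      have h2 := congrArg (fun T : V →ₗ[ℂ] V => T v) h1
      simp only [Module.End.mul_apply, LinearMap.smul_apply, LinearMap.id_coe, id_eq,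
        Module.End.one_apply, smul_smul] at h2
      have h3 : (mu * lam - 1) • v = 0 := by rw [sub_smul, h2, one_smul, sub_self]
      rcases smul_eq_zero.mp h3 with h | h
      · exact sub_eq_zero.mp h
      · exact absurd h hv
    show ρ.character (g * z)⁻¹ • ρ (g * z) = ρ.character g⁻¹ • ρ g
    have e1 : ρ (g * z) = lam • ρ g := by
      rw [map_mul, hlam]
      ext v
      simp
    have e2 : ρ.character (g * z)⁻¹ = mu * ρ.character g⁻¹ := by
      rw [mul_inv_rev]
      unfold Representation.character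
      rw [map_mul, hmu, smul_mul_assoc, map_smul, smul_eq_mul]
      congr 2
    rw [e1, e2, smul_smul, mul_right_comm, hml, one_mul]
  have hsum := sum_eq_card_smul_sum_out A F hF
  have hT := sum_character_inv_smul ρ
  have hZ : (Nat.card A : ℂ) ≠ 0 := by exact_mod_cast Nat.card_pos.ne'
  have hB : ∑ q : G ⧸ A, ρ.character q.out⁻¹ • ρ q.out
      = ((Nat.card G : ℂ) / (Module.finrank ℂ V : ℂ) / (Nat.card A : ℂ)) •
        (LinearMap.id : V →ₗ[ℂ] V) := by
    have h1 : (Nat.card A : ℂ) • ∑ q : G ⧸ A, F q.out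
        = ((Nat.card G : ℂ) / (Module.finrank ℂ V : ℂ)) • (LinearMap.id : V →ₗ[ℂ] V) := by
      rw [← hT, hsum, Nat.cast_smul_eq_nsmul]
    have h2 : ∑ q : G ⧸ A, F q.out
        = (Nat.card A : ℂ)⁻¹ • ((Nat.card A : ℂ) •
          ∑ q : G ⧸ A, F q.out) := by
      rw [smul_smul, inv_mul_cancel₀ hZ, one_smul]
    show ∑ q : G ⧸ A, F q.out = _
    rw [h2, h1, smul_smul]
    congr 1
    field_simp
  have hint := isIntegral_of_sum_smul_eq_smul_id ρ (fun q : G ⧸ A => q.out)
    (fun q => ρ.character q.out⁻¹) (fun q => isIntegral_character ρ _) _ hB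
  have hn0 : (Module.finrank ℂ V : ℂ) ≠ 0 := by exact_mod_cast hpos.ne'
  have hn0' : (Module.finrank ℂ V : ℚ) ≠ 0 := by exact_mod_cast hpos.ne'
  have hidx : (Nat.card G : ℂ) = (A.index : ℂ) * (Nat.card A : ℂ) := by
    rw [← Subgroup.index_mul_card A]
    push_cast
    ring
  have hω' : (Nat.card G : ℂ) / (Module.finrank ℂ V : ℂ) / (Nat.card A : ℂ)
      = algebraMap ℚ ℂ ((A.index : ℚ) / (Module.finrank ℂ V : ℚ)) := by
    rw [hidx]
    simp only [map_div₀, map_natCast]
    field_simp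
  rw [hω'] at hint
  have hint2 : IsIntegral ℤ ((A.index : ℚ) / (Module.finrank ℂ V : ℚ)) :=
    (isIntegral_algebraMap_iff (algebraMap ℚ ℂ).injective).1 hint
  obtain ⟨k, hk⟩ := IsIntegrallyClosed.isIntegral_iff.1 hint2
  have hk2 : (A.index : ℚ) = (k : ℚ) * (Module.finrank ℂ V : ℚ) := by
    have : (algebraMap ℤ ℚ) k = (k : ℚ) := rfl
    rw [this] at hk
    rw [hk]; field_simp
  have hk3 : (A.index : ℤ) = k * (Module.finrank ℂ V : ℤ) := by exact_mod_cast hk2
  have : ((Module.finrank ℂ V : ℕ) : ℤ) ∣ ((A.index : ℕ) : ℤ) :=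
    ⟨k, by rw [hk3]; ring⟩
  exact Int.natCast_dvd_natCast.mp this

end Cfsg.Agent.Helper75
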