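import Mathlib
import Cfsg.Prelude.Def_Characters
import Cfsg.Agent.Helper75.Eigen

/-!
# Traces of products of commuting finite-order operators (helper75)

* `exists_trace_decomp`: for commuting `f, h` with `f ^ p = 1`, `h ^ M = 1` there are a finite set
  `s` of `p`-th roots of unity and algebraic integers `t μ` with
  `trace (f ^ k * h) = ∑ μ ∈ s, μ ^ k * t μ` for all `k`.
* `rep_character_mul_sub`: `χ (x * y) - χ y = (1 - ε) * ω` with `ω` an algebraic integer, for a
  character `χ`, `x ^ p = 1`, `x` commuting with `y`, and `ε = exp (2πi/p)`.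
-/

set_option autoImplicit false
open Polynomial Module

namespace Cfsg.Agent.Helper75

theorem isIntegral_multiset_sum_of_pow_eq_one (s : Multiset ℂ) (M : ℕ) (hM : M ≠ 0)
    (hs : ∀ μ ∈ s, μ ^ M = 1) : IsIntegral ℤ s.sum := by
  induction s using Multiset.induction_on with
  | empty => simpa using isIntegral_zero
  | cons μ s ih =>
    rw [Multiset.sum_cons]
    apply IsIntegral.add
    · apply IsIntegral.of_pow (Nat.pos_of_ne_zero hM)
      rw [hs μ (Multiset.mem_cons_self μ s)]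
      exact isIntegral_one
    · exact ih (fun ν hν => hs ν (Multiset.mem_cons_of_mem hν))

theorem trace_isIntegral_of_pow_eq_one {V : Type*} [AddCommGroup V] [Module ℂ V]
    [FiniteDimensional ℂ V] (h : Module.End ℂ V) (M : ℕ) (hM : M ≠ 0) (hh : h ^ M = 1) :
    IsIntegral ℤ (LinearMap.trace ℂ V h) := by
  obtain ⟨s, hs1, -, hs3⟩ := exists_eigen_multiset h M hM hh
  have := hs3 1
  rw [pow_one] at this
  rw [this]
  have hmap : s.map (fun μ => μ ^ 1) = s := by simp
  rw [hmap]
  exact isIntegral_multiset_sum_of_pow_eq_one s M hM hs1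

theorem exists_trace_decomp {V : Type*} [AddCommGroup V] [Module ℂ V] [FiniteDimensional ℂ V]
    (f h : Module.End ℂ V) (hc : Commute f h) (p : ℕ) (hp : p ≠ 0) (hf : f ^ p = 1)
    (M : ℕ) (hM : M ≠ 0) (hh : h ^ M = 1) :
    ∃ (s : Finset ℂ) (t : ℂ → ℂ), (∀ μ ∈ s, μ ^ p = 1) ∧ (∀ μ ∈ s, IsIntegral ℤ (t μ)) ∧
      ∀ k : ℕ, LinearMap.trace ℂ V (f ^ k * h) = ∑ μ ∈ s, μ ^ k * t μ := by
  classical
  have hss : f.IsSemisimple := by
    apply Module.End.isSemisimple_of_squarefree_aeval_eq_zero (p := X ^ p - C (1 : ℂ))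
    · exact (separable_X_pow_sub_C (1 : ℂ) (by exact_mod_cast hp) one_ne_zero).squarefree
    · simp [hf]
  have htop := hss.iSup_eigenspace_eq_top
  have hind := Module.End.eigenspaces_iSupIndep f
  have hint := DirectSum.isInternal_submodule_of_iSupIndep_of_iSup_eq_top hind htop
  have hfin : {μ | f.eigenspace μ ≠ ⊥}.Finite := WellFoundedGT.finite_ne_bot_of_iSupIndep hind
  have hmap : ∀ μ, Set.MapsTo h (f.eigenspace μ) (f.eigenspace μ) :=
    fun μ => Module.End.mapsTo_genEigenspace_of_comm hc μ 1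
  have hfk : ∀ (k : ℕ) (μ : ℂ) (v : V), v ∈ f.eigenspace μ → (f ^ k) v = μ ^ k • v := by
    intro k μ v hv
    have hv' := Module.End.mem_eigenspace_iff.mp hv
    induction k with
    | zero => simp
    | succ k ih => rw [pow_succ, Module.End.mul_apply, hv', map_smul, ih, smul_smul, pow_succ, mul_comm]
  have hmapk : ∀ (k : ℕ) μ, Set.MapsTo (f ^ k * h) (f.eigenspace μ) (f.eigenspace μ) := by
    intro k μ v hv
    have h1 : h v ∈ f.eigenspace μ := hmap μ hv
    show (f ^ k * h) v ∈ f.eigenspace μ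
    rw [Module.End.mul_apply, hfk k μ _ h1]
    exact Submodule.smul_mem _ _ h1
  refine ⟨hfin.toFinset, fun μ => LinearMap.trace ℂ (f.eigenspace μ) (h.restrict (hmap μ)),
    ?_, ?_, ?_⟩
  · intro μ hμ
    rw [Set.Finite.mem_toFinset, Set.mem_ofPred_eq] at hμ
    obtain ⟨v, hv, hv0⟩ := (Submodule.ne_bot_iff _).mp hμ
    have h1 := hfk p μ v hv
    rw [hf, Module.End.one_apply] at h1
    have h2 : (μ ^ p - 1) • v = 0 := by rw [sub_smul, ← h1, one_smul, sub_self]
    rcases smul_eq_zero.mp h2 with h | h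
    · exact sub_eq_zero.mp h
    · exact absurd h hv0
  · intro μ _
    apply trace_isIntegral_of_pow_eq_one _ M hM
    apply LinearMap.ext
    intro v
    apply Subtype.ext
    have h3 : ∀ (j : ℕ) (w : f.eigenspace μ),
        (((h.restrict (hmap μ)) ^ j) w : V) = (h ^ j) (w : V) := by
      intro j
      induction j with
      | zero => intro w; simp
      | succ j ih =>
        intro w
        rw [pow_succ, Module.End.mul_apply, ih, pow_succ, Module.End.mul_apply]
        rfl
    rw [h3, hh]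
    rfl
  · intro k
    rw [LinearMap.trace_eq_sum_trace_restrict' hint hfin (hmapk k)]
    apply Finset.sum_congr rfl
    intro μ _
    have h4 : (f ^ k * h).restrict (hmapk k μ) = μ ^ k • h.restrict (hmap μ) := by
      apply LinearMap.ext
      intro v
      apply Subtype.ext
      show (f ^ k * h) (v : V) = μ ^ k • h (v : V)
      rw [Module.End.mul_apply, hfk k μ _ (hmap μ v.2)]
    rw [h4, map_smul, smul_eq_mul]

/-- `χ (x * y) - χ y = (1 - ε) * ω` with `ω` an algebraic integer. -/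
theorem rep_character_mul_sub {G : Type*} [Group G] [Finite G] {V : Type*} [AddCommGroup V]
    [Module ℂ V] [FiniteDimensional ℂ V] (ρ : Representation ℂ G V) (p : ℕ) (hp : p ≠ 0)
    (x y : G) (hx : x ^ p = 1) (hxy : Commute x y) :
    ∃ ω : ℂ, IsIntegral ℤ ω ∧ ρ.character (x * y) - ρ.character y =
      (1 - Complex.exp (2 * Real.pi * Complex.I / p)) * ω := by
  classical
  have hm : Nat.card G ≠ 0 := Nat.card_pos.ne'
  have hf : (ρ x) ^ p = 1 := by rw [← map_pow, hx, map_one]
  have hh : (ρ y) ^ Nat.card G = 1 := by rw [← map_pow, pow_card_eq_one', map_one]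
  have hc : Commute (ρ x) (ρ y) := by
    show ρ x * ρ y = ρ y * ρ x
    rw [← map_mul, ← map_mul, hxy.eq]
  obtain ⟨s, t, hs, ht, htr⟩ := exists_trace_decomp (ρ x) (ρ y) hc p hp hf (Nat.card G) hm hh
  have hε := Complex.isPrimitiveRoot_exp p hp
  set ε : ℂ := Complex.exp (2 * Real.pi * Complex.I / p) with hεdef
  have : NeZero p := ⟨hp⟩
  have hεint : IsIntegral ℤ ε := by
    apply IsIntegral.of_pow (Nat.pos_of_ne_zero hp)
    rw [hε.pow_eq_one]
    exact isIntegral_one
  have hc : ∀ μ ∈ s, ∃ c : ℂ, IsIntegral ℤ c ∧ μ - 1 = (1 - ε) * c := by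
    intro μ hμ
    obtain ⟨i, -, hi⟩ := hε.eq_pow_of_pow_eq_one (hs μ hμ)
    refine ⟨-∑ j ∈ Finset.range i, ε ^ j, ?_, ?_⟩
    · apply IsIntegral.neg
      apply IsIntegral.sum
      intro j _
      exact hεint.pow j
    · rw [← hi, ← geom_sum_mul]
      ring
  choose! c hc1 hc2 using hc
  refine ⟨∑ μ ∈ s, c μ * t μ, ?_, ?_⟩
  · apply IsIntegral.sum
    intro μ hμ
    exact (hc1 μ hμ).mul (ht μ hμ)
  · have h1 := htr 1
    have h0 := htr 0
    rw [pow_one] at h1
    rw [pow_zero, one_mul] at h0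
    have e1 : ρ.character (x * y) = LinearMap.trace ℂ V (ρ x * ρ y) := by
      show LinearMap.trace ℂ V (ρ (x * y)) = _
      rw [map_mul]
    have e0 : ρ.character y = LinearMap.trace ℂ V (ρ y) := rfl
    rw [e1, e0, h1, h0, ← Finset.sum_sub_distrib, Finset.mul_sum]
    apply Finset.sum_congr rfl
    intro μ hμ
    have := hc2 μ hμ
    rw [pow_one, pow_zero, one_mul, ← mul_assoc, ← this]
    ring

/-- The same for generalized characters in the sense of `Cfsg.IsGeneralizedCharacter`. -/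
theorem generalizedCharacter_mul_sub {G : Type*} [Group G] [Finite G] (χ : G → ℂ)
    (hχ : Cfsg.IsGeneralizedCharacter G χ) (p : ℕ) (hp : p ≠ 0) (x y : G) (hx : x ^ p = 1)
    (hxy : Commute x y) :
    ∃ ω : ℂ, IsIntegral ℤ ω ∧ χ (x * y) - χ y =
      (1 - Complex.exp (2 * Real.pi * Complex.I / p)) * ω := by
  obtain ⟨χ₁, χ₂, ⟨n₁, ρ₁, rfl⟩, ⟨n₂, ρ₂, rfl⟩, rfl⟩ := hχ
  obtain ⟨ω₁, h1, h1'⟩ := rep_character_mul_sub ρ₁ p hp x y hx hxy
  obtain ⟨ω₂, h2, h2'⟩ := rep_character_mul_sub ρ₂ p hp x y hx hxy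
  refine ⟨ω₁ - ω₂, h1.sub h2, ?_⟩
  rw [Pi.sub_apply, Pi.sub_apply, mul_sub, ← h1', ← h2']
  ring

end Cfsg.Agent.Helper75
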