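import Cfsg.Agent.Helper75.BrauerPairPrincipal
import Cfsg.Agent.Helper79.Quotient
import Cfsg.Prelude.Def_BlockLocal

/-!
# Transport of blocks along group isomorphisms; the principal block is stable

* `index_centralizer_mulEquiv`, `centralChar_comp_mulEquiv`: central characters transport along
  a group isomorphism.
* `sameBlock_comp_mulEquiv`, `irrComp`, `irrComp_mem_principalBlock`.
* `conjEquivOfNormalizer`: conjugation by an element normalizing `K`, as an automorphism of `K`.
* `stabilizesBlock_principal`: every element of `N_G(K)` stabilizes the principal block of `K`.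
* `normalizer_le_normalizer_centralizer'`, `stabilizesBlock_principal_centralizer`.
* `conjBlock_principal`: the conjugate of the principal block of `C_G(Q)` by `g` is the principal
  block of `C_G(gQg⁻¹)`.
-/

set_option autoImplicit false
open Cfsg

namespace Cfsg.Agent.Helper75

universe u v

section transport
variable {H : Type u} {K : Type v} [Group H] [Group K]

theorem index_centralizer_mulEquiv (σ : H ≃* K) (h : H) :
    (Subgroup.centralizer ({σ h} : Set K)).index = (Subgroup.centralizer ({h} : Set H)).index := by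
  have h1 : (Subgroup.centralizer ({σ h} : Set K)).comap σ.toMonoidHom
      = Subgroup.centralizer ({h} : Set H) := by
    ext x
    rw [Subgroup.mem_comap, Subgroup.mem_centralizer_iff, Subgroup.mem_centralizer_iff]
    constructor
    · intro hx y hy
      rw [Set.mem_singleton_iff] at hy
      subst hy
      have := hx (σ y) rfl
      apply σ.injective
      simpa using this
    · intro hx y hy
      rw [Set.mem_singleton_iff] at hy
      subst hy
      have := hx h rfl
      have h2 := congrArg σ this
      simpa using h2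
  rw [← h1]
  exact (Subgroup.index_comap_of_surjective _ σ.surjective).symm

theorem centralChar_comp_mulEquiv (σ : H ≃* K) (χ : K → ℂ) (h : H) :
    Cfsg.centralChar (fun x : H => χ (σ x)) h = Cfsg.centralChar χ (σ h) := by
  unfold Cfsg.centralChar
  rw [index_centralizer_mulEquiv]
  show _ * χ (σ h) / χ (σ 1) = _
  rw [map_one]

theorem sameBlock_comp_mulEquiv {M : Ideal Cfsg.AlgInt} (σ : H ≃* K) {ψ χ : K → ℂ}
    (h : Cfsg.SameBlock M ψ χ) :
    Cfsg.SameBlock M (fun x : H => ψ (σ x)) (fun x : H => χ (σ x)) := by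
  intro g
  rw [centralChar_comp_mulEquiv, centralChar_comp_mulEquiv]
  exact h (σ g)

/-- Transport of an irreducible character along a group isomorphism. -/
noncomputable def irrComp (σ : H ≃* K) (χ : Cfsg.IrrCharacter K) : Cfsg.IrrCharacter H :=
  ⟨fun x : H => (χ : K → ℂ) (σ x), (Helper79.isIrrCharacter_mulEquiv σ).2 χ.2⟩

theorem irrComp_apply (σ : H ≃* K) (χ : Cfsg.IrrCharacter K) (x : H) :
    (irrComp σ χ : H → ℂ) x = (χ : K → ℂ) (σ x) := rfl

theorem irrComp_mem_principalBlock {M : Ideal Cfsg.AlgInt} (σ : H ≃* K)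
    {χ : Cfsg.IrrCharacter K} (hχ : χ ∈ Cfsg.principalBlock M K) :
    irrComp σ χ ∈ Cfsg.principalBlock M H := by
  have h1 : Cfsg.SameBlock M (fun _ : K => (1 : ℂ)) (χ : K → ℂ) := hχ
  exact sameBlock_comp_mulEquiv σ h1

end transport

section conj
variable {G : Type u} [Group G]

/-- Conjugation by `g⁻¹` (i.e. `k ↦ g⁻¹ k g`) on a subgroup `K` normalized by `g`. -/
def conjEquivOfNormalizer (K : Subgroup G) (g : G)
    (hg : g ∈ Subgroup.normalizer (K : Set G)) : K ≃* K where
  toFun k := ⟨g⁻¹ * (k : G) * g, by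
    have h1 := (Subgroup.mem_normalizer_iff.mp hg (g⁻¹ * (k : G) * g))
    rw [h1]
    have : g * (g⁻¹ * (k : G) * g) * g⁻¹ = k := by group
    rw [this]
    exact k.2⟩
  invFun k := ⟨g * (k : G) * g⁻¹, (Subgroup.mem_normalizer_iff.mp hg k).1 k.2⟩
  left_inv k := Subtype.ext (by
    show g * (g⁻¹ * (k : G) * g) * g⁻¹ = k
    group)
  right_inv k := Subtype.ext (by
    show g⁻¹ * (g * (k : G) * g⁻¹) * g = k
    group)
  map_mul' a b := Subtype.ext (by
    show g⁻¹ * ((a : G) * (b : G)) * g = g⁻¹ * (a : G) * g * (g⁻¹ * (b : G) * g)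
    group)

theorem conjEquivOfNormalizer_apply (K : Subgroup G) (g : G)
    (hg : g ∈ Subgroup.normalizer (K : Set G)) (k : K) :
    ((conjEquivOfNormalizer K g hg k : K) : G) = g⁻¹ * (k : G) * g := rfl

/-- Every element of the normalizer of `K` stabilizes the principal block of `K`. -/
theorem stabilizesBlock_principal (M : Ideal Cfsg.AlgInt) (K : Subgroup G) (g : G)
    (hg : g ∈ Subgroup.normalizer (K : Set G)) :
    Cfsg.StabilizesBlock K (Cfsg.principalBlock M K) g := by
  refine ⟨hg, fun χ hχ => ?_⟩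
  refine ⟨irrComp (conjEquivOfNormalizer K g hg) χ, irrComp_mem_principalBlock _ hχ, ?_⟩
  intro k k' hk
  rw [irrComp_apply]
  refine congrArg (χ : K → ℂ) (Subtype.ext ?_)
  rw [conjEquivOfNormalizer_apply, hk]
  group

theorem normalizer_le_normalizer_centralizer' (Q : Subgroup G) {g : G}
    (hg : g ∈ Subgroup.normalizer (Q : Set G)) :
    g ∈ Subgroup.normalizer ((Subgroup.centralizer (Q : Set G) : Subgroup G) : Set G) := by
  rw [Subgroup.mem_normalizer_iff]
  intro h
  exact (Helper16.conj_mem_centralizer_iff hg h).symm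

theorem stabilizesBlock_principal_centralizer (M : Ideal Cfsg.AlgInt) (Q : Subgroup G) (g : G)
    (hg : g ∈ Subgroup.normalizer (Q : Set G)) :
    Cfsg.StabilizesBlock (Subgroup.centralizer (Q : Set G))
      (Cfsg.principalBlock M (Subgroup.centralizer (Q : Set G))) g :=
  stabilizesBlock_principal M _ g (normalizer_le_normalizer_centralizer' Q hg)

/-- Conjugation by `g⁻¹` as an isomorphism `C_G(gQg⁻¹) ≃* C_G(Q)`. -/
def centralizerConjEquiv (Q : Subgroup G) (g : G) :
    Subgroup.centralizer ((Q.map (MulAut.conj g).toMonoidHom : Subgroup G) : Set G) ≃*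
      Subgroup.centralizer (Q : Set G) where
  toFun c := ⟨g⁻¹ * (c : G) * g, by
    rw [Subgroup.mem_centralizer_iff]
    intro q hq
    have h1 := Subgroup.mem_centralizer_iff.mp c.2 (g * q * g⁻¹)
      ⟨q, hq, by simp⟩
    calc q * (g⁻¹ * (c : G) * g) = g⁻¹ * ((g * q * g⁻¹) * (c : G)) * g := by group
      _ = g⁻¹ * ((c : G) * (g * q * g⁻¹)) * g := by rw [h1]
      _ = g⁻¹ * (c : G) * g * q := by group⟩
  invFun c := ⟨g * (c : G) * g⁻¹, by
    rw [Subgroup.mem_centralizer_iff]
    rintro _ ⟨q, hq, rfl⟩
    have h1 := Subgroup.mem_centralizer_iff.mp c.2 q hq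
    simp only [MulEquiv.coe_toMonoidHom, MulAut.conj_apply]
    calc g * q * g⁻¹ * (g * (c : G) * g⁻¹) = g * (q * (c : G)) * g⁻¹ := by group
      _ = g * ((c : G) * q) * g⁻¹ := by rw [h1]
      _ = g * (c : G) * g⁻¹ * (g * q * g⁻¹) := by group⟩
  left_inv c := Subtype.ext (by
    show g * (g⁻¹ * (c : G) * g) * g⁻¹ = c
    group)
  right_inv c := Subtype.ext (by
    show g⁻¹ * (g * (c : G) * g⁻¹) * g = c
    group)
  map_mul' a b := Subtype.ext (by
    show g⁻¹ * ((a : G) * (b : G)) * g = g⁻¹ * (a : G) * g * (g⁻¹ * (b : G) * g)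
    group)

theorem centralizerConjEquiv_apply (Q : Subgroup G) (g : G)
    (c : Subgroup.centralizer ((Q.map (MulAut.conj g).toMonoidHom : Subgroup G) : Set G)) :
    ((centralizerConjEquiv Q g c : Subgroup.centralizer (Q : Set G)) : G) = g⁻¹ * (c : G) * g :=
  rfl

theorem centralizerConjEquiv_symm_apply (Q : Subgroup G) (g : G)
    (c : Subgroup.centralizer (Q : Set G)) :
    (((centralizerConjEquiv Q g).symm c :
      Subgroup.centralizer ((Q.map (MulAut.conj g).toMonoidHom : Subgroup G) : Set G)) : G)
      = g * (c : G) * g⁻¹ := rfl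

/-- The conjugate of the principal block of `C_G(Q)` is the principal block of `C_G(gQg⁻¹)`. -/
theorem conjBlock_principal (M : Ideal Cfsg.AlgInt) (Q : Subgroup G) (g : G) :
    Cfsg.conjBlock Q g (Cfsg.principalBlock M (Subgroup.centralizer (Q : Set G)))
      = Cfsg.principalBlock M
          (Subgroup.centralizer ((Q.map (MulAut.conj g).toMonoidHom : Subgroup G) : Set G)) := by
  ext ξ'
  constructor
  · rintro ⟨ξ, hξ, h⟩
    have h1 := irrComp_mem_principalBlock (M := M) (centralizerConjEquiv Q g) hξ
    have h2 : ξ'.1 = (irrComp (centralizerConjEquiv Q g) ξ).1 := by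
      funext c'
      show ξ'.1 c' = ξ.1 (centralizerConjEquiv Q g c')
      apply h
      rw [centralizerConjEquiv_apply]
      group
    show Cfsg.SameBlock M (fun _ => (1 : ℂ)) ξ'.1
    rw [h2]
    exact h1
  · intro hξ'
    refine ⟨irrComp (centralizerConjEquiv Q g).symm ξ',
      irrComp_mem_principalBlock _ hξ', ?_⟩
    intro c c' hc
    rw [irrComp_apply]
    refine congrArg ξ'.1 (Subtype.ext ?_)
    rw [centralizerConjEquiv_symm_apply, hc]

end conj

end Cfsg.Agent.Helper75
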