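import Mathlib
import Cfsg.Prelude.Def_Characters
import Cfsg.Agent.Helper75.CliffordCorr
import Cfsg.Agent.Helper75.ScalarDvd
import Cfsg.Agent.Helper3.Burnside2

/-!
# Inertia subgroups and Itô's theorem (helper75)

* `inertia H θ`: the stabilizer in `G` of the function `θ` on the normal subgroup `H`;
  `mem_inertia`, `le_inertia`.
* `restrict_eq_natCast_smul_of_invariant`: if `θ` is `G`-invariant and occurs in `χ|_H` then
  `χ|_H = e • θ` with `e` a positive natural number.
* `irr_one_eq_one_of_comm`: irreducible characters of abelian groups have degree `1`.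
* `ito_character`: the degree of an irreducible character divides the index of every abelian
  normal subgroup.
-/

set_option autoImplicit false

namespace Cfsg.Agent.Helper75

open Cfsg

universe u

/-- The inertia subgroup of a function `θ` on the normal subgroup `H`. -/
def inertia {G : Type*} [Group G] (H : Subgroup G) [hN : H.Normal] (θ : H → ℂ) : Subgroup G where
  carrier := {g | conjFun H g θ = θ}
  mul_mem' := by
    intro a b ha hb
    show conjFun H (a * b) θ = θ
    have ha' : conjFun H a θ = θ := ha
    have hb' : conjFun H b θ = θ := hb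
    rw [conjFun_mul, ha', hb']
  one_mem' := conjFun_one H θ
  inv_mem' := by
    intro a ha
    show conjFun H a⁻¹ θ = θ
    have ha' : conjFun H a θ = θ := ha
    conv_lhs => rw [← ha']
    exact conjFun_conjFun_inv H a θ

theorem mem_inertia {G : Type*} [Group G] (H : Subgroup G) [hN : H.Normal] (θ : H → ℂ) (g : G) :
    g ∈ inertia H θ ↔ conjFun H g θ = θ := Iff.rfl

theorem le_inertia {G : Type*} [Group G] (H : Subgroup G) [hN : H.Normal] (θ : H → ℂ)
    (hθ : IsClassFunction H θ) : H ≤ inertia H θ := by
  intro h hh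
  rw [mem_inertia]
  funext n
  rw [conjFun_apply]
  have := hθ n ⟨h, hh⟩
  rw [← this]
  congr 1

/-- If `θ` is `G`-invariant and occurs in `χ|_H` then `χ|_H = e • θ`. -/
theorem restrict_eq_natCast_smul_of_invariant {G : Type*} [Group G] [Fintype G] (N : Subgroup G)
    [hN : N.Normal] [Fintype N]
    {χ : G → ℂ} (hχ : IsIrrCharacter G χ) {ϑ : N → ℂ} (hϑ : IsIrrCharacter N ϑ)
    (hcon : classInner (fun n : N => χ n) ϑ ≠ 0) (hinv : ∀ g : G, conjFun N g ϑ = ϑ) :
    ∃ e : ℕ, 0 < e ∧ (fun n : N => χ n) = (e : ℂ) • ϑ ∧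
      classInner (fun n : N => χ n) ϑ = (e : ℂ) := by
  have h1 := clifford_restrict N hχ hϑ hcon
  have hset : {ψ : N → ℂ | ∃ g : G, ψ = conjFun N g ϑ} = {ϑ} := by
    ext ψ
    constructor
    · rintro ⟨g, rfl⟩
      exact hinv g
    · intro h
      exact ⟨1, by rw [Set.mem_singleton_iff.mp h, conjFun_one]⟩
  rw [hset, finsum_mem_singleton] at h1
  obtain ⟨e, he⟩ := Cfsg.Agent.Helper3.classInner_isCharacter_nat
    (Cfsg.Agent.Helper79.isCharacter_restrict (Cfsg.Agent.Helper80.isCharacter_of_irr hχ) N)
    (Cfsg.Agent.Helper80.isCharacter_of_irr hϑ)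
  refine ⟨e, ?_, ?_, he⟩
  · rcases Nat.eq_zero_or_pos e with h0 | h
    · exfalso; apply hcon; rw [he, h0]; simp
    · exact h
  · rw [← he]; exact h1

/-- Irreducible characters of abelian groups have degree `1`. -/
theorem irr_one_eq_one_of_comm {A : Type*} [Group A] (hA : ∀ a b : A, a * b = b * a)
    {θ : A → ℂ} (hθ : IsIrrCharacter A θ) : θ 1 = 1 := by
  obtain ⟨n, τ, hτ, rfl⟩ := hθ
  have : IsMulCommutative A := ⟨⟨hA⟩⟩
  have : τ.IsIrreducible := hτ
  have h1 := Representation.IsIrreducible.finrank_eq_one_of_isMulCommutative τ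
  rw [Representation.char_one, h1]
  simp

/-- Itô's theorem, character form, by induction on the group order. -/
theorem ito_character_aux : ∀ (n : ℕ) (G : Type u) [Group G] [Finite G], Nat.card G = n →
    ∀ (χ : G → ℂ), IsIrrCharacter G χ → ∀ (H : Subgroup G) [H.Normal],
      (∀ a ∈ H, ∀ b ∈ H, a * b = b * a) → charDegree χ ∣ H.index := by
  intro n
  induction n using Nat.strong_induction_on with
  | _ n ih =>
    intro G _ _ hn χ hχ H hHn hab
    classical
    let _ : Fintype G := Fintype.ofFinite G
    let _ : Fintype H := Fintype.ofFinite H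
    have hχc := Cfsg.Agent.Helper80.isCharacter_of_irr hχ
    have hres : IsCharacter H (fun n : H => χ n) := Cfsg.Agent.Helper79.isCharacter_restrict hχc H
    have hres1 : (fun n : H => χ n) 1 ≠ 0 := by
      show χ ((1 : H) : G) ≠ 0
      rw [OneMemClass.coe_one]
      exact Cfsg.Agent.Helper80.irr_one_ne_zero ⟨χ, hχ⟩
    obtain ⟨θ, hθ, hθne⟩ := exists_irr_constituent hres hres1
    have hθc := Cfsg.Agent.Helper80.isCharacter_of_irr hθ
    have hHT : H ≤ inertia H θ := le_inertia H θ (isCharacter_isClassFunction' hθc)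
    let _ : Fintype (inertia H θ) := Fintype.ofFinite _
    by_cases hTtop : inertia H θ = ⊤
    · have hinv : ∀ g : G, conjFun H g θ = θ := by
        intro g
        have : g ∈ inertia H θ := by rw [hTtop]; trivial
        exact this
      obtain ⟨e, hepos, he, -⟩ := restrict_eq_natCast_smul_of_invariant H hχ hθ hθne hinv
      have hθ1 : θ 1 = 1 := irr_one_eq_one_of_comm
        (fun a b => Subtype.ext (hab a a.2 b b.2)) hθ
      obtain ⟨f, hf⟩ := Cfsg.Agent.Helper79.isCharacter_linear hθc hθ1
      obtain ⟨d, ρ, hρ, rfl⟩ := hχ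
      have : ρ.IsIrreducible := hρ
      have hd : Module.finrank ℂ (Fin d → ℂ) = e := by
        have h2 := congrFun he 1
        simp only [Pi.smul_apply, smul_eq_mul, OneMemClass.coe_one, hθ1, mul_one] at h2
        rw [Representation.char_one] at h2
        exact_mod_cast h2
      have hscal : ∀ a ∈ H, ∃ lam : ℂ, ρ a = lam • (LinearMap.id : (Fin d → ℂ) →ₗ[ℂ] (Fin d → ℂ)) := by
        intro a ha
        apply Cfsg.Agent.Helper3.rep_scalar_of_norm_eq ρ a
        have h1 := congrFun he ⟨a, ha⟩
        simp only [Pi.smul_apply, smul_eq_mul] at h1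
        rw [h1, hf, norm_mul, Cfsg.Agent.Helper79.norm_hom_apply, mul_one, hd, Complex.norm_natCast]
      have hdvd := finrank_dvd_index_of_scalar ρ H hscal
      have hdeg : charDegree ρ.character = Module.finrank ℂ (Fin d → ℂ) :=
        charDegree_of_one_eq_nat (Representation.char_one ρ)
      rw [hdeg]
      exact hdvd
    · obtain ⟨ψ, hψ, hψχ, hψθ⟩ := exists_irr_over hHT hθc hχc hθne
      obtain ⟨hEq, -⟩ := clifford_correspondence hHT hθ (fun g => Iff.rfl) hψ hχ hψθ hψχ
      have hψc := Cfsg.Agent.Helper80.isCharacter_of_irr hψ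
      have hidx1 : (inertia H θ).index ≠ 1 := fun h => hTtop (Subgroup.index_eq_one.mp h)
      have hidxpos : 0 < (inertia H θ).index := Nat.pos_of_ne_zero Subgroup.index_ne_zero_of_finite
      have hcard : (inertia H θ).index * Nat.card (inertia H θ) = Nat.card G :=
        Subgroup.index_mul_card _
      have hTlt : Nat.card (inertia H θ) < n := by
        rw [← hn, ← hcard]
        have h2 : 2 ≤ (inertia H θ).index := by omega
        have h3 : 0 < Nat.card (inertia H θ) := Nat.card_pos
        nlinarith
      have hH'n : (H.subgroupOf (inertia H θ)).Normal := Subgroup.normal_subgroupOf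
      have hab' : ∀ a ∈ H.subgroupOf (inertia H θ), ∀ b ∈ H.subgroupOf (inertia H θ),
          a * b = b * a := fun a ha b hb => Subtype.ext (hab a ha b hb)
      have hdvd := ih (Nat.card (inertia H θ)) hTlt (inertia H θ) rfl ψ hψ
        (H.subgroupOf (inertia H θ)) hab'
      have hTne : (Nat.card (inertia H θ) : ℂ) ≠ 0 := by
        exact_mod_cast (Nat.card_pos (α := inertia H θ)).ne'
      have hquot : (Nat.card G : ℂ) / (Nat.card (inertia H θ) : ℂ) = ((inertia H θ).index : ℂ) := by
        rw [← hcard]
        push_cast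
        field_simp
      have hdeg : charDegree χ = (inertia H θ).index * charDegree ψ := by
        apply charDegree_of_one_eq_nat
        rw [← hEq, indFun_one, hquot, Cfsg.Agent.Helper80.isCharacter_one_eq hψc]
        push_cast
        rfl
      rw [hdeg]
      have h1 : H.relIndex (inertia H θ) * (inertia H θ).index = H.index :=
        Subgroup.relIndex_mul_index hHT
      rw [← h1, mul_comm]
      exact Nat.mul_dvd_mul_right hdvd _

/-- Itô's theorem for irreducible characters. -/
theorem ito_character {G : Type u} [Group G] [Finite G] {χ : G → ℂ} (hχ : IsIrrCharacter G χ)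
    (H : Subgroup G) [H.Normal] (hab : ∀ a ∈ H, ∀ b ∈ H, a * b = b * a) :
    charDegree χ ∣ H.index :=
  ito_character_aux (Nat.card G) G rfl χ hχ H hab

end Cfsg.Agent.Helper75
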