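import Mathlib
import Cfsg.Prelude.Def_Characters
import Cfsg.Agent.Helper75.CliffordCorr
import Cfsg.Agent.Helper3.Integral

/-!
# Characters over an invariant character when the quotient is abelian (helper75)

* `irr_one_eq_one_of_comm_mod_ker`: an irreducible character whose kernel contains all commutators
  is linear.
* `irr_eq_twist`: if `⟨ψ' * conj ψ, μ⟩ ≠ 0` for a linear `μ`, then `ψ' = μ * ψ`.
* `exists_irr_over_of_character`: a constituent of a character of `T` lying over a constituent of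
  its restriction to `H`.
* `mult_eq_of_abelian_quotient`: if `θ` is `T`-invariant and `T / H` is abelian, all irreducible
  characters of `T` over `θ` restrict to the same multiple of `θ`.
-/

set_option autoImplicit false

namespace Cfsg.Agent.Helper75

open Cfsg

theorem irr_one_eq_one_of_comm_mod_ker {T : Type*} [Group T] [Finite T] {μ : T → ℂ}
    (hμ : IsIrrCharacter T μ) (h : ∀ x y : T, μ (x * y * x⁻¹ * y⁻¹) = μ 1) : μ 1 = 1 := by
  obtain ⟨n, ρ, hρ, rfl⟩ := hμ
  have hirr := hρ
  have hcomm : ∀ x y : T, ρ x * ρ y = ρ y * ρ x := by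
    intro x y
    have h1 : ρ (x * y * x⁻¹ * y⁻¹) = 1 := Cfsg.Agent.Helper79.rep_eq_one_of_char_eq ρ _ (h x y)
    calc ρ x * ρ y = ρ (x * y * x⁻¹ * y⁻¹) * (ρ y * ρ x) := by
          rw [← map_mul, ← map_mul, ← map_mul]
          congr 1
          group
      _ = ρ y * ρ x := by rw [h1, one_mul]
  have hscal : ∀ x : T, ∃ c : ℂ, ρ x = c • (LinearMap.id : (Fin n → ℂ) →ₗ[ℂ] (Fin n → ℂ)) :=
    fun x => Cfsg.Agent.Helper3.schur_scalar ρ (ρ x) (fun y => hcomm x y)
  rw [Cfsg.Agent.Helper79.isIrreducible_iff] at hirr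
  obtain ⟨hnt, hS⟩ := hirr
  obtain ⟨v, hv⟩ := exists_ne (0 : Fin n → ℂ)
  have hspan := hS (Submodule.span ℂ {v}) (by
    intro g w hw
    obtain ⟨c, hc⟩ := hscal g
    rw [hc]
    simp only [LinearMap.smul_apply, LinearMap.id_coe, id_eq]
    exact Submodule.smul_mem _ _ hw)
  rcases hspan with h0 | htop
  · exfalso
    apply hv
    have : v ∈ Submodule.span ℂ {v} := Submodule.mem_span_singleton_self v
    rw [h0] at this
    simpa using this
  · have h1 : Module.finrank ℂ (Fin n → ℂ) = 1 := by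
      rw [← finrank_top ℂ (Fin n → ℂ), ← htop]
      exact finrank_span_singleton hv
    rw [Representation.char_one, h1]
    simp

theorem irr_eq_twist {T : Type*} [Group T] [Fintype T] {ψ ψ' : T → ℂ} (hψ : IsIrrCharacter T ψ)
    (hψ' : IsIrrCharacter T ψ') (f : T →* ℂˣ)
    (h : classInner (fun t => ψ' t * (starRingEnd ℂ) (ψ t)) (fun t => (f t : ℂ)) ≠ 0) :
    ψ' = fun t => (f t : ℂ) * ψ t := by
  by_contra hne
  apply h
  have h0 := classInner_irr_of_ne hψ' (Cfsg.Agent.Helper79.isIrrCharacter_twist f hψ) hne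
  rw [← h0]
  unfold classInner
  congr 1
  apply Finset.sum_congr rfl
  intro t _
  rw [map_mul]
  ring

theorem exists_irr_over_of_character {G : Type*} [Group G] {H T : Subgroup G} [Fintype H]
    [Fintype T] (hHT : H ≤ T) {θ : H → ℂ} {β : T → ℂ}
    (hβ : IsCharacter T β) (hne : classInner (resTo hHT β) θ ≠ 0) :
    ∃ μ : T → ℂ, IsIrrCharacter T μ ∧ classInner β μ ≠ 0 ∧ classInner (resTo hHT μ) θ ≠ 0 := by
  classical
  let _ : Fintype (IrrCharacter T) := Fintype.ofFinite _
  have hsum := character_eq_sum_irr hβ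
  by_contra hcon
  push Not at hcon
  apply hne
  conv_lhs => rw [hsum]
  rw [resTo_sum, classInner_sum_left]
  apply Finset.sum_eq_zero
  intro μ _
  rw [resTo_smul, classInner_smul_left]
  by_cases h0 : classInner β (μ : T → ℂ) = 0
  · rw [h0, zero_mul]
  · rw [hcon μ μ.2 h0, mul_zero]

/-- If `θ` is `T`-invariant and `T / H` is abelian, all irreducible characters of `T` over `θ`
restrict to the same multiple of `θ`. -/
theorem mult_eq_of_abelian_quotient {G : Type*} [Group G] {H T : Subgroup G} [hN : H.Normal]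
    [Fintype H] [Fintype T] (hHT : H ≤ T) {θ : H → ℂ} (hθ : IsIrrCharacter H θ)
    (hinv : ∀ t ∈ T, conjFun H t θ = θ) (hab : ∀ x ∈ T, ∀ y ∈ T, x * y * x⁻¹ * y⁻¹ ∈ H)
    {ψ ψ' : T → ℂ} (hψ : IsIrrCharacter T ψ) (hψ' : IsIrrCharacter T ψ')
    (hf : classInner (resTo hHT ψ) θ ≠ 0) (hf' : classInner (resTo hHT ψ') θ ≠ 0) :
    classInner (resTo hHT ψ) θ = classInner (resTo hHT ψ') θ := by
  classical
  have hA := restrict_eq_smul_of_invariant hHT hψ hθ hinv hf
  have hA' := restrict_eq_smul_of_invariant hHT hψ' hθ hinv hf'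
  have hψc := Cfsg.Agent.Helper80.isCharacter_of_irr hψ
  have hψ'c := Cfsg.Agent.Helper80.isCharacter_of_irr hψ'
  have h1irr : IsIrrCharacter H (fun _ : H => (1 : ℂ)) := Cfsg.Agent.Helper80.trivial_isIrrCharacter
  set β : T → ℂ := fun t => ψ' t * (starRingEnd ℂ) (ψ t) with hβdef
  have hβ : IsCharacter T β :=
    Cfsg.Agent.Helper79.isCharacter_mul hψ'c (Cfsg.Agent.Helper79.isCharacter_conj hψc)
  have hβres : classInner (resTo hHT β) (fun _ : H => (1 : ℂ)) =
      classInner (resTo hHT ψ') θ * (starRingEnd ℂ) (classInner (resTo hHT ψ) θ) := by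
    have h1 : classInner (resTo hHT β) (fun _ : H => (1 : ℂ)) =
        classInner (resTo hHT ψ') (resTo hHT ψ) := by
      unfold classInner
      congr 1
      apply Finset.sum_congr rfl
      intro n _
      simp [resTo_apply, hβdef]
    rw [h1]
    conv_lhs => rw [hA, hA']
    rw [classInner_smul_left, classInner_smul_right, classInner_irr_self hθ]
    ring
  have hβne : classInner (resTo hHT β) (fun _ : H => (1 : ℂ)) ≠ 0 := by
    rw [hβres]
    exact mul_ne_zero hf' ((map_ne_zero _).mpr hf)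
  obtain ⟨μ, hμ, hβμ, hμ1⟩ := exists_irr_over_of_character hHT hβ hβne
  have hinv1 : ∀ t ∈ T, conjFun H t (fun _ : H => (1 : ℂ)) = fun _ : H => (1 : ℂ) :=
    fun t _ => rfl
  have hμres := restrict_eq_smul_of_invariant hHT hμ h1irr hinv1 hμ1
  have hμH : ∀ n : H, μ ⟨(n : G), hHT n.2⟩ = μ 1 := by
    intro n
    have h2 := congrFun hμres n
    have h3 := congrFun hμres 1
    simp only [resTo_apply, Pi.smul_apply, smul_eq_mul, mul_one] at h2 h3
    have h4 : (⟨((1 : H) : G), hHT (1 : H).2⟩ : T) = 1 := Subtype.ext rfl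
    rw [h4] at h3
    rw [h2, h3]
  have hμlin : μ 1 = 1 := by
    apply irr_one_eq_one_of_comm_mod_ker hμ
    intro x y
    have hmem := hab x x.2 y y.2
    have := hμH ⟨(x : G) * y * (x : G)⁻¹ * (y : G)⁻¹, hmem⟩
    rw [← this]
    congr 1
  obtain ⟨f, hfμ⟩ := Cfsg.Agent.Helper79.isCharacter_linear
    (Cfsg.Agent.Helper80.isCharacter_of_irr hμ) hμlin
  have hβμ' : classInner (fun t => ψ' t * (starRingEnd ℂ) (ψ t)) (fun t => (f t : ℂ)) ≠ 0 := by
    have : (fun t => (f t : ℂ)) = μ := funext (fun t => (hfμ t).symm)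
    rw [this]
    exact hβμ
  have htw := irr_eq_twist hψ hψ' f hβμ'
  have hres : resTo hHT ψ' = resTo hHT ψ := by
    funext n
    rw [resTo_apply, resTo_apply, htw]
    simp only
    rw [← hfμ, hμH n, hμlin, one_mul]
  rw [hres]

end Cfsg.Agent.Helper75
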