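import Mathlib

/-!
# Lattice bound: matrix preliminaries (helper75)

For an integral matrix representation `ρ` of a finite group: the sublattice `latFix ρ K` of
`K`-fixed vectors, the averaging matrix `latAvg ρ K`, and elementary facts on the norm
`∑_{i<p} ρ(x)^i` of an element `x` of order `p`.
-/

set_option autoImplicit false
open Matrix

namespace Cfsg.Agent.Helper75

universe u

variable {G : Type u} [Group G] [Fintype G] {N : ℕ} (ρ : G →* Matrix (Fin N) (Fin N) ℤ)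

/-- The sublattice of `K`-fixed vectors. -/
def latFix (K : Subgroup G) : Submodule ℤ (Fin N → ℤ) where
  carrier := {v | ∀ k ∈ K, ρ k *ᵥ v = v}
  add_mem' := by
    intro a b ha hb k hk
    rw [Matrix.mulVec_add, ha k hk, hb k hk]
  zero_mem' := by
    intro k _
    simp
  smul_mem' := by
    intro c v hv k hk
    rw [Matrix.mulVec_smul, hv k hk]

omit [Fintype G] in
theorem mem_latFix {K : Subgroup G} {v : Fin N → ℤ} :
    v ∈ latFix ρ K ↔ ∀ k ∈ K, ρ k *ᵥ v = v := Iff.rfl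

/-- The averaging matrix `∑_{k ∈ K} ρ(k)`. -/
noncomputable def latAvg (K : Subgroup G) [DecidablePred (· ∈ K)] : Matrix (Fin N) (Fin N) ℤ :=
  ∑ k : K, ρ (k : G)

theorem latAvg_mem (K : Subgroup G) [DecidablePred (· ∈ K)] (v : Fin N → ℤ) :
    latAvg ρ K *ᵥ v ∈ latFix ρ K := by
  intro k hk
  unfold latAvg
  rw [Matrix.mulVec_mulVec, Finset.mul_sum]
  congr 1
  refine Fintype.sum_equiv (Equiv.mulLeft (⟨k, hk⟩ : K)) _ _ (fun k' => ?_)
  simp [map_mul]

theorem latAvg_fix (K : Subgroup G) [DecidablePred (· ∈ K)] {v : Fin N → ℤ}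
    (hv : v ∈ latFix ρ K) : latAvg ρ K *ᵥ v = (Nat.card K : ℤ) • v := by
  unfold latAvg
  have h1 : ∀ k ∈ (Finset.univ : Finset K), ρ (k : G) *ᵥ v = v := fun k _ => hv (k : G) k.2
  rw [Matrix.sum_mulVec, Finset.sum_congr rfl h1, Finset.sum_const,
    Finset.card_univ, Nat.card_eq_fintype_card, natCast_zsmul]

theorem latAvg_comm (K : Subgroup G) [DecidablePred (· ∈ K)] (x : G)
    (hKx : ∀ k ∈ K, k * x = x * k) : latAvg ρ K * ρ x = ρ x * latAvg ρ K := by
  unfold latAvg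
  rw [Finset.sum_mul, Finset.mul_sum]
  refine Finset.sum_congr rfl (fun k _ => ?_)
  rw [← map_mul, ← map_mul, hKx k k.2]

omit [Fintype G] in
theorem latFix_comm_elt (K : Subgroup G) (x : G) (hKx : ∀ k ∈ K, k * x = x * k)
    {v : Fin N → ℤ} (hv : v ∈ latFix ρ K) : ρ x *ᵥ v ∈ latFix ρ K := by
  intro k hk
  rw [Matrix.mulVec_mulVec, ← map_mul, hKx k hk, map_mul, ← Matrix.mulVec_mulVec, hv k hk]

omit [Fintype G] in
theorem latFix_normalizes (K : Subgroup G) (r : G) (hr : ∀ k ∈ K, r⁻¹ * k * r ∈ K)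
    {v : Fin N → ℤ} (hv : v ∈ latFix ρ K) : ρ r *ᵥ v ∈ latFix ρ K := by
  intro k hk
  have h1 : k * r = r * (r⁻¹ * k * r) := by group
  rw [Matrix.mulVec_mulVec, ← map_mul, h1, map_mul, ← Matrix.mulVec_mulVec, hv _ (hr k hk)]

omit [Fintype G] in
theorem latFix_commute (K : Subgroup G) (γ : Matrix (Fin N) (Fin N) ℤ)
    (hγ : ∀ g, γ * ρ g = ρ g * γ) {v : Fin N → ℤ} (hv : v ∈ latFix ρ K) :
    γ *ᵥ v ∈ latFix ρ K := by
  intro k hk
  rw [Matrix.mulVec_mulVec, ← hγ k, ← Matrix.mulVec_mulVec, hv k hk]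

/-- Powers of a matrix preserving a submodule preserve it. -/
theorem lat_pow_mem (L : Submodule ℤ (Fin N → ℤ)) (X : Matrix (Fin N) (Fin N) ℤ)
    (hXL : ∀ v ∈ L, X *ᵥ v ∈ L) (n : ℕ) {v : Fin N → ℤ} (hv : v ∈ L) : (X ^ n) *ᵥ v ∈ L := by
  induction n with
  | zero => simpa using hv
  | succ n ih =>
    rw [pow_succ', ← Matrix.mulVec_mulVec]
    exact hXL _ ih

/-- Geometric sums of a matrix preserving a submodule preserve it. -/
theorem lat_geom_mem (L : Submodule ℤ (Fin N → ℤ)) (X : Matrix (Fin N) (Fin N) ℤ)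
    (hXL : ∀ v ∈ L, X *ᵥ v ∈ L) (n : ℕ) {v : Fin N → ℤ} (hv : v ∈ L) :
    (∑ i ∈ Finset.range n, X ^ i) *ᵥ v ∈ L := by
  rw [Matrix.sum_mulVec]
  exact L.sum_mem fun i _ => lat_pow_mem L X hXL i hv

omit [Fintype G] in
theorem lat_X_pow (x : G) (p : ℕ) (hx : orderOf x = p) : ρ x ^ p = 1 := by
  rw [← map_pow, ← hx, pow_orderOf_eq_one, map_one]

omit [Fintype G] in
theorem lat_nm_mul_sub (x : G) (p : ℕ) (hx : orderOf x = p) :
    (∑ i ∈ Finset.range p, ρ x ^ i) * (ρ x - 1) = 0 := by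
  rw [geom_sum_mul, lat_X_pow ρ x p hx, sub_self]

omit [Fintype G] in
theorem lat_sub_mul_nm (x : G) (p : ℕ) (hx : orderOf x = p) :
    (ρ x - 1) * (∑ i ∈ Finset.range p, ρ x ^ i) = 0 := by
  rw [mul_geom_sum, lat_X_pow ρ x p hx, sub_self]

/-- `p = Nm - (X - 1) Q` with `Q = ∑_{i<p} ∑_{j<i} X^j`. -/
theorem lat_p_eq (X : Matrix (Fin N) (Fin N) ℤ) (p : ℕ) :
    (p : Matrix (Fin N) (Fin N) ℤ) = (∑ i ∈ Finset.range p, X ^ i)
      - (X - 1) * ∑ i ∈ Finset.range p, ∑ j ∈ Finset.range i, X ^ j := by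
  rw [Finset.mul_sum]
  have h1 : ∀ i ∈ Finset.range p, (X - 1) * ∑ j ∈ Finset.range i, X ^ j = X ^ i - 1 :=
    fun i _ => mul_geom_sum X i
  rw [Finset.sum_congr rfl h1, Finset.sum_sub_distrib]
  simp

/-- The finset of powers of `x`. -/
noncomputable def latPow (x : G) (p : ℕ) : Finset G :=
  open Classical in (Finset.range p).image (x ^ ·)

theorem mem_latPow (x : G) (p : ℕ) (hx : orderOf x = p) (g : G) :
    g ∈ latPow x p ↔ g ∈ Subgroup.zpowers x := by
  classical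
  unfold latPow
  rw [← hx]
  exact (mem_zpowers_iff_mem_range_orderOf).symm

omit [Fintype G] in
theorem lat_sum_latPow (x : G) (p : ℕ) (hx : orderOf x = p) {R : Type*} [AddCommMonoid R]
    (f : G → R) : ∑ i ∈ Finset.range p, f (x ^ i) = ∑ g ∈ latPow x p, f g := by
  classical
  unfold latPow
  rw [Finset.sum_image]
  intro i hi j hj hij
  have hi' : i < orderOf x := by rw [hx]; exact Finset.mem_range.mp hi
  have hj' : j < orderOf x := by rw [hx]; exact Finset.mem_range.mp hj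
  exact pow_injOn_Iio_orderOf hi' hj' hij

omit [Fintype G] in
theorem lat_nm_eq (x : G) (p : ℕ) (hx : orderOf x = p) :
    ∑ i ∈ Finset.range p, ρ x ^ i = ∑ g ∈ latPow x p, ρ g := by
  rw [← lat_sum_latPow x p hx (fun g => ρ g)]
  exact Finset.sum_congr rfl (fun i _ => (map_pow ρ x i).symm)

theorem lat_nm_inv (x : G) (p : ℕ) (hx : orderOf x = p) :
    ∑ i ∈ Finset.range p, ρ (x ^ i)⁻¹ = ∑ i ∈ Finset.range p, ρ x ^ i := by
  rw [lat_nm_eq ρ x p hx, lat_sum_latPow x p hx (fun g => ρ g⁻¹)]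
  refine Finset.sum_nbij' (fun g => g⁻¹) (fun g => g⁻¹) ?_ ?_ ?_ ?_ ?_
  · intro g hg
    rw [mem_latPow x p hx] at hg ⊢
    exact inv_mem hg
  · intro g hg
    rw [mem_latPow x p hx] at hg ⊢
    exact inv_mem hg
  · intro g _; simp
  · intro g _; simp
  · intro g _; rfl

theorem lat_nm_conj (x : G) (p : ℕ) (hx : orderOf x = p) (r : G)
    (hr : r ∈ Subgroup.normalizer ((Subgroup.zpowers x : Subgroup G) : Set G)) :
    ρ r * (∑ i ∈ Finset.range p, ρ x ^ i) = (∑ i ∈ Finset.range p, ρ x ^ i) * ρ r := by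
  rw [lat_nm_eq ρ x p hx, Finset.mul_sum, Finset.sum_mul]
  refine Finset.sum_nbij' (fun g => r * g * r⁻¹) (fun g => r⁻¹ * g * r) ?_ ?_ ?_ ?_ ?_
  · intro g hg
    rw [mem_latPow x p hx] at hg ⊢
    exact (Subgroup.mem_normalizer_iff.mp hr g).mp hg
  · intro g hg
    rw [mem_latPow x p hx] at hg ⊢
    have := (Subgroup.mem_normalizer_iff.mp (inv_mem hr) g).mp hg
    simpa using this
  · intro g _; group
  · intro g _; group
  · intro g _
    rw [← map_mul, ← map_mul]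
    congr 1
    group

end Cfsg.Agent.Helper75
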