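import Mathlib
import Cfsg.Prelude.Def_Characters
import Cfsg.Prelude.Def_Blocks
import Cfsg.Agent.Helper75.LatDefs
import Cfsg.Agent.Helper84.LatP3

/-!
# Lattice bound: the transfer computation (helper75)

`lat_side`: given rank-one lifts `A i` (commuting with `ρ x`) of the dual basis `ℓ i, y i` of
`M / T`, the TI transfers `γ i` of the `A i` commute with `ρ G` and act on the `y j` as
`δ_ij c` modulo `T`.
-/

set_option autoImplicit false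
open Cfsg Matrix

namespace Cfsg.Agent.Helper75

universe u

/-- Bezout: `κ v ∈ T`, `p v ∈ T`, `p ∤ κ` imply `v ∈ T`. -/
theorem lat_bezout_mem {N : ℕ} (p : ℕ) [Fact p.Prime] (T : Submodule ℤ (Fin N → ℤ)) (κ : ℤ)
    (hκ : ¬ (p : ℤ) ∣ κ) (v : Fin N → ℤ) (h1 : κ • v ∈ T) (h2 : (p : ℤ) • v ∈ T) : v ∈ T := by
  have hp : Prime (p : ℤ) := Nat.prime_iff_prime_int.mp (Fact.out)
  have hcop : IsCoprime (p : ℤ) κ := (hp.coprime_iff_not_dvd).mpr hκ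
  obtain ⟨s, t, hst⟩ := hcop
  have : v = s • ((p : ℤ) • v) + t • (κ • v) := by
    rw [smul_smul, smul_smul, ← add_smul, hst, one_smul]
  rw [this]
  exact T.add_mem (T.smul_mem _ h2) (T.smul_mem _ h1)

variable {G : Type u} [Group G] [Fintype G] {N : ℕ}

theorem lat_side (p : ℕ) [Fact p.Prime] (ρ : G →* Matrix (Fin N) (Fin N) ℤ) (x : G)
    (hx : orderOf x = p) (n₀ : ℕ)
    (hn₀ : n₀ * p = Nat.card (Subgroup.normalizer ((Subgroup.zpowers x : Subgroup G) : Set G)))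
    (κ sgn : ℤ) (hκ : ¬ (p : ℤ) ∣ κ)
    (M T : Submodule ℤ (Fin N → ℤ)) (hpM : ∀ v ∈ M, (p : ℤ) • v ∈ T)
    (hNM : ∀ r ∈ Subgroup.normalizer ((Subgroup.zpowers x : Subgroup G) : Set G),
      ∀ v ∈ M, ρ r *ᵥ v ∈ M)
    (hNT : ∀ r ∈ Subgroup.normalizer ((Subgroup.zpowers x : Subgroup G) : Set G),
      ∀ v ∈ T, ρ r *ᵥ v ∈ T)
    (hcM : ∀ γ : Matrix (Fin N) (Fin N) ℤ, (∀ g, γ * ρ g = ρ g * γ) → ∀ v ∈ M, γ *ᵥ v ∈ M)
    (a : ℕ) (y ℓ : Fin a → (Fin N → ℤ)) (hyM : ∀ j, y j ∈ M)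
    (hℓT : ∀ j, ∀ s ∈ T, (p : ℤ) ∣ ℓ j ⬝ᵥ s)
    (hℓy : ∀ i j, ℓ i ⬝ᵥ y j ≡ (if i = j then 1 else 0) [ZMOD p])
    (heig : ∀ r ∈ Subgroup.normalizer ((Subgroup.zpowers x : Subgroup G) : Set G),
      ∀ j, ∃ μ : ℤ, ρ r *ᵥ y j - μ • y j ∈ T)
    (hlift : ∀ i : Fin a, ∃ A : Matrix (Fin N) (Fin N) ℤ, A * ρ x = ρ x * A ∧
      (∀ v, A *ᵥ v ∈ M) ∧ ∀ u ∈ M, A *ᵥ u - (sgn * κ * (ℓ i ⬝ᵥ u)) • y i ∈ T)
    (hδ : ∀ (D : Matrix (Fin N) (Fin N) ℤ) (u : Fin N → ℤ), u ∈ M →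
      (∑ i ∈ Finset.range p, ρ (x ^ i)⁻¹ * D * ρ (x ^ i)) *ᵥ u ∈ M →
      κ • ((∑ i ∈ Finset.range p, ρ (x ^ i)⁻¹ * D * ρ (x ^ i)) *ᵥ u) ∈ T) :
    ∃ γ : Fin a → Matrix (Fin N) (Fin N) ℤ, (∀ i g, γ i * ρ g = ρ g * γ i) ∧
      ∀ i j, γ i *ᵥ y j - (if i = j then sgn * κ * n₀ else 0) • y j ∈ T := by
  classical
  have hp : p.Prime := Fact.out
  have key : ∀ i : Fin a, ∃ γ : Matrix (Fin N) (Fin N) ℤ, (∀ g, γ * ρ g = ρ g * γ) ∧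
      ∀ j, γ *ᵥ y j - (if i = j then sgn * κ * n₀ else 0) • y j ∈ T := by
    intro i
    obtain ⟨A, hAX, hAM, hAu⟩ := hlift i
    obtain ⟨Tf, δ, hTN, hTcard, hcomm⟩ := Helper84.lat_transfer ρ p x hx A hAX
    have hcard : Tf.card = n₀ := by
      have h1 : Tf.card * p = n₀ * p := by rw [hTcard, hn₀]
      exact Nat.eq_of_mul_eq_mul_right hp.pos h1
    refine ⟨_, hcomm, fun j => ?_⟩
    have hterm : ∀ r ∈ Tf, (ρ r⁻¹ * A * ρ r) *ᵥ y j ∈ M ∧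
        (ρ r⁻¹ * A * ρ r) *ᵥ y j - (if i = j then sgn * κ else 0) • y j ∈ T := by
      intro r hr
      have hrN := hTN r hr
      have hrN' : r⁻¹ ∈ Subgroup.normalizer ((Subgroup.zpowers x : Subgroup G) : Set G) :=
        inv_mem hrN
      obtain ⟨μ, hμ⟩ := heig r hrN j
      have huM : ρ r *ᵥ y j ∈ M := hNM r hrN _ (hyM j)
      have h1 := hAu _ huM
      have hexp : (ρ r⁻¹ * A * ρ r) *ᵥ y j = ρ r⁻¹ *ᵥ (A *ᵥ (ρ r *ᵥ y j)) := by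
        rw [Matrix.mulVec_mulVec, Matrix.mulVec_mulVec, Matrix.mul_assoc]
      have hinv : ρ r⁻¹ *ᵥ (ρ r *ᵥ y j) = y j := by
        rw [Matrix.mulVec_mulVec, ← map_mul, inv_mul_cancel, map_one, Matrix.one_mulVec]
      refine ⟨by rw [hexp]; exact hNM _ hrN' _ (hAM _), ?_⟩
      have hℓu : (p : ℤ) ∣ ℓ i ⬝ᵥ (ρ r *ᵥ y j) - μ * (if i = j then 1 else 0) := by
        have e1 : ℓ i ⬝ᵥ (ρ r *ᵥ y j) - μ * (if i = j then 1 else 0)
            = ℓ i ⬝ᵥ (ρ r *ᵥ y j - μ • y j) + μ * (ℓ i ⬝ᵥ y j - (if i = j then 1 else 0)) := by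
          rw [dotProduct_sub, dotProduct_smul, smul_eq_mul]; ring
        rw [e1]
        exact dvd_add (hℓT i _ hμ)
          (Dvd.dvd.mul_left (Int.modEq_iff_dvd.mp (hℓy i j).symm) _)
      obtain ⟨q, hq⟩ := hℓu
      have h2 : A *ᵥ (ρ r *ᵥ y j) - (sgn * κ * (μ * (if i = j then 1 else 0))) • y i ∈ T := by
        have e1 : A *ᵥ (ρ r *ᵥ y j) - (sgn * κ * (μ * (if i = j then 1 else 0))) • y i
            = (A *ᵥ (ρ r *ᵥ y j) - (sgn * κ * (ℓ i ⬝ᵥ (ρ r *ᵥ y j))) • y i)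
              + (sgn * κ * q) • ((p : ℤ) • y i) := by
          have : ℓ i ⬝ᵥ (ρ r *ᵥ y j) = μ * (if i = j then 1 else 0) + (p : ℤ) * q := by
            linarith
          rw [this, smul_smul]
          module
        rw [e1]
        exact T.add_mem h1 (T.smul_mem _ (hpM _ (hyM i)))
      have h3 := hNT _ hrN' _ h2
      rw [Matrix.mulVec_sub, Matrix.mulVec_smul] at h3
      rw [hexp]
      by_cases hij : i = j
      · subst hij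
        simp only [if_true, mul_one] at h3 ⊢
        have h4 := hNT _ hrN' _ hμ
        rw [Matrix.mulVec_sub, Matrix.mulVec_smul, hinv] at h4
        have e2 : ρ r⁻¹ *ᵥ (A *ᵥ (ρ r *ᵥ y i)) - (sgn * κ) • y i
            = (ρ r⁻¹ *ᵥ (A *ᵥ (ρ r *ᵥ y i)) - (sgn * κ * μ) • ρ r⁻¹ *ᵥ y i)
              - (sgn * κ) • (y i - μ • ρ r⁻¹ *ᵥ y i) := by
          module
        rw [e2]
        exact T.sub_mem h3 (T.smul_mem _ h4)
      · simp only [if_neg hij, mul_zero, zero_smul, sub_zero] at h3 ⊢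
        exact h3
    -- the sum of the `r`-terms
    have hsumM : ∑ r ∈ Tf, (ρ r⁻¹ * A * ρ r) *ᵥ y j ∈ M :=
      M.sum_mem fun r hr => (hterm r hr).1
    have hsumT : ∑ r ∈ Tf, (ρ r⁻¹ * A * ρ r) *ᵥ y j
        - (if i = j then sgn * κ * n₀ else 0) • y j ∈ T := by
      have h1 : ∑ r ∈ Tf, ((ρ r⁻¹ * A * ρ r) *ᵥ y j - (if i = j then sgn * κ else 0) • y j) ∈ T :=
        T.sum_mem fun r hr => (hterm r hr).2
      have e1 : ∑ r ∈ Tf, ((ρ r⁻¹ * A * ρ r) *ᵥ y j - (if i = j then sgn * κ else 0) • y j)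
          = ∑ r ∈ Tf, (ρ r⁻¹ * A * ρ r) *ᵥ y j
            - (if i = j then sgn * κ * n₀ else 0) • y j := by
        rw [Finset.sum_sub_distrib, Finset.sum_const, hcard]
        congr 1
        split_ifs
        · rw [← natCast_zsmul, smul_smul]
          congr 1; ring
        · simp
      rw [← e1]; exact h1
    -- the `δ`-term
    have hsplit : (∑ r ∈ Tf, ρ r⁻¹ * A * ρ r
          + ∑ i ∈ Finset.range p, ρ (x ^ i)⁻¹ * δ * ρ (x ^ i)) *ᵥ y j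
        = ∑ r ∈ Tf, (ρ r⁻¹ * A * ρ r) *ᵥ y j
          + (∑ i ∈ Finset.range p, ρ (x ^ i)⁻¹ * δ * ρ (x ^ i)) *ᵥ y j := by
      rw [Matrix.add_mulVec, Matrix.sum_mulVec]
    have hγM := hcM _ hcomm _ (hyM j)
    rw [hsplit] at hγM
    have hvM : (∑ i ∈ Finset.range p, ρ (x ^ i)⁻¹ * δ * ρ (x ^ i)) *ᵥ y j ∈ M := by
      have := M.sub_mem hγM hsumM
      rwa [add_sub_cancel_left] at this
    have hvT : (∑ i ∈ Finset.range p, ρ (x ^ i)⁻¹ * δ * ρ (x ^ i)) *ᵥ y j ∈ T :=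
      lat_bezout_mem p T κ hκ _ (hδ δ _ (hyM j) hvM) (hpM _ hvM)
    rw [hsplit]
    have e3 : ∑ r ∈ Tf, (ρ r⁻¹ * A * ρ r) *ᵥ y j
          + (∑ i ∈ Finset.range p, ρ (x ^ i)⁻¹ * δ * ρ (x ^ i)) *ᵥ y j
          - (if i = j then sgn * κ * n₀ else 0) • y j
        = (∑ r ∈ Tf, (ρ r⁻¹ * A * ρ r) *ᵥ y j - (if i = j then sgn * κ * n₀ else 0) • y j)
          + (∑ i ∈ Finset.range p, ρ (x ^ i)⁻¹ * δ * ρ (x ^ i)) *ᵥ y j := by
      abel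
    rw [e3]
    exact T.add_mem hsumT hvT
  choose γ hγ1 hγ2 using key
  exact ⟨γ, hγ1, hγ2⟩

end Cfsg.Agent.Helper75
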