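import Mathlib
import Cfsg.Prelude.Def_Characters
import Cfsg.Prelude.Def_Blocks
import Cfsg.Agent.Helper75.LatDefs
import Cfsg.Agent.Helper75.LatSide
import Cfsg.Agent.Helper9.LatEigenDual
import Cfsg.Agent.Helper39.LatP7

/-!
# Lattice bound: one side (helper75)

`lat_one_side`: for a section `M / T` (an `𝔽_p`-space of dimension `a`) of an integral
representation on which the normalizer of `⟨x⟩` acts through a cyclic group of exponent `p - 1`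
and which admits rank-one lifts, `a ≤ ∑_{χ ∈ ℛ} χ(1)`.
-/

set_option autoImplicit false
open Cfsg Matrix

namespace Cfsg.Agent.Helper75

universe u

/-- A dual pair of families modulo `p` has at most `N` members. -/
theorem lat_card_le (p : ℕ) [Fact p.Prime] {N a : ℕ} (y ℓ : Fin a → (Fin N → ℤ))
    (h : ∀ i j, ℓ i ⬝ᵥ y j ≡ (if i = j then 1 else 0) [ZMOD p]) : a ≤ N := by
  classical
  let Lm : Matrix (Fin a) (Fin N) (ZMod p) := Matrix.of fun i k => ((ℓ i k : ℤ) : ZMod p)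
  let Ym : Matrix (Fin N) (Fin a) (ZMod p) := Matrix.of fun k j => ((y j k : ℤ) : ZMod p)
  have hmul : Lm * Ym = 1 := by
    ext i j
    have h1 := (ZMod.intCast_eq_intCast_iff _ _ p).mpr (h i j)
    rw [Matrix.mul_apply, Matrix.one_apply]
    have h2 : (∑ k, Lm i k * Ym k j) = ((ℓ i ⬝ᵥ y j : ℤ) : ZMod p) := by
      simp [dotProduct, Lm, Ym]
    rw [h2, h1]
    split_ifs <;> simp
  have h3 : (Lm * Ym).rank ≤ Lm.rank := Matrix.rank_mul_le_left Lm Ym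
  rw [hmul, Matrix.rank_one, Fintype.card_fin] at h3
  have h4 : Lm.rank ≤ N := by
    have := Matrix.rank_le_width Lm
    simpa using this
  exact h3.trans h4

variable {G : Type u} [Group G] [Fintype G] {N : ℕ}

theorem lat_one_side (p : ℕ) [Fact p.Prime]
    (ρ : G →* Matrix (Fin N) (Fin N) ℤ) (𝒪 ℛ : Finset (Cfsg.IrrCharacter G))
    (htr : ∀ g : G, (((ρ g).trace : ℤ) : ℂ)
      = ∑ χ ∈ 𝒪, ((Cfsg.charDegree (χ : G → ℂ) : ℕ) : ℂ) * (χ : G → ℂ) g)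
    (hℛ𝒪 : ℛ ⊆ 𝒪) (M₀ : ℕ) (hM₀ : ¬ p ∣ M₀) (hGM : Nat.card G ∣ p * M₀) (hNM₀ : N ≤ M₀)
    (hℛ : ∀ χ ∈ 𝒪, ∃ χ₀ ∈ ℛ, ∃ τ : ℂ ≃+* ℂ, (∀ w : ℂ, w ^ M₀ = 1 → τ w = w) ∧
      ∀ g : G, (χ : G → ℂ) g = τ ((χ₀ : G → ℂ) g))
    (x : G) (hx : orderOf x = p) (n₀ : ℕ)
    (hn₀ : n₀ * p = Nat.card (Subgroup.normalizer ((Subgroup.zpowers x : Subgroup G) : Set G)))
    (hpn₀ : ¬ p ∣ n₀)
    (κ sgn : ℤ) (hκ : ¬ (p : ℤ) ∣ κ) (hsgn : sgn = 1 ∨ sgn = -1)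
    (M T : Submodule ℤ (Fin N → ℤ)) (hTM : T ≤ M) (hpM : ∀ v ∈ M, (p : ℤ) • v ∈ T)
    (hsat : ∀ v : Fin N → ℤ, (p : ℤ) • v ∈ M → v ∈ M)
    (hNM : ∀ r ∈ Subgroup.normalizer ((Subgroup.zpowers x : Subgroup G) : Set G),
      ∀ v ∈ M, ρ r *ᵥ v ∈ M)
    (hNT : ∀ r ∈ Subgroup.normalizer ((Subgroup.zpowers x : Subgroup G) : Set G),
      ∀ v ∈ T, ρ r *ᵥ v ∈ T)
    (hcM : ∀ γ : Matrix (Fin N) (Fin N) ℤ, (∀ g, γ * ρ g = ρ g * γ) → ∀ v ∈ M, γ *ᵥ v ∈ M)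
    (hcT : ∀ γ : Matrix (Fin N) (Fin N) ℤ, (∀ g, γ * ρ g = ρ g * γ) → ∀ v ∈ T, γ *ᵥ v ∈ T)
    (z : G) (hz : z ∈ Subgroup.normalizer ((Subgroup.zpowers x : Subgroup G) : Set G))
    (hzpow : ∀ v ∈ M, (ρ z ^ (p - 1)) *ᵥ v - v ∈ T)
    (hzgen : ∀ r ∈ Subgroup.normalizer ((Subgroup.zpowers x : Subgroup G) : Set G),
      ∀ v ∈ M, ∃ l : ℕ, ρ r *ᵥ v - (ρ z ^ l) *ᵥ v ∈ T)
    (hlift : ∀ w : Fin N → ℤ, w ∈ M → ∀ ℓ : Fin N → ℤ, (∀ s ∈ T, (p : ℤ) ∣ ℓ ⬝ᵥ s) →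
      ∃ A : Matrix (Fin N) (Fin N) ℤ, A * ρ x = ρ x * A ∧ (∀ v, A *ᵥ v ∈ M) ∧
        ∀ u ∈ M, A *ᵥ u - (sgn * κ * (ℓ ⬝ᵥ u)) • w ∈ T)
    (hδ : ∀ (D : Matrix (Fin N) (Fin N) ℤ) (u : Fin N → ℤ), u ∈ M →
      (∑ i ∈ Finset.range p, ρ (x ^ i)⁻¹ * D * ρ (x ^ i)) *ᵥ u ∈ M →
      κ • ((∑ i ∈ Finset.range p, ρ (x ^ i)⁻¹ * D * ρ (x ^ i)) *ᵥ u) ∈ T)
    (a : ℕ) (ha : T.toAddSubgroup.relIndex M.toAddSubgroup = p ^ a) :
    a ≤ ∑ χ ∈ ℛ, Cfsg.charDegree (χ : G → ℂ) := by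
  have hp : p.Prime := Fact.out
  have hpZ : Prime (p : ℤ) := Nat.prime_iff_prime_int.mp hp
  obtain ⟨y, lam, ℓ, hyM, hZy, hℓT, hℓy⟩ := Helper9.lat_eigen_dual p M T hTM hpM hsat (ρ z)
    (hNM z hz) (hNT z hz) hzpow a ha
  have haN : a ≤ N := lat_card_le p y ℓ hℓy
  have hpow : ∀ j (l : ℕ), (ρ z ^ l) *ᵥ y j - (lam j ^ l) • y j ∈ T := by
    intro j l
    induction l with
    | zero => simp
    | succ l ih =>
      have h1 := hNT z hz _ ih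
      rw [Matrix.mulVec_sub, Matrix.mulVec_smul, Matrix.mulVec_mulVec, ← pow_succ'] at h1
      have h2 := T.smul_mem (lam j ^ l) (hZy j)
      have e : (ρ z ^ (l + 1)) *ᵥ y j - (lam j ^ (l + 1)) • y j
          = ((ρ z ^ (l + 1)) *ᵥ y j - lam j ^ l • ρ z *ᵥ y j)
            + lam j ^ l • (ρ z *ᵥ y j - lam j • y j) := by
        rw [pow_succ (lam j)]; module
      rw [e]; exact T.add_mem h1 h2
  have heig : ∀ r ∈ Subgroup.normalizer ((Subgroup.zpowers x : Subgroup G) : Set G),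
      ∀ j, ∃ μ : ℤ, ρ r *ᵥ y j - μ • y j ∈ T := by
    intro r hr j
    obtain ⟨l, hl⟩ := hzgen r hr (y j) (hyM j)
    refine ⟨lam j ^ l, ?_⟩
    have := T.add_mem hl (hpow j l)
    rwa [sub_add_sub_cancel] at this
  obtain ⟨γ, hγc, hγy⟩ := lat_side p ρ x hx n₀ hn₀ κ sgn hκ M T hpM hNM hNT hcM a y ℓ hyM hℓT
    hℓy heig (fun i => hlift (y i) (hyM i) (ℓ i) (hℓT i)) hδ
  have hc : ¬ (p : ℤ) ∣ sgn * κ * n₀ := by
    intro h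
    rcases hpZ.dvd_mul.mp h with h | h
    · rcases hpZ.dvd_mul.mp h with h | h
      · rcases hsgn with rfl | rfl
        · exact hpZ.not_dvd_one h
        · exact hpZ.not_dvd_one ((dvd_neg).mp h)
      · exact hκ h
    · exact hpn₀ (Int.natCast_dvd_natCast.mp h)
  have hℓy' : ∀ j, ¬ (p : ℤ) ∣ ℓ j ⬝ᵥ y j := by
    intro j h
    have h1 := hℓy j j
    rw [if_pos rfl] at h1
    have h2 : (p : ℤ) ∣ ℓ j ⬝ᵥ y j - 1 := Int.modEq_iff_dvd.mp h1.symm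
    exact hpZ.not_dvd_one ((dvd_sub_right h).mp h2)
  exact Helper39.lat_eigen_bound p ρ 𝒪 ℛ (fun χ => Cfsg.charDegree (χ : G → ℂ)) htr hℛ𝒪 M₀ hM₀ hGM
    hℛ a (haN.trans hNM₀) γ hγc T (fun i s hs => hcT _ (hγc i) s hs) y ℓ hℓT hℓy'
    (sgn * κ * n₀) hc hγy

end Cfsg.Agent.Helper75
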