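import Mathlib
import Cfsg.Prelude.Def_Characters
import Cfsg.Prelude.Def_Blocks
import Cfsg.Agent.Helper75.LatDefs
import Cfsg.Agent.Helper75.LatGroup
import Cfsg.Agent.Helper75.LatMat
import Cfsg.Agent.Helper75.LatOne
import Cfsg.Agent.Helper47.LatP8

/-!
# Lattice bound: the two Tate cohomology groups (helper75)

`lat_a_le`, `lat_b_le`: the `𝔽_p`-dimensions `a`, `b` of `Ĥ⁰` and `Ĥ⁻¹` of `⟨x⟩` on the lattice of
`K`-fixed points are at most `∑_{χ ∈ ℛ} χ(1)`.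
-/

set_option autoImplicit false
open Cfsg Matrix

namespace Cfsg.Agent.Helper75

universe u

variable {G : Type u} [Group G] [Fintype G] {N : ℕ}

omit [Fintype G] in
/-- Elements of `C_G(x) = ⟨x⟩ K` act on `K`-fixed vectors as powers of `x`. -/
theorem lat_C_act (ρ : G →* Matrix (Fin N) (Fin N) ℤ) (x : G) (K : Subgroup G)
    (hC : ∀ g : G, g * x = x * g ↔ ∃ i : ℕ, ∃ k ∈ K, g = x ^ i * k) (c : G)
    (hc : c * x = x * c) : ∃ i : ℕ, ∀ v ∈ latFix ρ K, ρ c *ᵥ v = (ρ x ^ i) *ᵥ v := by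
  obtain ⟨i, k, hk, rfl⟩ := (hC c).mp hc
  refine ⟨i, fun v hv => ?_⟩
  rw [map_mul, ← Matrix.mulVec_mulVec, hv k hk, map_pow]

omit [Fintype G] in
theorem lat_n0 (p : ℕ) [Fact p.Prime] (x : G) (hx : orderOf x = p) (M₀ : ℕ) (hM₀ : ¬ p ∣ M₀)
    (hGM : Nat.card G ∣ p * M₀) :
    ∃ n₀ : ℕ, n₀ * p
        = Nat.card (Subgroup.normalizer ((Subgroup.zpowers x : Subgroup G) : Set G)) ∧
      ¬ p ∣ n₀ := by
  have hp : p.Prime := Fact.out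
  have hxN : x ∈ Subgroup.normalizer ((Subgroup.zpowers x : Subgroup G) : Set G) :=
    Subgroup.le_normalizer (Subgroup.mem_zpowers x)
  have h1 : p ∣ Nat.card (Subgroup.normalizer ((Subgroup.zpowers x : Subgroup G) : Set G)) := by
    rw [← hx]; exact Subgroup.orderOf_dvd_natCard _ hxN
  obtain ⟨n₀, hn₀⟩ := h1
  refine ⟨n₀, by rw [hn₀, mul_comm], fun h => hM₀ ?_⟩
  obtain ⟨t, rfl⟩ := h
  have h2 : p * (p * t) ∣ p * M₀ := by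
    rw [← hn₀]
    exact (Subgroup.card_subgroup_dvd_card _).trans hGM
  have h3 := (Nat.mul_dvd_mul_iff_left hp.pos).mp h2
  exact (dvd_mul_right p t).trans h3

omit [Fintype G] in
theorem lat_conj_mat [Finite G] (ρ : G →* Matrix (Fin N) (Fin N) ℤ) (x r : G)
    (hr : r ∈ Subgroup.normalizer ((Subgroup.zpowers x : Subgroup G) : Set G)) :
    ∃ j : ℕ, ρ r * ρ x = ρ x ^ j * ρ r := by
  obtain ⟨j, hj⟩ := lat_conj_pow x r hr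
  refine ⟨j, ?_⟩
  have h1 : r * x = x ^ j * r := by rw [← hj]; group
  rw [← map_mul, h1, map_mul, map_pow]

omit [Fintype G] in
theorem lat_conj_mat' [Finite G] (ρ : G →* Matrix (Fin N) (Fin N) ℤ) (x r : G)
    (hr : r ∈ Subgroup.normalizer ((Subgroup.zpowers x : Subgroup G) : Set G)) :
    ∃ j : ℕ, ρ x * ρ r = ρ r * ρ x ^ j := by
  obtain ⟨j, hj⟩ := lat_conj_pow x r⁻¹ (inv_mem hr)
  rw [inv_inv] at hj
  refine ⟨j, ?_⟩
  have h1 : x * r = r * x ^ j := by rw [← hj]; group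
  rw [← map_mul, h1, map_mul, map_pow]

omit [Fintype G] in
theorem lat_commute_nm (ρ : G →* Matrix (Fin N) (Fin N) ℤ) (x : G) (p : ℕ)
    (γ : Matrix (Fin N) (Fin N) ℤ) (hγ : ∀ g, γ * ρ g = ρ g * γ) :
    γ * (∑ i ∈ Finset.range p, ρ x ^ i) = (∑ i ∈ Finset.range p, ρ x ^ i) * γ := by
  have h1 : Commute γ (ρ x) := hγ x
  exact (Commute.sum_right _ _ _ (fun i _ => h1.pow_right i)).eq

omit [Fintype G] in
theorem lat_pow_fix (X : Matrix (Fin N) (Fin N) ℤ) (v : Fin N → ℤ) (h : X *ᵥ v = v) (i : ℕ) :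
    (X ^ i) *ᵥ v = v := by
  induction i with
  | zero => simp
  | succ i ih => rw [pow_succ, ← Matrix.mulVec_mulVec, h, ih]

omit [Fintype G] in
theorem lat_mem_ker_sub (X : Matrix (Fin N) (Fin N) ℤ) (v : Fin N → ℤ) :
    v ∈ LinearMap.ker (X - 1).mulVecLin ↔ X *ᵥ v = v := by
  rw [LinearMap.mem_ker, Matrix.mulVecLin_apply, Matrix.sub_mulVec, Matrix.one_mulVec,
    sub_eq_zero]

theorem lat_a_le (p : ℕ) [Fact p.Prime]
    (ρ : G →* Matrix (Fin N) (Fin N) ℤ) (𝒪 ℛ : Finset (Cfsg.IrrCharacter G))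
    (htr : ∀ g : G, (((ρ g).trace : ℤ) : ℂ)
      = ∑ χ ∈ 𝒪, ((Cfsg.charDegree (χ : G → ℂ) : ℕ) : ℂ) * (χ : G → ℂ) g)
    (hℛ𝒪 : ℛ ⊆ 𝒪) (M₀ : ℕ) (hM₀ : ¬ p ∣ M₀) (hGM : Nat.card G ∣ p * M₀) (hNM₀ : N ≤ M₀)
    (hℛ : ∀ χ ∈ 𝒪, ∃ χ₀ ∈ ℛ, ∃ τ : ℂ ≃+* ℂ, (∀ w : ℂ, w ^ M₀ = 1 → τ w = w) ∧
      ∀ g : G, (χ : G → ℂ) g = τ ((χ₀ : G → ℂ) g))
    (x : G) (hx : orderOf x = p) (K : Subgroup G) [DecidablePred (· ∈ K)]
    (hK : ¬ p ∣ Nat.card K)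
    (hC : ∀ g : G, g * x = x * g ↔ ∃ i : ℕ, ∃ k ∈ K, g = x ^ i * k) (a : ℕ)
    (ha : ((latFix ρ K).map (∑ i ∈ Finset.range p, ρ x ^ i).mulVecLin).toAddSubgroup.relIndex
      (latFix ρ K ⊓ LinearMap.ker (ρ x - 1).mulVecLin).toAddSubgroup = p ^ a) :
    a ≤ ∑ χ ∈ ℛ, Cfsg.charDegree (χ : G → ℂ) := by
  have hp : p.Prime := Fact.out
  have hKx : ∀ k ∈ K, k * x = x * k := fun k hk => (hC k).mpr ⟨0, k, hk, by simp⟩
  have hXp : ρ x ^ p = 1 := lat_X_pow ρ x p hx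
  have hXL : ∀ v ∈ latFix ρ K, ρ x *ᵥ v ∈ latFix ρ K :=
    fun v hv => latFix_comm_elt ρ K x hKx hv
  have hκ : ¬ (p : ℤ) ∣ (Nat.card K : ℤ) := fun h => hK (Int.natCast_dvd_natCast.mp h)
  have hKN : ∀ r ∈ Subgroup.normalizer ((Subgroup.zpowers x : Subgroup G) : Set G),
      ∀ k ∈ K, r⁻¹ * k * r ∈ K := by
    intro r hr k hk
    have := lat_K_normal p x hx K hK hC r⁻¹ (inv_mem hr) k hk
    rwa [inv_inv] at this
  have hNL : ∀ r ∈ Subgroup.normalizer ((Subgroup.zpowers x : Subgroup G) : Set G),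
      ∀ v ∈ latFix ρ K, ρ r *ᵥ v ∈ latFix ρ K :=
    fun r hr v hv => latFix_normalizes ρ K r (hKN r hr) hv
  obtain ⟨z, hz, hzp, hzgen⟩ := lat_exists_gen p x hx
  obtain ⟨n₀, hn₀, hpn₀⟩ := lat_n0 p x hx M₀ hM₀ hGM
  have hmemM : ∀ v, v ∈ latFix ρ K ⊓ LinearMap.ker (ρ x - 1).mulVecLin
      ↔ v ∈ latFix ρ K ∧ ρ x *ᵥ v = v := by
    intro v
    rw [Submodule.mem_inf, lat_mem_ker_sub]
  have hmemT : ∀ v, v ∈ (latFix ρ K).map (∑ i ∈ Finset.range p, ρ x ^ i).mulVecLin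
      ↔ ∃ u ∈ latFix ρ K, (∑ i ∈ Finset.range p, ρ x ^ i) *ᵥ u = v := by
    intro v
    rw [Submodule.mem_map]
    rfl
  have hnmfix : ∀ v, ρ x *ᵥ v = v → (∑ i ∈ Finset.range p, ρ x ^ i) *ᵥ v = (p : ℤ) • v := by
    intro v hv
    rw [Matrix.sum_mulVec, Finset.sum_congr rfl (fun i _ => lat_pow_fix (ρ x) v hv i),
      Finset.sum_const, Finset.card_range, natCast_zsmul]
  refine lat_one_side p ρ 𝒪 ℛ htr hℛ𝒪 M₀ hM₀ hGM hNM₀ hℛ x hx n₀ hn₀ hpn₀ (Nat.card K : ℤ) 1 hκ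
    (Or.inl rfl) (latFix ρ K ⊓ LinearMap.ker (ρ x - 1).mulVecLin)
    ((latFix ρ K).map (∑ i ∈ Finset.range p, ρ x ^ i).mulVecLin)
    ?_ ?_ ?_ ?_ ?_ ?_ ?_ z hz ?_ ?_ ?_ ?_ a ha
  · -- T ≤ M
    intro s hs
    obtain ⟨u, hu, rfl⟩ := (hmemT s).mp hs
    rw [hmemM]
    refine ⟨lat_geom_mem _ _ hXL p hu, ?_⟩
    have h1 := lat_sub_mul_nm ρ x p hx
    have h2 : (ρ x - 1) *ᵥ ((∑ i ∈ Finset.range p, ρ x ^ i) *ᵥ u) = 0 := by
      rw [Matrix.mulVec_mulVec, h1, Matrix.zero_mulVec]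
    rw [Matrix.sub_mulVec, Matrix.one_mulVec, sub_eq_zero] at h2
    exact h2
  · -- p M ⊆ T
    intro v hv
    obtain ⟨hvL, hvX⟩ := (hmemM v).mp hv
    rw [hmemT]
    exact ⟨v, hvL, hnmfix v hvX⟩
  · -- saturation
    intro v hv
    obtain ⟨hvL, hvX⟩ := (hmemM _).mp hv
    rw [hmemM]
    have hp0 : (p : ℤ) ≠ 0 := by exact_mod_cast hp.ne_zero
    refine ⟨fun k hk => ?_, ?_⟩
    · have h1 := hvL k hk
      rw [Matrix.mulVec_smul] at h1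
      exact smul_right_injective _ hp0 h1
    · rw [Matrix.mulVec_smul] at hvX
      exact smul_right_injective _ hp0 hvX
  · -- N preserves M
    intro r hr v hv
    obtain ⟨hvL, hvX⟩ := (hmemM v).mp hv
    rw [hmemM]
    refine ⟨hNL r hr v hvL, ?_⟩
    obtain ⟨j, hj⟩ := lat_conj_mat' ρ x r hr
    rw [Matrix.mulVec_mulVec, hj, ← Matrix.mulVec_mulVec, lat_pow_fix (ρ x) v hvX j]
  · -- N preserves T
    intro r hr s hs
    obtain ⟨u, hu, rfl⟩ := (hmemT s).mp hs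
    rw [hmemT]
    refine ⟨ρ r *ᵥ u, hNL r hr u hu, ?_⟩
    rw [Matrix.mulVec_mulVec, Matrix.mulVec_mulVec, lat_nm_conj ρ x p hx r hr]
  · -- commuting matrices preserve M
    intro γ hγ v hv
    obtain ⟨hvL, hvX⟩ := (hmemM v).mp hv
    rw [hmemM]
    refine ⟨latFix_commute ρ K γ hγ hvL, ?_⟩
    rw [Matrix.mulVec_mulVec, ← hγ x, ← Matrix.mulVec_mulVec, hvX]
  · -- commuting matrices preserve T
    intro γ hγ s hs
    obtain ⟨u, hu, rfl⟩ := (hmemT s).mp hs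
    rw [hmemT]
    refine ⟨γ *ᵥ u, latFix_commute ρ K γ hγ hu, ?_⟩
    rw [Matrix.mulVec_mulVec, Matrix.mulVec_mulVec, lat_commute_nm ρ x p γ hγ]
  · -- z ^ (p - 1) acts trivially
    intro v hv
    obtain ⟨hvL, hvX⟩ := (hmemM v).mp hv
    obtain ⟨i, hi⟩ := lat_C_act ρ x K hC _ hzp
    rw [← map_pow, hi v hvL, lat_pow_fix (ρ x) v hvX i, sub_self]
    exact Submodule.zero_mem _
  · -- N = ⟨z⟩ C
    intro r hr v hv
    obtain ⟨hvL, hvX⟩ := (hmemM v).mp hv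
    obtain ⟨l, c, hc, rfl⟩ := hzgen r hr
    obtain ⟨i, hi⟩ := lat_C_act ρ x K hC c hc
    refine ⟨l, ?_⟩
    rw [map_mul, ← Matrix.mulVec_mulVec, hi v hvL, lat_pow_fix (ρ x) v hvX i, map_pow, sub_self]
    exact Submodule.zero_mem _
  · -- lifts
    intro w hw ℓ hℓ
    obtain ⟨A, hA1, hA2, hA3⟩ := Helper47.lat_ulift p (latFix ρ K) (ρ x) (latAvg ρ K)
      (Nat.card K : ℤ) hXL hXp (latAvg_mem ρ K) (fun v hv => latAvg_fix ρ K hv)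
      (latAvg_comm ρ K x hKx) w hw ℓ hℓ
    refine ⟨A, hA1, hA2, fun u hu => ?_⟩
    rw [hA3 u hu, one_mul, sub_self]
    exact Submodule.zero_mem _
  · -- the δ-term
    intro D u hu hv
    obtain ⟨huL, huX⟩ := (hmemM u).mp hu
    obtain ⟨hvL, -⟩ := (hmemM _).mp hv
    have h1 : (∑ i ∈ Finset.range p, ρ (x ^ i)⁻¹ * D * ρ (x ^ i)) *ᵥ u
        = (∑ i ∈ Finset.range p, ρ x ^ i) *ᵥ (D *ᵥ u) := by
      rw [← lat_nm_inv ρ x p hx, Matrix.sum_mulVec, Matrix.sum_mulVec]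
      refine Finset.sum_congr rfl (fun i _ => ?_)
      rw [← Matrix.mulVec_mulVec, ← Matrix.mulVec_mulVec, map_pow, lat_pow_fix (ρ x) u huX i]
    rw [← latAvg_fix ρ K hvL, h1, hmemT]
    refine ⟨latAvg ρ K *ᵥ (D *ᵥ u), latAvg_mem ρ K _, ?_⟩
    have h2 : Commute (latAvg ρ K) (ρ x) := latAvg_comm ρ K x hKx
    have h3 : (∑ i ∈ Finset.range p, ρ x ^ i) * latAvg ρ K
        = latAvg ρ K * ∑ i ∈ Finset.range p, ρ x ^ i :=
      ((Commute.sum_right _ _ _ (fun i _ => h2.pow_right i)).eq).symm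
    have h4 : ∀ w : Fin N → ℤ, (∑ i ∈ Finset.range p, ρ x ^ i) *ᵥ (latAvg ρ K *ᵥ w)
        = latAvg ρ K *ᵥ ((∑ i ∈ Finset.range p, ρ x ^ i) *ᵥ w) := by
      intro w
      rw [Matrix.mulVec_mulVec, h3, ← Matrix.mulVec_mulVec]
    exact h4 _

theorem lat_b_le (p : ℕ) [Fact p.Prime]
    (ρ : G →* Matrix (Fin N) (Fin N) ℤ) (𝒪 ℛ : Finset (Cfsg.IrrCharacter G))
    (htr : ∀ g : G, (((ρ g).trace : ℤ) : ℂ)
      = ∑ χ ∈ 𝒪, ((Cfsg.charDegree (χ : G → ℂ) : ℕ) : ℂ) * (χ : G → ℂ) g)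
    (hℛ𝒪 : ℛ ⊆ 𝒪) (M₀ : ℕ) (hM₀ : ¬ p ∣ M₀) (hGM : Nat.card G ∣ p * M₀) (hNM₀ : N ≤ M₀)
    (hℛ : ∀ χ ∈ 𝒪, ∃ χ₀ ∈ ℛ, ∃ τ : ℂ ≃+* ℂ, (∀ w : ℂ, w ^ M₀ = 1 → τ w = w) ∧
      ∀ g : G, (χ : G → ℂ) g = τ ((χ₀ : G → ℂ) g))
    (x : G) (hx : orderOf x = p) (K : Subgroup G) [DecidablePred (· ∈ K)]
    (hK : ¬ p ∣ Nat.card K)
    (hC : ∀ g : G, g * x = x * g ↔ ∃ i : ℕ, ∃ k ∈ K, g = x ^ i * k) (b : ℕ)
    (hb : ((latFix ρ K).map (ρ x - 1).mulVecLin).toAddSubgroup.relIndex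
      (latFix ρ K ⊓ LinearMap.ker (∑ i ∈ Finset.range p, ρ x ^ i).mulVecLin).toAddSubgroup
        = p ^ b) :
    b ≤ ∑ χ ∈ ℛ, Cfsg.charDegree (χ : G → ℂ) := by
  have hp : p.Prime := Fact.out
  have hKx : ∀ k ∈ K, k * x = x * k := fun k hk => (hC k).mpr ⟨0, k, hk, by simp⟩
  have hXp : ρ x ^ p = 1 := lat_X_pow ρ x p hx
  have hXL : ∀ v ∈ latFix ρ K, ρ x *ᵥ v ∈ latFix ρ K :=
    fun v hv => latFix_comm_elt ρ K x hKx hv
  have hκ : ¬ (p : ℤ) ∣ (Nat.card K : ℤ) := fun h => hK (Int.natCast_dvd_natCast.mp h)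
  have hKN : ∀ r ∈ Subgroup.normalizer ((Subgroup.zpowers x : Subgroup G) : Set G),
      ∀ k ∈ K, r⁻¹ * k * r ∈ K := by
    intro r hr k hk
    have := lat_K_normal p x hx K hK hC r⁻¹ (inv_mem hr) k hk
    rwa [inv_inv] at this
  have hNL : ∀ r ∈ Subgroup.normalizer ((Subgroup.zpowers x : Subgroup G) : Set G),
      ∀ v ∈ latFix ρ K, ρ r *ᵥ v ∈ latFix ρ K :=
    fun r hr v hv => latFix_normalizes ρ K r (hKN r hr) hv
  obtain ⟨z, hz, hzp, hzgen⟩ := lat_exists_gen p x hx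
  obtain ⟨n₀, hn₀, hpn₀⟩ := lat_n0 p x hx M₀ hM₀ hGM
  have hmemM : ∀ v, v ∈ latFix ρ K ⊓ LinearMap.ker (∑ i ∈ Finset.range p, ρ x ^ i).mulVecLin
      ↔ v ∈ latFix ρ K ∧ (∑ i ∈ Finset.range p, ρ x ^ i) *ᵥ v = 0 := by
    intro v
    rw [Submodule.mem_inf, LinearMap.mem_ker, Matrix.mulVecLin_apply]
  have hmemT : ∀ v, v ∈ (latFix ρ K).map (ρ x - 1).mulVecLin
      ↔ ∃ u ∈ latFix ρ K, (ρ x - 1) *ᵥ u = v := by
    intro v
    rw [Submodule.mem_map]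
    rfl
  have hgeo : ∀ n : ℕ, ρ x ^ n = 1 + (ρ x - 1) * ∑ j ∈ Finset.range n, ρ x ^ j := by
    intro n
    rw [mul_geom_sum, add_sub_cancel]
  -- `X ^ i w - w ∈ T` for `w ∈ L`
  have hpowsub : ∀ (i : ℕ) (w : Fin N → ℤ), w ∈ latFix ρ K →
      (ρ x ^ i) *ᵥ w - w ∈ (latFix ρ K).map (ρ x - 1).mulVecLin := by
    intro i w hw
    rw [hmemT]
    refine ⟨(∑ j ∈ Finset.range i, ρ x ^ j) *ᵥ w, lat_geom_mem _ _ hXL i hw, ?_⟩
    rw [Matrix.mulVec_mulVec, hgeo i, Matrix.add_mulVec, Matrix.one_mulVec, add_sub_cancel_left]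
  have hNT : ∀ r ∈ Subgroup.normalizer ((Subgroup.zpowers x : Subgroup G) : Set G),
      ∀ v ∈ (latFix ρ K).map (ρ x - 1).mulVecLin,
        ρ r *ᵥ v ∈ (latFix ρ K).map (ρ x - 1).mulVecLin := by
    intro r hr s hs
    obtain ⟨u, hu, rfl⟩ := (hmemT s).mp hs
    rw [hmemT]
    obtain ⟨j, hj⟩ := lat_conj_mat ρ x r hr
    refine ⟨(∑ i ∈ Finset.range j, ρ x ^ i) *ᵥ (ρ r *ᵥ u),
      lat_geom_mem _ _ hXL j (hNL r hr u hu), ?_⟩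
    have h1 : ρ r * (ρ x - 1) = (ρ x - 1) * ((∑ i ∈ Finset.range j, ρ x ^ i) * ρ r) := by
      rw [mul_sub, mul_one, hj, ← mul_assoc, mul_geom_sum, sub_mul, one_mul]
    rw [Matrix.mulVec_mulVec, Matrix.mulVec_mulVec, Matrix.mulVec_mulVec, h1, Matrix.mul_assoc]
  refine lat_one_side p ρ 𝒪 ℛ htr hℛ𝒪 M₀ hM₀ hGM hNM₀ hℛ x hx n₀ hn₀ hpn₀ (Nat.card K : ℤ) (-1)
    hκ (Or.inr rfl) (latFix ρ K ⊓ LinearMap.ker (∑ i ∈ Finset.range p, ρ x ^ i).mulVecLin)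
    ((latFix ρ K).map (ρ x - 1).mulVecLin)
    ?_ ?_ ?_ ?_ hNT ?_ ?_ z hz ?_ ?_ ?_ ?_ b hb
  · -- T ≤ M
    intro s hs
    obtain ⟨u, hu, rfl⟩ := (hmemT s).mp hs
    rw [hmemM]
    refine ⟨?_, ?_⟩
    · rw [Matrix.sub_mulVec, Matrix.one_mulVec]
      exact Submodule.sub_mem _ (hXL u hu) hu
    · rw [Matrix.mulVec_mulVec, lat_nm_mul_sub ρ x p hx, Matrix.zero_mulVec]
  · -- p M ⊆ T
    intro v hv
    obtain ⟨hvL, hvN⟩ := (hmemM v).mp hv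
    rw [hmemT]
    refine ⟨-((∑ i ∈ Finset.range p, ∑ j ∈ Finset.range i, ρ x ^ j) *ᵥ v), ?_, ?_⟩
    · apply Submodule.neg_mem
      rw [Matrix.sum_mulVec]
      exact Submodule.sum_mem _ fun i _ => lat_geom_mem _ _ hXL i hvL
    · have h1 := congrArg (fun A : Matrix (Fin N) (Fin N) ℤ => A *ᵥ v) (lat_p_eq (ρ x) p)
      simp only [Matrix.sub_mulVec, hvN, zero_sub] at h1
      rw [Matrix.mulVec_neg, Matrix.mulVec_mulVec, ← h1]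
      ext k
      simp [Matrix.mulVec, dotProduct, Matrix.natCast_apply]
  · -- saturation
    intro v hv
    obtain ⟨hvL, hvN⟩ := (hmemM _).mp hv
    rw [hmemM]
    have hp0 : (p : ℤ) ≠ 0 := by exact_mod_cast hp.ne_zero
    refine ⟨fun k hk => ?_, ?_⟩
    · have h1 := hvL k hk
      rw [Matrix.mulVec_smul] at h1
      exact smul_right_injective _ hp0 h1
    · rw [Matrix.mulVec_smul] at hvN
      have h2 : (p : ℤ) • ((∑ i ∈ Finset.range p, ρ x ^ i) *ᵥ v) = (p : ℤ) • 0 := by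
        rw [hvN, smul_zero]
      exact smul_right_injective _ hp0 h2
  · -- N preserves M
    intro r hr v hv
    obtain ⟨hvL, hvN⟩ := (hmemM v).mp hv
    rw [hmemM]
    refine ⟨hNL r hr v hvL, ?_⟩
    rw [Matrix.mulVec_mulVec, ← lat_nm_conj ρ x p hx r hr, ← Matrix.mulVec_mulVec, hvN,
      Matrix.mulVec_zero]
  · -- commuting matrices preserve M
    intro γ hγ v hv
    obtain ⟨hvL, hvN⟩ := (hmemM v).mp hv
    rw [hmemM]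
    refine ⟨latFix_commute ρ K γ hγ hvL, ?_⟩
    rw [Matrix.mulVec_mulVec, ← lat_commute_nm ρ x p γ hγ, ← Matrix.mulVec_mulVec, hvN,
      Matrix.mulVec_zero]
  · -- commuting matrices preserve T
    intro γ hγ s hs
    obtain ⟨u, hu, rfl⟩ := (hmemT s).mp hs
    rw [hmemT]
    refine ⟨γ *ᵥ u, latFix_commute ρ K γ hγ hu, ?_⟩
    have h1 : γ * (ρ x - 1) = (ρ x - 1) * γ := by
      rw [mul_sub, sub_mul, hγ x, mul_one, one_mul]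
    rw [Matrix.mulVec_mulVec, Matrix.mulVec_mulVec, h1]
  · -- z ^ (p - 1) acts trivially
    intro v hv
    obtain ⟨hvL, hvN⟩ := (hmemM v).mp hv
    obtain ⟨i, hi⟩ := lat_C_act ρ x K hC _ hzp
    rw [← map_pow, hi v hvL]
    exact hpowsub i v hvL
  · -- N = ⟨z⟩ C
    intro r hr v hv
    obtain ⟨hvL, hvN⟩ := (hmemM v).mp hv
    obtain ⟨l, c, hc, rfl⟩ := hzgen r hr
    obtain ⟨i, hi⟩ := lat_C_act ρ x K hC c hc
    refine ⟨l, ?_⟩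
    have h1 : ρ (z ^ l * c) *ᵥ v - (ρ z ^ l) *ᵥ v = ρ (z ^ l) *ᵥ ((ρ x ^ i) *ᵥ v - v) := by
      rw [map_mul, ← Matrix.mulVec_mulVec, hi v hvL, map_pow, Matrix.mulVec_sub]
    rw [h1]
    exact hNT _ (pow_mem hz l) _ (hpowsub i v hvL)
  · -- lifts
    intro w hw ℓ hℓ
    obtain ⟨A, hA1, hA2, hA3⟩ := Helper47.lat_vlift p (latFix ρ K) (ρ x) (latAvg ρ K)
      (Nat.card K : ℤ) hXL hXp (latAvg_mem ρ K) (fun v hv => latAvg_fix ρ K hv)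
      (latAvg_comm ρ K x hKx) w hw ℓ hℓ
    refine ⟨A, hA1, hA2, fun u hu => ?_⟩
    have e : A *ᵥ u - (-1 * (Nat.card K : ℤ) * (ℓ ⬝ᵥ u)) • w
        = A *ᵥ u + ((Nat.card K : ℤ) * (ℓ ⬝ᵥ u)) • w := by
      rw [neg_one_mul, neg_mul, neg_smul, sub_neg_eq_add]
    rw [e]
    exact hA3 u hu
  · -- the δ-term
    intro D u hu hv
    obtain ⟨huL, huN⟩ := (hmemM u).mp hu
    obtain ⟨hvL, -⟩ := (hmemM _).mp hv
    have hinv : ∀ i : ℕ, (x ^ i)⁻¹ = x ^ (i * (p - 1)) := by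
      intro i
      apply inv_eq_of_mul_eq_one_right
      rw [← pow_add]
      have h1 : i + i * (p - 1) = p * i := by
        have := hp.pos
        obtain ⟨q, rfl⟩ : ∃ q, p = q + 1 := ⟨p - 1, by omega⟩
        simp; ring
      rw [h1, pow_mul, ← hx, pow_orderOf_eq_one, one_pow]
    have h1 : (∑ i ∈ Finset.range p, ρ (x ^ i)⁻¹ * D * ρ (x ^ i)) *ᵥ u
        = (ρ x - 1) *ᵥ (∑ i ∈ Finset.range p,
            (∑ j ∈ Finset.range (i * (p - 1)), ρ x ^ j) *ᵥ (D *ᵥ ((ρ x ^ i) *ᵥ u))) := by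
      rw [Matrix.sum_mulVec, Matrix.mulVec_sum]
      have h2 : ∀ i ∈ Finset.range p, (ρ (x ^ i)⁻¹ * D * ρ (x ^ i)) *ᵥ u
          = D *ᵥ ((ρ x ^ i) *ᵥ u) + (ρ x - 1) *ᵥ
            ((∑ j ∈ Finset.range (i * (p - 1)), ρ x ^ j) *ᵥ (D *ᵥ ((ρ x ^ i) *ᵥ u))) := by
        intro i _
        have e1 : (ρ (x ^ i)⁻¹ * D * ρ (x ^ i)) *ᵥ u
            = (ρ x ^ (i * (p - 1))) *ᵥ (D *ᵥ ((ρ x ^ i) *ᵥ u)) := by
          rw [hinv i, map_pow, map_pow, Matrix.mulVec_mulVec, Matrix.mulVec_mulVec,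
            Matrix.mul_assoc]
        rw [e1]
        conv_lhs => rw [hgeo (i * (p - 1))]
        rw [Matrix.add_mulVec, Matrix.one_mulVec]
        simp only [Matrix.mulVec_mulVec, Matrix.mul_assoc]
      rw [Finset.sum_congr rfl h2, Finset.sum_add_distrib]
      have h3 : ∑ i ∈ Finset.range p, D *ᵥ ((ρ x ^ i) *ᵥ u) = 0 := by
        rw [← Matrix.mulVec_sum, ← Matrix.sum_mulVec, huN, Matrix.mulVec_zero]
      rw [h3, zero_add]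
    rw [← latAvg_fix ρ K hvL, h1, hmemT]
    refine ⟨latAvg ρ K *ᵥ (∑ i ∈ Finset.range p,
      (∑ j ∈ Finset.range (i * (p - 1)), ρ x ^ j) *ᵥ (D *ᵥ ((ρ x ^ i) *ᵥ u))),
      latAvg_mem ρ K _, ?_⟩
    have h4 : latAvg ρ K * (ρ x - 1) = (ρ x - 1) * latAvg ρ K := by
      rw [mul_sub, sub_mul, latAvg_comm ρ K x hKx, mul_one, one_mul]
    rw [Matrix.mulVec_mulVec, ← h4, ← Matrix.mulVec_mulVec]

end Cfsg.Agent.Helper75
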