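import Mathlib
import Cfsg.Prelude.Def_Characters
import Cfsg.Prelude.Def_Blocks
import Cfsg.Agent.Helper79.Basic
import Cfsg.Agent.Helper75.LatDefs
import Cfsg.Agent.Helper75.RationalChar
import Cfsg.Agent.Helper75.LatAB
import Cfsg.Agent.Helper39.LatP4
import Cfsg.Agent.Helper67.LatP1

/-!
# The lattice bound (helper75)

`lattice_bound : LatticeBoundStmt G p`.  For `x` of order `p` with `C_G(x) = ⟨x⟩ K`, `K` a
`p'`-group, and a Galois-stable finite set `𝒪` of irreducible characters,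
`|∑_{χ ∈ 𝒪} ∑_{k ∈ K} χ(1) χ(xk)| ≤ |K| ∑_{χ ∈ ℛ} χ(1)`.
-/

set_option autoImplicit false
open Cfsg Matrix

namespace Cfsg.Agent.Helper75

universe u

variable {G : Type u} [Group G] [Fintype G]

omit [Fintype G] in
/-- Sums over a Galois-stable finite set of irreducible characters are Galois-invariant. -/
theorem lat_sum_fixed (𝒪 : Finset (Cfsg.IrrCharacter G))
    (h𝒪 : ∀ χ ∈ 𝒪, ∀ σ : ℂ ≃+* ℂ, ∃ χ' ∈ 𝒪, ∀ g : G, (χ' : G → ℂ) g = σ ((χ : G → ℂ) g))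
    (σ : ℂ ≃+* ℂ) (F : (G → ℂ) → ℂ)
    (hF : ∀ χ ∈ 𝒪, ∀ χ' ∈ 𝒪, (∀ g : G, (χ' : G → ℂ) g = σ ((χ : G → ℂ) g)) →
      F (χ' : G → ℂ) = σ (F (χ : G → ℂ))) :
    σ (∑ χ ∈ 𝒪, F (χ : G → ℂ)) = ∑ χ ∈ 𝒪, F (χ : G → ℂ) := by
  classical
  let f : Cfsg.IrrCharacter G → Cfsg.IrrCharacter G := fun χ =>
    if h : χ ∈ 𝒪 then (h𝒪 χ h σ).choose else χ
  have hf1 : ∀ χ ∈ 𝒪, f χ ∈ 𝒪 := by
    intro χ hχ
    simp only [f, dif_pos hχ]
    exact (h𝒪 χ hχ σ).choose_spec.1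
  have hf2 : ∀ χ ∈ 𝒪, ∀ g : G, (f χ : G → ℂ) g = σ ((χ : G → ℂ) g) := by
    intro χ hχ
    simp only [f, dif_pos hχ]
    exact (h𝒪 χ hχ σ).choose_spec.2
  have hinj : Set.InjOn f (𝒪 : Set (Cfsg.IrrCharacter G)) := by
    intro χ₁ h₁ χ₂ h₂ h12
    apply Subtype.ext
    funext g
    have := hf2 χ₁ h₁ g
    rw [h12, hf2 χ₂ h₂ g] at this
    exact (σ.injective this).symm
  have himg : 𝒪.image f = 𝒪 := by
    apply Finset.eq_of_subset_of_card_le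
    · intro χ hχ
      obtain ⟨χ₀, h₀, rfl⟩ := Finset.mem_image.mp hχ
      exact hf1 χ₀ h₀
    · rw [Finset.card_image_of_injOn hinj]
  rw [map_sum]
  conv_rhs => rw [← himg]
  rw [Finset.sum_image hinj]
  exact Finset.sum_congr rfl (fun χ hχ => (hF χ hχ (f χ) (hf1 χ hχ) (hf2 χ hχ)).symm)

/-- `∑_{χ ∈ 𝒪} χ(1) χ(g)` is a rational integer. -/
theorem lat_int (𝒪 : Finset (Cfsg.IrrCharacter G))
    (h𝒪 : ∀ χ ∈ 𝒪, ∀ σ : ℂ ≃+* ℂ, ∃ χ' ∈ 𝒪, ∀ g : G, (χ' : G → ℂ) g = σ ((χ : G → ℂ) g))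
    (g : G) : ∃ n : ℤ, ∑ χ ∈ 𝒪, (χ : G → ℂ) 1 * (χ : G → ℂ) g = (n : ℂ) := by
  have hm : Nat.card G ≠ 0 := Nat.card_pos.ne'
  have hmem : ∀ (χ : Cfsg.IrrCharacter G) (h : G), (χ : G → ℂ) h ∈ cycField (Nat.card G) := by
    intro χ h
    obtain ⟨n, ρ', -, hρ⟩ := χ.2
    rw [← hρ]
    exact character_mem_cycField ρ' h
  have hint : ∀ (χ : Cfsg.IrrCharacter G) (h : G), IsIntegral ℤ ((χ : G → ℂ) h) := by
    intro χ h
    obtain ⟨n, ρ', -, hρ⟩ := χ.2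
    rw [← hρ]
    exact character_isIntegral ρ' h
  apply int_of_fixed (Nat.card G) hm
  · exact sum_mem fun χ _ => mul_mem (hmem χ 1) (hmem χ g)
  · exact IsIntegral.sum _ fun χ _ => (hint χ 1).mul (hint χ g)
  · intro σ
    apply lat_sum_fixed 𝒪 h𝒪 σ (fun θ => θ 1 * θ g)
    intro χ _ χ' _ h
    simp only [map_mul, h]

/-- Invariance of an integer-valued sum of characters under coprime power maps. -/
theorem lat_pow_inv (𝒪 : Finset (Cfsg.IrrCharacter G))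
    (hint : ∀ g : G, ∃ n : ℤ, ∑ χ ∈ 𝒪, (χ : G → ℂ) 1 * (χ : G → ℂ) g = (n : ℂ))
    (j : ℕ) (hj : j.Coprime (Nat.card G)) (g : G) :
    ∑ χ ∈ 𝒪, (χ : G → ℂ) 1 * (χ : G → ℂ) (g ^ j)
      = ∑ χ ∈ 𝒪, (χ : G → ℂ) 1 * (χ : G → ℂ) g := by
  obtain ⟨σ, hσ⟩ := exists_ringEquiv_pow (Nat.card G) Nat.card_pos.ne' j hj
  obtain ⟨n, hn⟩ := hint g
  have h1 : ∀ χ ∈ 𝒪, (χ : G → ℂ) 1 * (χ : G → ℂ) (g ^ j)
      = σ ((χ : G → ℂ) 1 * (χ : G → ℂ) g) := by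
    intro χ _
    obtain ⟨m, ρ', -, hρ⟩ := χ.2
    rw [← hρ, map_mul, ← character_pow_eq ρ' σ j hσ g, ← character_pow_eq ρ' σ j hσ 1, one_pow]
  rw [Finset.sum_congr rfl h1, ← map_sum, hn, map_intCast]

theorem lattice_bound (p : ℕ) [Fact p.Prime] : LatticeBoundStmt G p := by
  classical
  intro x K _ 𝒪 ℛ M₀ hx hK hC h𝒪 hM₀ hGM hGle hℛ
  have hp : p.Prime := Fact.out
  have hKx : ∀ k ∈ K, k * x = x * k := fun k hk => (hC k).mpr ⟨0, k, hk, by simp⟩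
  -- reduce to `ℛ ⊆ 𝒪`
  have hℛ' : ∀ χ ∈ 𝒪, ∃ χ₀ ∈ ℛ.filter (· ∈ 𝒪), ∃ τ : ℂ ≃+* ℂ,
      (∀ w : ℂ, w ^ M₀ = 1 → τ w = w) ∧ ∀ g : G, (χ : G → ℂ) g = τ ((χ₀ : G → ℂ) g) := by
    intro χ hχ
    obtain ⟨χ₀, h₀, τ, hτ, hχτ⟩ := hℛ χ hχ
    refine ⟨χ₀, Finset.mem_filter.mpr ⟨h₀, ?_⟩, τ, hτ, hχτ⟩
    obtain ⟨χ', h', hχ'⟩ := h𝒪 χ hχ τ.symm
    have : χ' = χ₀ := by
      apply Subtype.ext
      funext g
      rw [hχ' g, hχτ g, RingEquiv.symm_apply_apply]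
    rw [← this]; exact h'
  have hsub : ℛ.filter (· ∈ 𝒪) ⊆ 𝒪 := fun χ hχ => (Finset.mem_filter.mp hχ).2
  -- the lattice
  have hint := lat_int 𝒪 h𝒪
  obtain ⟨N, ρ, hN, htr0⟩ := Helper39.lat_exists 𝒪 hint
  have htr : ∀ g : G, (((ρ g).trace : ℤ) : ℂ)
      = ∑ χ ∈ 𝒪, ((Cfsg.charDegree (χ : G → ℂ) : ℕ) : ℂ) * (χ : G → ℂ) g := by
    intro g
    rw [htr0 g]
    refine Finset.sum_congr rfl (fun χ _ => ?_)
    rw [Helper79.isCharacter_one_eq_charDegree (Helper79.isCharacter_of_irr χ.2)]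
  have hXp : ρ x ^ p = 1 := lat_X_pow ρ x p hx
  have hXL : ∀ v ∈ latFix ρ K, ρ x *ᵥ v ∈ latFix ρ K :=
    fun v hv => latFix_comm_elt ρ K x hKx hv
  have hκ0 : (Nat.card K : ℤ) ≠ 0 := by exact_mod_cast (Nat.card_pos (α := K)).ne'
  -- traces
  have htrE : ∀ k : ℕ, (((latAvg ρ K * ρ x ^ k).trace : ℤ) : ℂ)
      = ∑ κ' : K, ∑ χ ∈ 𝒪, (χ : G → ℂ) 1 * (χ : G → ℂ) ((κ' : G) * x ^ k) := by
    intro k
    unfold latAvg
    rw [Finset.sum_mul, Matrix.trace_sum, Int.cast_sum]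
    refine Finset.sum_congr rfl (fun κ' _ => ?_)
    rw [← map_pow, ← map_mul, htr0]
  have htrE1 : (((latAvg ρ K * ρ x).trace : ℤ) : ℂ)
      = ∑ κ' : K, ∑ χ ∈ 𝒪, (χ : G → ℂ) 1 * (χ : G → ℂ) ((κ' : G) * x) := by
    have := htrE 1
    simpa only [pow_one] using this
  -- |G| = p * m'
  have hpG : p ∣ Nat.card G := by rw [← hx]; exact orderOf_dvd_natCard x
  obtain ⟨m', hm'⟩ := hpG
  have hpm' : ¬ p ∣ m' := by
    intro h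
    obtain ⟨t, rfl⟩ := h
    rw [hm'] at hGM
    have h3 := (Nat.mul_dvd_mul_iff_left hp.pos).mp hGM
    exact hM₀ ((dvd_mul_right p t).trans h3)
  have hcop : Nat.Coprime p m' := (Nat.Prime.coprime_iff_not_dvd hp).mpr hpm'
  have htr' : ∀ k ∈ Finset.Ico 1 p, (latAvg ρ K * ρ x ^ k).trace = (latAvg ρ K * ρ x).trace := by
    intro k hk
    obtain ⟨hk1, hkp⟩ := Finset.mem_Ico.mp hk
    have h1 := htrE k
    have h2 := htrE1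
    have h3 : ∑ κ' : K, ∑ χ ∈ 𝒪, (χ : G → ℂ) 1 * (χ : G → ℂ) ((κ' : G) * x ^ k)
        = ∑ κ' : K, ∑ χ ∈ 𝒪, (χ : G → ℂ) 1 * (χ : G → ℂ) ((κ' : G) * x) := by
      refine Finset.sum_congr rfl (fun κ' _ => ?_)
      -- choose j ≡ k mod p, j ≡ 1 mod m'
      obtain ⟨j, hj1, hj2⟩ := Nat.chineseRemainder hcop k 1
      have hjp : Nat.Coprime j p := by
        rw [Nat.coprime_comm, Nat.Prime.coprime_iff_not_dvd hp]
        intro h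
        have h4 : p ∣ k := (Nat.modEq_zero_iff_dvd.mp
          (hj1.symm.trans (Nat.modEq_zero_iff_dvd.mpr h)))
        exact absurd (Nat.le_of_dvd (by omega) h4) (by omega)
      have hjm : Nat.Coprime j m' := by
        have := hj2.gcd_eq
        rw [Nat.gcd_one_left] at this
        exact this
      have hjG : Nat.Coprime j (Nat.card G) := by
        rw [hm']; exact Nat.Coprime.mul_right hjp hjm
      have hκord : orderOf (κ' : G) ∣ m' := by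
        have h5 : orderOf (κ' : G) ∣ p * m' := by rw [← hm']; exact orderOf_dvd_natCard _
        have h6 : ¬ p ∣ orderOf (κ' : G) :=
          ((lat_mem_K_iff p x hx K hK hC (κ' : G)).mp κ'.2).2
        exact (Nat.Coprime.dvd_mul_left
          ((Nat.Prime.coprime_iff_not_dvd hp).mpr h6).symm).mp h5
      have h7 : ((κ' : G) * x) ^ j = (κ' : G) * x ^ k := by
        have hc : Commute (κ' : G) x := hKx _ κ'.2
        rw [hc.mul_pow]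
        congr 1
        · have : (κ' : G) ^ j = (κ' : G) ^ 1 :=
            pow_eq_pow_iff_modEq.mpr (hj2.of_dvd hκord)
          rw [this, pow_one]
        · exact pow_eq_pow_iff_modEq.mpr (by rw [hx]; exact hj1)
      rw [← h7, lat_pow_inv 𝒪 hint j hjG]
    rw [h3, ← h2] at h1
    exact_mod_cast h1
  obtain ⟨a, b, ha, hb, hab⟩ := Helper67.lat_herbrand p (latFix ρ K) (ρ x) (latAvg ρ K)
    (Nat.card K : ℤ) hκ0 hXL hXp (latAvg_mem ρ K) (fun v hv => latAvg_fix ρ K hv) htr'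
  have hNM₀ : N ≤ M₀ := hN.trans hGle
  have hale := lat_a_le p ρ 𝒪 (ℛ.filter (· ∈ 𝒪)) htr hsub M₀ hM₀ hGM hNM₀ hℛ' x hx K hK hC a ha
  have hble := lat_b_le p ρ 𝒪 (ℛ.filter (· ∈ 𝒪)) htr hsub M₀ hM₀ hGM hNM₀ hℛ' x hx K hK hC b hb
  have hle : ∑ χ ∈ ℛ.filter (· ∈ 𝒪), Cfsg.charDegree (χ : G → ℂ)
      ≤ ∑ χ ∈ ℛ, Cfsg.charDegree (χ : G → ℂ) :=
    Finset.sum_le_sum_of_subset (Finset.filter_subset _ _)
  -- the left side is `κ (a - b)`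
  have hLHS : ∑ χ ∈ 𝒪, ∑ k : K, (χ : G → ℂ) 1 * (χ : G → ℂ) (x * (k : G))
      = (((Nat.card K : ℤ) * ((a : ℤ) - b) : ℤ) : ℂ) := by
    rw [hab, htrE1, Finset.sum_comm]
    refine Finset.sum_congr rfl (fun κ' _ => Finset.sum_congr rfl (fun χ _ => ?_))
    rw [hKx _ κ'.2]
  rw [hLHS, Complex.norm_intCast]
  have h1 : |(((Nat.card K : ℤ) * ((a : ℤ) - b) : ℤ) : ℝ)|
      = (Nat.card K : ℝ) * |((a : ℝ) - b)| := by
    push_cast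
    rw [abs_mul, abs_of_nonneg (Nat.cast_nonneg _)]
  rw [h1]
  apply mul_le_mul_of_nonneg_left _ (Nat.cast_nonneg _)
  have h2 : |((a : ℝ) - b)| ≤ ((∑ χ ∈ ℛ, Cfsg.charDegree (χ : G → ℂ) : ℕ) : ℝ) := by
    have ha' : (a : ℝ) ≤ ((∑ χ ∈ ℛ, Cfsg.charDegree (χ : G → ℂ) : ℕ) : ℝ) := by
      exact_mod_cast hale.trans hle
    have hb' : (b : ℝ) ≤ ((∑ χ ∈ ℛ, Cfsg.charDegree (χ : G → ℂ) : ℕ) : ℝ) := by
      exact_mod_cast hble.trans hle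
    rw [abs_le]
    constructor
    · have : (0 : ℝ) ≤ (a : ℝ) := Nat.cast_nonneg _
      linarith
    · have : (0 : ℝ) ≤ (b : ℝ) := Nat.cast_nonneg _
      linarith
  calc |((a : ℝ) - b)| ≤ ((∑ χ ∈ ℛ, Cfsg.charDegree (χ : G → ℂ) : ℕ) : ℝ) := h2
    _ = ∑ χ ∈ ℛ, (Cfsg.charDegree (χ : G → ℂ) : ℝ) := by push_cast; rfl

end Cfsg.Agent.Helper75
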