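import Mathlib
import Cfsg.Prelude.Def_Characters
import Cfsg.Agent.Helper75.Zeros

/-!
# More on zeros of characters (helper75)

* `sum_normSq_character`: `∑ g, ‖χ g‖ ^ 2 = |G|` for an irreducible representation.
* `upow_mem_iff`: subgroups are closed under the Galois power maps, in both directions.
-/

set_option autoImplicit false

namespace Cfsg.Agent.Helper75

/-- First orthogonality relation in norm form. -/
theorem sum_normSq_character {G : Type*} [Group G] [Fintype G] {V : Type*} [AddCommGroup V]
    [Module ℂ V] [FiniteDimensional ℂ V] (ρ : Representation ℂ G V) (hρ : ρ.IsIrreducible) :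
    ∑ g : G, ‖ρ.character g‖ ^ 2 = (Nat.card G : ℝ) := by
  have hm : Nat.card G ≠ 0 := Nat.card_pos.ne'
  have hne : (Nat.card G : ℂ) ≠ 0 := by exact_mod_cast hm
  have : Invertible (Nat.card G : ℂ) := invertibleOfNonzero hne
  have horth := Representation.char_orthonormal ρ ρ
  rw [if_pos ⟨Representation.Equiv.refl ρ⟩] at horth
  have hsumC : ∑ g : G, ρ.character g * ρ.character g⁻¹ = (Nat.card G : ℂ) := by
    have h1 := congrArg (fun z => (Nat.card G : ℂ) * z) horth
    simp only [← mul_assoc, mul_inv_cancel₀ hne, one_mul, mul_one] at h1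
    simpa using h1
  have h2 : ((∑ g : G, ‖ρ.character g‖ ^ 2 : ℝ) : ℂ) = (Nat.card G : ℂ) := by
    rw [← hsumC]
    push_cast
    apply Finset.sum_congr rfl
    intro g _
    rw [character_inv_eq_conj, Complex.mul_conj, Complex.normSq_eq_norm_sq]
    push_cast
    rfl
  exact_mod_cast h2

theorem upow_one_left {G : Type*} [Group G] (u : (ZMod (Nat.card G))ˣ) : upow (1 : G) u = 1 := by
  unfold upow; simp

theorem upow_mem {G : Type*} [Group G] (H : Subgroup G) {g : G} (hg : g ∈ H)
    (u : (ZMod (Nat.card G))ˣ) : upow g u ∈ H := by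
  unfold upow; exact pow_mem hg _

theorem upow_mem_iff {G : Type*} [Group G] [Finite G] (H : Subgroup G) (g : G)
    (u : (ZMod (Nat.card G))ˣ) : upow g u ∈ H ↔ g ∈ H := by
  refine ⟨fun h => ?_, fun h => upow_mem H h u⟩
  have := upow_mem H h u⁻¹
  rwa [← upow_mul, mul_inv_cancel, upow_one] at this

theorem upow_eq_one_iff {G : Type*} [Group G] [Finite G] (g : G)
    (u : (ZMod (Nat.card G))ˣ) : upow g u = 1 ↔ g = 1 := by
  have := upow_mem_iff (⊥ : Subgroup G) g u
  simpa using this

end Cfsg.Agent.Helper75
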