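import Mathlib
import Cfsg.Prelude.Def_Characters
import Cfsg.Agent.Helper75.Zeros2
import Cfsg.Agent.Helper15.Gallagher2
import Cfsg.Agent.Helper79.Basic
import Cfsg.Agent.Helper81.CharBasic

/-!
# Irreducible restriction from non-vanishing on cosets (helper75)

* `card_le_sum_re_of_pos`: AM–GM over Galois conjugates for a character taking positive real
  values on a Galois-stable set `S`: `|S| ≤ ∑ g ∈ S, χ g`.
* `isCharacter_avgN_mul_conj`: the `N`-average of `χ * conj χ` is a character.
* `restrict_irr_of_coset_ne_zero`: if `χ ∈ Irr(G)` does not vanish identically on any coset of the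
  normal subgroup `N`, then `χ|_N` is irreducible.
-/

set_option autoImplicit false

namespace Cfsg.Agent.Helper75

open scoped ComplexConjugate

/-- AM–GM over Galois conjugates for a character with positive real values on `S`. -/
theorem card_le_sum_re_of_pos {G : Type*} [Group G] [Finite G] {V : Type*} [AddCommGroup V]
    [Module ℂ V] [FiniteDimensional ℂ V] (ρ : Representation ℂ G V) [DecidableEq G]
    (S : Finset G) (hS : ∀ g ∈ S, ∀ u : (ZMod (Nat.card G))ˣ, upow g u ∈ S)
    (hpos : ∀ g ∈ S, (ρ.character g).im = 0 ∧ 0 < (ρ.character g).re) :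
    (S.card : ℝ) ≤ ∑ g ∈ S, (ρ.character g).re := by
  classical
  have hm : Nat.card G ≠ 0 := Nat.card_pos.ne'
  have : NeZero (Nat.card G) := ⟨hm⟩
  have hperm : ∀ u : (ZMod (Nat.card G))ˣ,
      ∑ g ∈ S, (ρ.character (upow g u)).re = ∑ g ∈ S, (ρ.character g).re := by
    intro u
    apply Finset.sum_nbij' (fun g => upow g u) (fun g => upow g u⁻¹)
    · intro g hg; exact hS g hg u
    · intro g hg; exact hS g hg u⁻¹
    · intro g _; rw [← upow_mul, mul_inv_cancel, upow_one]
    · intro g _; rw [← upow_mul, inv_mul_cancel, upow_one]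
    · intro g _; rfl
  have hφ : (0 : ℝ) < Fintype.card (ZMod (Nat.card G))ˣ := by
    exact_mod_cast Fintype.card_pos
  have h1 : (Fintype.card (ZMod (Nat.card G))ˣ : ℝ) * ∑ g ∈ S, (ρ.character g).re =
      ∑ g ∈ S, ∑ u : (ZMod (Nat.card G))ˣ, (ρ.character (upow g u)).re := by
    rw [Finset.sum_comm]
    simp only [hperm]
    rw [Finset.sum_const, Finset.card_univ, nsmul_eq_mul]
  have hnorm : ∀ z : ℂ, z.im = 0 → 0 < z.re → ‖z‖ = z.re := by
    intro z hz1 hz2
    have : z = (z.re : ℂ) := Complex.ext rfl (by simp [hz1])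
    rw [this, Complex.norm_real, Real.norm_of_nonneg hz2.le]
    simp
  have h2 : ∀ g ∈ S, (Fintype.card (ZMod (Nat.card G))ˣ : ℝ) ≤
      ∑ u : (ZMod (Nat.card G))ˣ, (ρ.character (upow g u)).re := by
    intro g hg
    have hg0 : ρ.character g ≠ 0 := by
      intro h0
      have := (hpos g hg).2
      rw [h0] at this
      simp at this
    have := card_le_sum_of_one_le_prod (Finset.univ : Finset (ZMod (Nat.card G))ˣ)
      (fun u => (ρ.character (upow g u)).re) (fun u _ => (hpos _ (hS g hg u)).2.le) (by
        have h3 := one_le_norm_prod_upow ρ g hg0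
        rw [norm_prod] at h3
        rw [Finset.prod_congr rfl (fun u _ =>
          hnorm _ (hpos _ (hS g hg u)).1 (hpos _ (hS g hg u)).2)] at h3
        exact h3)
    simpa using this
  have h3 : (S.card : ℝ) * (Fintype.card (ZMod (Nat.card G))ˣ : ℝ) ≤
      (Fintype.card (ZMod (Nat.card G))ˣ : ℝ) * ∑ g ∈ S, (ρ.character g).re := by
    rw [h1]
    calc (S.card : ℝ) * (Fintype.card (ZMod (Nat.card G))ˣ : ℝ)
        = ∑ g ∈ S, (Fintype.card (ZMod (Nat.card G))ˣ : ℝ) := by
          rw [Finset.sum_const, nsmul_eq_mul]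
      _ ≤ _ := Finset.sum_le_sum h2
  rw [mul_comm] at h3
  exact le_of_mul_le_mul_left h3 hφ

section avg

variable {G : Type*} [Group G] [Fintype G]

/-- The `N`-average of `χ * conj χ` is a character of `G`. -/
theorem isCharacter_avgN_mul_conj (N : Subgroup G) [hN : N.Normal] [Fintype N] {χ : G → ℂ}
    (hχ : Cfsg.IsCharacter G χ) :
    Cfsg.IsCharacter G (Helper15.avgN N (fun g => χ g * conj (χ g))) := by
  classical
  have : Fintype (Cfsg.IrrCharacter G) := Fintype.ofFinite _
  have hFc : Cfsg.IsCharacter G (fun g => χ g * conj (χ g)) :=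
    Helper79.isCharacter_mul hχ (Helper79.isCharacter_conj hχ)
  have hF := Helper15.isClassFunction_of_isChar hFc
  have hcl := Helper15.avgN_isClassFunction N hF
  rw [Helper15.classFun_eq_sum hcl]
  apply Helper79.isCharacter_sum
  intro γ _
  rw [Helper15.classInner_avgN N _ γ.2]
  split_ifs with hk
  · obtain ⟨m, hm⟩ := Helper15.inner_nat hFc (Helper15.isChar_of_irr γ.2)
    rw [hm]
    have : ((m : ℂ) • (γ : G → ℂ)) = m • (γ : G → ℂ) := by
      funext g
      simp
    rw [this]
    exact Helper79.isCharacter_nsmul (Helper15.isChar_of_irr γ.2) m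
  · rw [zero_smul]
    exact Helper79.isCharacter_zero

/-- If the irreducible character `χ` of `G` vanishes identically on no coset of the normal
subgroup `N`, then the restriction of `χ` to `N` is irreducible. -/
theorem restrict_irr_of_coset_ne_zero (N : Subgroup G) [hN : N.Normal] [Fintype N]
    (χ : Cfsg.IrrCharacter G) (h : ∀ g : G, ∃ n : N, (χ : G → ℂ) ((n : G) * g) ≠ 0) :
    Cfsg.IsIrrCharacter N (fun n : N => (χ : G → ℂ) n) := by
  classical
  have hχc := Helper15.isChar_of_irr χ.2
  have hN0 : (Nat.card N : ℝ) ≠ 0 := by exact_mod_cast Nat.card_pos.ne'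
  have hN0' : (0 : ℝ) < (Nat.card N : ℝ) := by exact_mod_cast Nat.card_pos
  have hG0 : (Nat.card G : ℂ) ≠ 0 := by exact_mod_cast Nat.card_pos.ne'
  obtain ⟨n, ρ, hρ⟩ := isCharacter_avgN_mul_conj N hχc
  -- values of the average
  have hval : ∀ g : G, ρ.character g =
      (((Nat.card N : ℝ)⁻¹ * ∑ m : N, Complex.normSq ((χ : G → ℂ) ((m : G) * g)) : ℝ) : ℂ) := by
    intro g
    rw [hρ]
    unfold Helper15.avgN
    push_cast
    congr 1
    apply Finset.sum_congr rfl
    intro m _
    rw [Complex.mul_conj]
  have hpos : ∀ g : G, (ρ.character g).im = 0 ∧ 0 < (ρ.character g).re := by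
    intro g
    rw [hval g]
    refine ⟨Complex.ofReal_im _, ?_⟩
    rw [Complex.ofReal_re]
    apply mul_pos (inv_pos.mpr hN0')
    obtain ⟨m, hm⟩ := h g
    apply Finset.sum_pos'
    · intro i _; exact Complex.normSq_nonneg _
    · exact ⟨m, Finset.mem_univ _, Complex.normSq_pos.mpr hm⟩
  -- the sum of the average over the group
  have hsum : ∑ g : G, ρ.character g = (Nat.card G : ℂ) := by
    rw [hρ]
    unfold Helper15.avgN
    rw [← Finset.mul_sum, Finset.sum_comm]
    have h1 : ∀ m : N, ∑ g : G, (χ : G → ℂ) ((m : G) * g) * conj ((χ : G → ℂ) ((m : G) * g))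
        = (Nat.card G : ℂ) := by
      intro m
      have h0 := Equiv.sum_comp (Equiv.mulLeft (m : G))
        (fun g => (χ : G → ℂ) g * conj ((χ : G → ℂ) g))
      simp only [Equiv.coe_mulLeft] at h0
      rw [h0]
      have h2 := Helper15.irr_inner_self χ.2
      unfold Cfsg.classInner at h2
      have h3 := congrArg (fun z => (Nat.card G : ℂ) * z) h2
      simp only [← mul_assoc, mul_inv_cancel₀ hG0, one_mul, mul_one] at h3
      exact h3
    rw [Finset.sum_congr rfl (fun m _ => h1 m), Finset.sum_const, Finset.card_univ,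
      nsmul_eq_mul, ← Nat.card_eq_fintype_card, ← mul_assoc, inv_mul_cancel₀
      (by exact_mod_cast Nat.card_pos.ne'), one_mul]
  have hsumre : ∑ g : G, (ρ.character g).re = (Nat.card G : ℝ) := by
    have := congrArg Complex.re hsum
    rw [Complex.re_sum] at this
    simpa using this
  -- AM-GM away from the identity
  have hS : ∀ g ∈ (Finset.univ.erase (1 : G)), ∀ u : (ZMod (Nat.card G))ˣ,
      upow g u ∈ (Finset.univ.erase (1 : G)) := by
    intro g hg u
    rw [Finset.mem_erase] at hg ⊢
    refine ⟨?_, Finset.mem_univ _⟩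
    intro h1
    exact hg.1 ((upow_eq_one_iff g u).mp h1)
  have hamgm := card_le_sum_re_of_pos ρ (Finset.univ.erase (1 : G)) hS (fun g _ => hpos g)
  rw [Finset.card_erase_of_mem (Finset.mem_univ _), Finset.card_univ,
    ← Nat.card_eq_fintype_card] at hamgm
  have hsplit : ∑ g ∈ Finset.univ.erase (1 : G), (ρ.character g).re
      = (Nat.card G : ℝ) - (ρ.character 1).re := by
    rw [← hsumre, ← Finset.add_sum_erase Finset.univ _ (Finset.mem_univ (1 : G))]
    ring
  rw [hsplit] at hamgm
  have hcard1 : ((Nat.card G - 1 : ℕ) : ℝ) = (Nat.card G : ℝ) - 1 := by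
    rw [Nat.cast_sub Nat.card_pos]
    simp
  rw [hcard1] at hamgm
  have hle : (ρ.character 1).re ≤ 1 := by linarith
  -- the norm of the restriction
  have hresc : Cfsg.IsCharacter N (fun m : N => (χ : G → ℂ) m) :=
    Helper79.isCharacter_restrict hχc N
  obtain ⟨k, hk⟩ := Helper15.inner_nat hresc hresc
  have hinner : Cfsg.classInner (fun m : N => (χ : G → ℂ) m) (fun m : N => (χ : G → ℂ) m)
      = ρ.character 1 := by
    rw [hρ]
    unfold Cfsg.classInner Helper15.avgN
    congr 1
    apply Finset.sum_congr rfl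
    intro m _
    rw [mul_one]
  have hk0 : k ≠ 0 := by
    rintro rfl
    rw [Nat.cast_zero] at hk
    have h0 := Helper15.classInner_self_eq_zero hk
    have h1 := congrFun h0 1
    exact Helper81.irr_one_ne_zero χ (by simpa using h1)
  have hk1 : k = 1 := by
    have h1 : (k : ℝ) ≤ 1 := by
      have h2 : (ρ.character 1).re = (k : ℝ) := by
        rw [← hinner, hk]
        simp
      rw [← h2]
      exact hle
    have h2 : k ≤ 1 := by exact_mod_cast h1
    omega
  apply Helper15.isIrr_of_inner_one hresc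
  rw [hk, hk1, Nat.cast_one]

end avg

end Cfsg.Agent.Helper75
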