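import Mathlib
import Cfsg.Prelude.Def_Characters
import Cfsg.Prelude.Def_Blocks
import Cfsg.Agent.Helper75.AvgIrr
import Cfsg.Agent.Helper16.PPart
import Cfsg.Agent.Helper16.BlockCore
import Cfsg.Agent.Helper16.BlockInd
import Cfsg.Agent.Helper72.KazarinChar
import Cfsg.Agent.Helper76.Cover2
import Cfsg.Agent.Helper77.LocalRing
import Cfsg.Agent.Helper77.BlockIdem
import Cfsg.Agent.Helper81.Blocks
import Cfsg.Agent.Helper81.LocalRing
import Cfsg.Agent.Helper81.BlockNormal

/-!
# Isomorphic blocks (Alperin–Dade), character form (helper75)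

`N ⊴ G` of index prime to `p`, `P` a Sylow `p`-subgroup with `G = N C_G(P)`.

* `exists_pRegular_centralizer_rep`: every coset of `N` contains a `p`-regular element of
  `C_G(P)`.
* `irr_div_sub_one_memLocalIdeal`: `χ(k)/χ(1) ≡ 1` for `χ` in the principal block, `k ∈ C_G(P)`.
* `restrict_irr_of_mem_principalBlock`: members of the principal block restrict irreducibly.
* `mem_principalBlock_of_constituent`: constituents of restrictions of principal block characters
  to a normal subgroup lie in the principal block.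
* `eq_of_restrict_eq`: principal block characters with the same restriction are equal.
* `exists_principal_over`: every member of the principal block of `N` lies under a member of the
  principal block of `G`.
* `alperin_dade`: restriction is a bijection between the principal blocks.
-/

set_option autoImplicit false

namespace Cfsg.Agent.Helper75

open scoped ComplexConjugate

universe u

section AD

variable {G : Type u} [Group G] [Fintype G] {p : ℕ} [Fact p.Prime] {M : Ideal Cfsg.AlgInt}

omit [Fintype G] in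
/-- Every coset of `N` contains a `p`-regular element of `C_G(P)`. -/
theorem exists_pRegular_centralizer_rep [Finite G] (N : Subgroup G) [hN : N.Normal]
    (hidx : ¬ p ∣ N.index) (P : Sylow p G)
    (hsup : N ⊔ Subgroup.centralizer ((P : Subgroup G) : Set G) = ⊤) (g : G) :
    ∃ n ∈ N, ∃ k ∈ Subgroup.centralizer ((P : Subgroup G) : Set G),
      ¬ p ∣ orderOf k ∧ g = n * k := by
  have hp : p.Prime := Fact.out
  have hpN : ∀ x : G, (∃ j : ℕ, orderOf x = p ^ j) → x ∈ N := by
    rintro x ⟨j, hj⟩
    have h1 : orderOf (x : G ⧸ N) ∣ p ^ j := by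
      rw [← hj]
      exact orderOf_map_dvd (QuotientGroup.mk' N) x
    have h2 : orderOf (x : G ⧸ N) ∣ N.index := by
      rw [Subgroup.index_eq_card]
      exact orderOf_dvd_natCard _
    have hcop : Nat.Coprime (p ^ j) N.index :=
      Nat.Coprime.pow_left j ((Nat.Prime.coprime_iff_not_dvd hp).mpr hidx)
    have h4 : orderOf (x : G ⧸ N) = 1 := Nat.eq_one_of_dvd_coprimes hcop h1 h2
    exact (QuotientGroup.eq_one_iff x).mp (orderOf_eq_one_iff.mp h4)
  have hg : g ∈ ((N ⊔ Subgroup.centralizer ((P : Subgroup G) : Set G) : Subgroup G) : Set G) := by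
    rw [hsup]
    exact Set.mem_univ g
  rw [Subgroup.normal_mul, Set.mem_mul] at hg
  obtain ⟨n, hn, c, hc, rfl⟩ := hg
  obtain ⟨x, hx⟩ := Helper16.exists_isPPart p c (orderOf_pos c)
  obtain ⟨i, hi⟩ := Helper16.isPPart_eq_pow hx
  obtain ⟨y, hxy, -, hxp, hyp⟩ := hx
  have hxC : x ∈ Subgroup.centralizer ((P : Subgroup G) : Set G) := by
    rw [← hi]
    exact pow_mem hc i
  have hyC : y ∈ Subgroup.centralizer ((P : Subgroup G) : Set G) := by
    have : y = x⁻¹ * c := by rw [← hxy]; group
    rw [this]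
    exact mul_mem (inv_mem hxC) hc
  refine ⟨n * x, mul_mem hn (hpN x hxp), y, hyC, hyp, ?_⟩
  rw [mul_assoc, hxy]

/-- For `χ` in the principal block and `k ∈ C_G(P)`: `χ(k)/χ(1) ≡ 1`. -/
theorem irr_div_sub_one_memLocalIdeal (hM : Cfsg.IsPModular p M) (P : Sylow p G)
    (χ : Cfsg.IrrCharacter G) (hχ : χ ∈ Cfsg.principalBlock M G) {k : G}
    (hk : k ∈ Subgroup.centralizer ((P : Subgroup G) : Set G)) :
    Cfsg.MemLocalIdeal M ((χ : G → ℂ) k / (χ : G → ℂ) 1 - 1) := by
  have hMm := hM.2.1
  have h1 : Cfsg.MemLocalIdeal M (Cfsg.centralChar (fun _ : G => (1 : ℂ)) k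
      - Cfsg.centralChar (χ : G → ℂ) k) := hχ k
  have hle : (P : Subgroup G) ≤ Subgroup.centralizer ({k} : Set G) := by
    intro x hx
    rw [Subgroup.mem_centralizer_iff]
    intro y hy
    rw [Set.mem_singleton_iff] at hy
    subst hy
    exact (Subgroup.mem_centralizer_iff.mp hk x hx).symm
  have hidx : ¬ p ∣ (Subgroup.centralizer ({k} : Set G)).index := by
    intro h
    exact P.not_dvd_index (dvd_trans h (Subgroup.index_dvd_of_le hle))
  have h2 := Helper77.memLocalIdeal_mul hMm (Helper77.memLocalRing_natCast_inv hM hidx) h1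
  have hi0 : ((Subgroup.centralizer ({k} : Set G)).index : ℂ) ≠ 0 := by
    intro h0
    apply hidx
    have : (Subgroup.centralizer ({k} : Set G)).index = 0 := by exact_mod_cast h0
    rw [this]
    exact dvd_zero p
  have h3 : ((Subgroup.centralizer ({k} : Set G)).index : ℂ)⁻¹ *
      (Cfsg.centralChar (fun _ : G => (1 : ℂ)) k - Cfsg.centralChar (χ : G → ℂ) k)
      = -((χ : G → ℂ) k / (χ : G → ℂ) 1 - 1) := by
    unfold Cfsg.centralChar
    field_simp
    ring
  rw [h3] at h2
  have := Helper77.memLocalIdeal_neg h2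
  rwa [neg_neg] at this

/-- Members of the principal block restrict irreducibly to `N`. -/
theorem restrict_irr_of_mem_principalBlock (hM : Cfsg.IsPModular p M) (N : Subgroup G)
    [hN : N.Normal] [Fintype N] (hidx : ¬ p ∣ N.index) (P : Sylow p G)
    (hsup : N ⊔ Subgroup.centralizer ((P : Subgroup G) : Set G) = ⊤)
    (χ : Cfsg.IrrCharacter G) (hχ : χ ∈ Cfsg.principalBlock M G) :
    Cfsg.IsIrrCharacter N (fun n : N => (χ : G → ℂ) n) := by
  have hMm := hM.2.1
  apply restrict_irr_of_coset_ne_zero N χ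
  intro g
  obtain ⟨n, hn, k, hk, -, hg⟩ := exists_pRegular_centralizer_rep N hidx P hsup g
  refine ⟨⟨n⁻¹, inv_mem hn⟩, ?_⟩
  have hk' : (n⁻¹ : G) * g = k := by rw [hg]; group
  show (χ : G → ℂ) (n⁻¹ * g) ≠ 0
  rw [hk']
  intro h0
  have h1 := irr_div_sub_one_memLocalIdeal hM P χ hχ hk
  rw [h0, zero_div, zero_sub] at h1
  have h2 := Helper77.memLocalIdeal_neg h1
  rw [neg_neg] at h2
  exact Helper77.not_memLocalIdeal_one hMm h2

omit [Fact p.Prime] in
/-- Constituents of the restriction of a principal block character to a normal subgroup lie in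
the principal block. -/
theorem mem_principalBlock_of_constituent (hMm : M.IsMaximal) (N : Subgroup G)
    [hN : N.Normal] [Fintype N] (χ : Cfsg.IrrCharacter G) (hχ : χ ∈ Cfsg.principalBlock M G)
    (ψ : Cfsg.IrrCharacter N)
    (hψ : Cfsg.classInner (fun n : N => (χ : G → ℂ) n) (ψ : N → ℂ) ≠ 0) :
    ψ ∈ Cfsg.principalBlock M N := by
  have hb : Cfsg.IsPBlock M (Cfsg.principalBlock M N) :=
    ⟨Helper81.trivIrr N, Helper81.principalBlock_eq M⟩
  have hcon : Cfsg.classInner (fun n : N => (Helper81.trivIrr G : G → ℂ) n)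
      (Helper81.trivIrr N : N → ℂ) ≠ 0 := by
    have h1 : (fun n : N => (Helper81.trivIrr G : G → ℂ) n) = (Helper81.trivIrr N : N → ℂ) := rfl
    rw [h1, Helper15.irr_inner_self (Helper81.trivIrr N).2]
    exact one_ne_zero
  have hmem : Helper81.trivIrr N ∈ Cfsg.principalBlock M N := Helper16.sameBlock_refl hMm _
  obtain ⟨g, θ', hθ', rfl⟩ := Helper76.mem_blockOrbit_of_sameBlock hMm N hb (Helper81.trivIrr G) χ
    hχ (Helper81.trivIrr N) hmem hcon ψ hψ
  have h2 := Helper76.sameBlock_comp_mulEquiv (MulAut.conjNormal g : N ≃* N) hθ'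
  exact h2

/-- Principal block characters with the same (irreducible) restriction to `N` are equal. -/
theorem eq_of_restrict_eq (hM : Cfsg.IsPModular p M) (N : Subgroup G)
    [hN : N.Normal] [Fintype N] (hidx : ¬ p ∣ N.index) (P : Sylow p G)
    (hsup : N ⊔ Subgroup.centralizer ((P : Subgroup G) : Set G) = ⊤)
    (χ χ' : Cfsg.IrrCharacter G) (hχ : χ ∈ Cfsg.principalBlock M G)
    (hχ' : χ' ∈ Cfsg.principalBlock M G)
    (hirr : Cfsg.IsIrrCharacter N (fun n : N => (χ : G → ℂ) n))
    (hres : ∀ n : N, (χ' : G → ℂ) n = (χ : G → ℂ) n) : χ' = χ := by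
  have hMm := hM.2.1
  have hne : Cfsg.classInner (fun n : N => (χ' : G → ℂ) n) (fun n : N => (χ : G → ℂ) n) ≠ 0 := by
    rw [funext hres, Helper15.irr_inner_self hirr]
    exact one_ne_zero
  obtain ⟨hβ, hβker, hβmul⟩ := (Helper15.gallagher_average N (χ : G → ℂ) χ.2 hirr (χ' : G → ℂ)
    χ'.2).1 hne
  set β : G → ℂ := Helper15.avgN N (fun g => (χ' : G → ℂ) g * conj ((χ : G → ℂ) g)) with hβdef
  have hβc := Helper15.isChar_of_irr hβ
  have hχ1 : (χ : G → ℂ) 1 ≠ 0 := Helper81.irr_one_ne_zero χ
  have h11 : (χ' : G → ℂ) 1 = (χ : G → ℂ) 1 := hres 1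
  have hβ1 : β 1 = 1 := by
    have h1 := congrFun hβmul 1
    rw [Pi.mul_apply, h11] at h1
    have h2 : (β 1 - 1) * (χ : G → ℂ) 1 = 0 := by linear_combination -h1
    rcases mul_eq_zero.mp h2 with h3 | h3
    · exact sub_eq_zero.mp h3
    · exact absurd h3 hχ1
  obtain ⟨f, hf⟩ := Helper79.isCharacter_linear hβc hβ1
  have hβall : ∀ g : G, β g = 1 := by
    intro g
    obtain ⟨n, hn, k, hk, hkp, rfl⟩ := exists_pRegular_centralizer_rep N hidx P hsup g
    rw [Helper79.isCharacter_ker_mul hβc (hβker n hn)]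
    have ha := irr_div_sub_one_memLocalIdeal hM P χ hχ hk
    have ha' := irr_div_sub_one_memLocalIdeal hM P χ' hχ' hk
    have hpow : β k ^ orderOf k = 1 := by
      rw [hf k, ← Units.val_pow_eq_pow_val, ← map_pow, pow_orderOf_eq_one, map_one, Units.val_one]
    have hint : IsIntegral ℤ (β k) := by
      apply IsIntegral.of_pow (orderOf_pos k)
      rw [hpow]
      exact isIntegral_one
    have hloc : Cfsg.MemLocalRing M (β k - 1) :=
      Helper77.memLocalRing_of_isIntegral hMm (hint.sub isIntegral_one)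
    have h1 := congrFun hβmul k
    rw [Pi.mul_apply] at h1
    have h2 : β k - 1 = ((χ' : G → ℂ) k / (χ' : G → ℂ) 1 - 1)
        - ((χ : G → ℂ) k / (χ : G → ℂ) 1 - 1)
        - (β k - 1) * ((χ : G → ℂ) k / (χ : G → ℂ) 1 - 1) := by
      rw [h11, h1]
      field_simp
      ring
    have h3 : Cfsg.MemLocalIdeal M (β k - 1) := by
      rw [h2]
      exact Helper77.memLocalIdeal_sub hMm (Helper77.memLocalIdeal_sub hMm ha' ha)
        (Helper77.memLocalIdeal_mul hMm hloc ha)
    exact Helper72.eq_one_of_memLocalIdeal_sub_one hM hkp hpow h3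
  apply Subtype.ext
  rw [hβmul]
  funext g
  rw [Pi.mul_apply, hβall g, one_mul]

/-- Every member of the principal block of `N` lies under a member of the principal block of
`G`. -/
theorem exists_principal_over (hM : Cfsg.IsPModular p M) (N : Subgroup G)
    [hN : N.Normal] [Fintype N] (hidx : ¬ p ∣ N.index) (P : Sylow p G)
    (hsup : N ⊔ Subgroup.centralizer ((P : Subgroup G) : Set G) = ⊤)
    (θ : Cfsg.IrrCharacter N) (hθ : θ ∈ Cfsg.principalBlock M N) :
    ∃ χ ∈ Cfsg.principalBlock M G,
      Cfsg.classInner (fun n : N => (χ : G → ℂ) n) (θ : N → ℂ) ≠ 0 := by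
  classical
  have hMm := hM.2.1
  have : M.IsPrime := hMm.isPrime
  have : Fintype (Cfsg.IrrCharacter G) := Fintype.ofFinite _
  by_contra hcon
  push Not at hcon
  have hB : Cfsg.IsPBlock M (Cfsg.principalBlock M G) :=
    ⟨Helper81.trivIrr G, Helper81.principalBlock_eq M⟩
  have hcl := Helper77.blockCoeff_isClassFunction (Cfsg.principalBlock M G)
  have hclN := Helper16.isClassFunction_res hcl N
  have hloc : ∀ n : N, Cfsg.MemLocalRing M (Cfsg.blockCoeff (Cfsg.principalBlock M G) (n : G)) :=
    fun n => Helper77.blockCoeff_memLocalRing hMm hB (n : G)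
  have h1 := Helper16.omega_sub_memLocalIdeal hMm θ (Helper81.trivIrr N)
    (Helper16.sameBlock_symm hθ) hclN hloc
  have hN0 : (Nat.card N : ℂ) ≠ 0 := by exact_mod_cast Nat.card_pos.ne'
  have hG0 : (Nat.card G : ℂ) ≠ 0 := by exact_mod_cast Nat.card_pos.ne'
  -- the general formula
  have hform : ∀ ψ : Cfsg.IrrCharacter N,
      Helper81.omega (ψ : N → ℂ)
        (fun n : N => Cfsg.blockCoeff (Cfsg.principalBlock M G) (n : G))
      = (Nat.card G : ℂ)⁻¹ * (Nat.card N : ℂ) * (∑ χ : Cfsg.IrrCharacter G,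
          if χ ∈ Cfsg.principalBlock M G then (χ : G → ℂ) 1 *
            Cfsg.classInner (ψ : N → ℂ) (fun n : N => (χ : G → ℂ) n) else 0) / (ψ : N → ℂ) 1 := by
    intro ψ
    unfold Helper81.omega
    congr 1
    simp only [Helper77.blockCoeff_eq_sum, Finset.mul_sum, Finset.sum_mul]
    rw [Finset.sum_comm]
    apply Finset.sum_congr rfl
    intro χ _
    split_ifs with hχ
    · unfold Cfsg.classInner
      rw [Finset.mul_sum, Finset.mul_sum, Finset.mul_sum]
      apply Finset.sum_congr rfl
      intro n _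
      rw [← Helper77.irr_inv χ (n : G)]
      field_simp
    · simp
  rw [hform θ, hform (Helper81.trivIrr N)] at h1
  -- the sum for `θ` vanishes
  have hsumθ : (∑ χ : Cfsg.IrrCharacter G,
      if χ ∈ Cfsg.principalBlock M G then (χ : G → ℂ) 1 *
        Cfsg.classInner (θ : N → ℂ) (fun n : N => (χ : G → ℂ) n) else 0) = 0 := by
    apply Finset.sum_eq_zero
    intro χ _
    split_ifs with hχ
    · have h2 := hcon χ hχ
      rw [Helper15.classInner_conj_symm, h2, map_zero, mul_zero]
    · rfl
  -- the sum for the trivial character is `1`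
  have hsum1 : (∑ χ : Cfsg.IrrCharacter G,
      if χ ∈ Cfsg.principalBlock M G then (χ : G → ℂ) 1 *
        Cfsg.classInner (Helper81.trivIrr N : N → ℂ) (fun n : N => (χ : G → ℂ) n) else 0) = 1 := by
    rw [Finset.sum_eq_single (Helper81.trivIrr G)]
    · rw [if_pos Helper81.trivIrr_mem_principalBlock]
      have h2 : (fun n : N => (Helper81.trivIrr G : G → ℂ) n) = (Helper81.trivIrr N : N → ℂ) :=
        rfl
      rw [h2, Helper15.irr_inner_self (Helper81.trivIrr N).2, Helper81.trivIrr_apply, mul_one]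
    · intro χ _ hne
      split_ifs with hχ
      · have hirr := restrict_irr_of_mem_principalBlock hM N hidx P hsup χ hχ
        by_cases heq : (Helper81.trivIrr N : N → ℂ) = (fun n : N => (χ : G → ℂ) n)
        · exfalso
          apply hne
          apply eq_of_restrict_eq hM N hidx P hsup (Helper81.trivIrr G) χ
            Helper81.trivIrr_mem_principalBlock hχ (Helper81.trivIrr N).2
          intro n
          exact (congrFun heq n).symm
        · rw [Helper15.irr_inner_ne (Helper81.trivIrr N).2 hirr heq, mul_zero]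
      · rfl
    · intro h
      exact absurd (Finset.mem_univ _) h
  rw [hsumθ, hsum1, mul_zero, zero_div, zero_sub, mul_one, Helper81.trivIrr_apply, div_one] at h1
  have hidx0 : (N.index : ℂ) ≠ 0 := by
    intro h0
    apply hidx
    have : N.index = 0 := by exact_mod_cast h0
    rw [this]
    exact dvd_zero p
  have h2 : (Nat.card G : ℂ)⁻¹ * (Nat.card N : ℂ) = (N.index : ℂ)⁻¹ := by
    have h3 : (Nat.card G : ℂ) = (Nat.card N : ℂ) * (N.index : ℂ) := by
      rw [← Subgroup.card_mul_index N]
      push_cast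
      rfl
    rw [h3]
    field_simp
  rw [h2] at h1
  have h3 := Helper77.memLocalIdeal_mul hMm
    (Helper81.memLocalRing_natCast hMm.ne_top N.index) (Helper77.memLocalIdeal_neg h1)
  rw [neg_neg, mul_inv_cancel₀ hidx0] at h3
  exact Helper77.not_memLocalIdeal_one hMm h3

/-- **Alperin–Dade, character form.** If `N ⊴ G` has index prime to `p` and `G = N C_G(P)` for a
Sylow `p`-subgroup `P`, restriction to `N` is a bijection from the principal block of `G` onto
the principal block of `N`. -/
theorem alperin_dade (hM : Cfsg.IsPModular p M) (N : Subgroup G)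
    [hN : N.Normal] [Fintype N] (hidx : ¬ p ∣ N.index) (P : Sylow p G)
    (hsup : N ⊔ Subgroup.centralizer ((P : Subgroup G) : Set G) = ⊤) :
    (∀ χ ∈ Cfsg.principalBlock M G, ∃ θ ∈ Cfsg.principalBlock M ↥N,
      ∀ n : N, (χ : G → ℂ) n = (θ : N → ℂ) n) ∧
    ∀ θ ∈ Cfsg.principalBlock M ↥N, ∃! χ : Cfsg.IrrCharacter G,
      χ ∈ Cfsg.principalBlock M G ∧ ∀ n : N, (χ : G → ℂ) n = (θ : N → ℂ) n := by
  have hMm := hM.2.1
  constructor
  · intro χ hχ
    have hirr := restrict_irr_of_mem_principalBlock hM N hidx P hsup χ hχ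
    refine ⟨⟨_, hirr⟩, ?_, fun n => rfl⟩
    apply mem_principalBlock_of_constituent hMm N χ hχ
    rw [Helper15.irr_inner_self hirr]
    exact one_ne_zero
  · intro θ hθ
    obtain ⟨χ, hχ, hne⟩ := exists_principal_over hM N hidx P hsup θ hθ
    have hirr := restrict_irr_of_mem_principalBlock hM N hidx P hsup χ hχ
    have heq : (fun n : N => (χ : G → ℂ) n) = (θ : N → ℂ) := by
      by_contra hcon
      exact hne (Helper15.irr_inner_ne hirr θ.2 hcon)
    refine ⟨χ, ⟨hχ, fun n => congrFun heq n⟩, ?_⟩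
    rintro χ' ⟨hχ', hres'⟩
    apply eq_of_restrict_eq hM N hidx P hsup χ χ' hχ hχ' hirr
    intro n
    rw [hres' n]
    exact (congrFun heq n).symm

end AD

end Cfsg.Agent.Helper75
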