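import Cfsg.Agent.Helper9.BRDefs
import Cfsg.Agent.Helper61.BRXGT1

/-!
# CALL S0996 (helper79), piece REL: the block relation summed over the `p`-regular part of `N(P)`
(helper75)
-/

set_option autoImplicit false
open Cfsg
open scoped ComplexConjugate

universe u

namespace Cfsg.Agent.Helper75

theorem brn_sum_rel {G : Type u} [Group G] [Fintype G] {p : ℕ} [Fact p.Prime]
    {M : Ideal Cfsg.AlgInt} (P : Sylow p G) (hP : Nat.card (P : Subgroup G) = p)
    (hC : Nat.card (Subgroup.centralizer ((P : Subgroup G) : Set G)) = p) (q : ℕ)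
    (T : Cfsg.Agent.Helper9.BRTab p M P q) (θ : Cfsg.IrrCharacter G) (hθ : θ ∈ T.Y) :
    (T.ε : ℂ) * (∑ᶠ x : ↥(Subgroup.normalizer ((P : Subgroup G) : Set G)), (θ : G → ℂ) (x : G)
        - ∑ᶠ x : (P : Subgroup G), (θ : G → ℂ) (x : G) + (θ : G → ℂ) 1)
      = ((Nat.card ↥(Subgroup.normalizer ((P : Subgroup G) : Set G)) : ℂ) - (p : ℂ) + 1)
        + ∑ χ ∈ T.X1,
          (∑ᶠ x : ↥(Subgroup.normalizer ((P : Subgroup G) : Set G)), (χ : G → ℂ) (x : G)
            - ∑ᶠ x : (P : Subgroup G), (χ : G → ℂ) (x : G) + (χ : G → ℂ) 1)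
        - ∑ χ ∈ T.X2,
          (∑ᶠ x : ↥(Subgroup.normalizer ((P : Subgroup G) : Set G)), (χ : G → ℂ) (x : G)
            - ∑ᶠ x : (P : Subgroup G), (χ : G → ℂ) (x : G) + (χ : G → ℂ) 1) := by
  classical
  have hpp : p.Prime := Fact.out
  obtain ⟨SN, hSN⟩ : ∃ S : Finset G, S = Finset.univ.filter
      (fun x => x ∈ Subgroup.normalizer ((P : Subgroup G) : Set G)) := ⟨_, rfl⟩
  obtain ⟨SP, hSP⟩ : ∃ S : Finset G, S = Finset.univ.filter (fun x => x ∈ (P : Subgroup G)) :=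
    ⟨_, rfl⟩
  have hmemN : ∀ x, x ∈ SN ↔ x ∈ Subgroup.normalizer ((P : Subgroup G) : Set G) := by
    intro x
    simp [hSN]
  have hmemP : ∀ x, x ∈ SP ↔ x ∈ (P : Subgroup G) := by
    intro x
    simp [hSP]
  have hsub : SP ⊆ SN := by
    intro x hx
    exact (hmemN x).mpr (Subgroup.le_normalizer ((hmemP x).mp hx))
  have hfinN : ∀ F : G → ℂ,
      ∑ᶠ x : ↥(Subgroup.normalizer ((P : Subgroup G) : Set G)), F (x : G) = ∑ x ∈ SN, F x := by
    intro F
    rw [finsum_eq_sum_of_fintype, Finset.sum_subtype SN hmemN]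
  have hfinP : ∀ F : G → ℂ, ∑ᶠ x : (P : Subgroup G), F (x : G) = ∑ x ∈ SP, F x := by
    intro F
    rw [finsum_eq_sum_of_fintype, Finset.sum_subtype SP hmemP]
  have h1not : (1 : G) ∉ SN \ SP := by
    rw [Finset.mem_sdiff]
    exact fun h => h.2 ((hmemP 1).mpr (one_mem _))
  have key : ∀ F : G → ℂ, ∑ h ∈ insert 1 (SN \ SP), F h
      = ∑ x ∈ SN, F x - ∑ x ∈ SP, F x + F 1 := by
    intro F
    rw [Finset.sum_insert h1not, ← Finset.sum_sdiff hsub]
    ring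
  have hreg : ∀ h ∈ insert 1 (SN \ SP), ¬ p ∣ orderOf h := by
    intro h hh
    rw [Finset.mem_insert, Finset.mem_sdiff] at hh
    rcases hh with h1 | ⟨h2, h3⟩
    · rw [h1, orderOf_one]
      exact hpp.not_dvd_one
    · exact Cfsg.Agent.Helper61.brn_norm_preg P hP hC h ((hmemN h).mp h2) (fun h4 => h3 ((hmemP h).mpr h4))
  have hcardN : (SN.card : ℂ)
      = (Nat.card ↥(Subgroup.normalizer ((P : Subgroup G) : Set G)) : ℂ) := by
    rw [Nat.card_eq_fintype_card, Fintype.card_subtype, hSN]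
  have hcardP : (SP.card : ℂ) = (p : ℂ) := by
    rw [← hP, Nat.card_eq_fintype_card, Fintype.card_subtype, hSP]
  have hone : ∑ h ∈ insert 1 (SN \ SP), (1 : ℂ)
      = (Nat.card ↥(Subgroup.normalizer ((P : Subgroup G) : Set G)) : ℂ) - (p : ℂ) + 1 := by
    rw [key (fun _ => (1 : ℂ))]
    simp only [Finset.sum_const, nsmul_eq_mul, mul_one]
    rw [hcardN, hcardP]
  have hsum : (T.ε : ℂ) * ∑ h ∈ insert 1 (SN \ SP), (θ : G → ℂ) h
      = ∑ h ∈ insert 1 (SN \ SP), (1 : ℂ)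
        + ∑ χ ∈ T.X1, ∑ h ∈ insert 1 (SN \ SP), (χ : G → ℂ) h
        - ∑ χ ∈ T.X2, ∑ h ∈ insert 1 (SN \ SP), (χ : G → ℂ) h := by
    rw [Finset.mul_sum, Finset.sum_congr rfl (fun h hh => T.hrel θ hθ h (hreg h hh)),
      Finset.sum_sub_distrib, Finset.sum_add_distrib, Finset.sum_comm (s := T.X1),
      Finset.sum_comm (s := T.X2)]
  rw [hfinN, hfinP, ← key (fun h => (θ : G → ℂ) h), hsum, hone]
  congr 1
  · congr 1
    refine Finset.sum_congr rfl (fun χ _ => ?_)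
    rw [hfinN, hfinP, ← key (fun h => (χ : G → ℂ) h)]
  · refine Finset.sum_congr rfl (fun χ _ => ?_)
    rw [hfinN, hfinP, ← key (fun h => (χ : G → ℂ) h)]

end Cfsg.Agent.Helper75
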