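import Mathlib
import Cfsg.Prelude.Def_Blocks
import Cfsg.Agent.Helper75.RationalChar

/-!
# Galois-stable families of algebraic integers and maximal ideals over `p` (helper75)

* `prod_X_sub_C_coeff_int`: for a finite family `z i` of algebraic integers in a cyclotomic field
  that is permuted by every automorphism of `ℂ`, the polynomial `∏ (X - z i)` has integer
  coefficients.
* `mem_of_galois_orbit_mem`: if moreover all `z i` lie in a maximal ideal `M` of the algebraic
  integers containing `p`, then they lie in every prime ideal `M'` containing `p`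
  (a substitute for "Galois acts transitively on the primes over `p`").
-/

set_option autoImplicit false
open Polynomial

namespace Cfsg.Agent.Helper75

theorem prod_X_sub_C_coeff_int (n : ℕ) (hn : n ≠ 0) {ι : Type*} [Fintype ι] (z : ι → ℂ)
    (hK : ∀ i, z i ∈ cycField n) (hint : ∀ i, IsIntegral ℤ (z i))
    (hperm : ∀ σ : ℂ ≃+* ℂ, ∃ e : ι ≃ ι, ∀ i, σ (z i) = z (e i)) (j : ℕ) :
    ∃ m : ℤ, (∏ i, (X - C (z i))).coeff j = (m : ℂ) := by
  apply int_of_fixed n hn
  · have h1 : (∏ i, (X - C (z i))) =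
        (∏ i, (X - C (⟨z i, hK i⟩ : cycField n))).map (algebraMap (cycField n) ℂ) := by
      rw [Polynomial.map_prod]
      apply Finset.prod_congr rfl
      intro i _
      simp
    rw [h1, coeff_map]
    exact SetLike.coe_mem _
  · have h1 : (∏ i, (X - C (z i))) =
        (∏ i, (X - C (⟨z i, hint i⟩ : integralClosure ℤ ℂ))).map
          (algebraMap (integralClosure ℤ ℂ) ℂ) := by
      rw [Polynomial.map_prod]
      apply Finset.prod_congr rfl
      intro i _
      simp
    rw [h1, coeff_map]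
    exact SetLike.coe_mem (_ : integralClosure ℤ ℂ)
  · intro σ
    obtain ⟨e, he⟩ := hperm σ
    have h1 : (∏ i, (X - C (z i))).map (σ : ℂ →+* ℂ) = ∏ i, (X - C (z i)) := by
      rw [Polynomial.map_prod, ← Equiv.prod_comp e (fun i => (X - C (z i)))]
      apply Finset.prod_congr rfl
      intro i _
      simp [he i]
    have h2 := congrArg (fun P => P.coeff j) h1
    simp only [coeff_map] at h2
    exact h2

theorem mem_of_galois_orbit_mem {p : ℕ} (hp : p.Prime) (M M' : Ideal Cfsg.AlgInt)
    (hM : M ≠ ⊤) (hpM : (p : Cfsg.AlgInt) ∈ M) (hM' : M'.IsPrime) (hpM' : (p : Cfsg.AlgInt) ∈ M')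
    (n : ℕ) (hn : n ≠ 0) {ι : Type*} [Fintype ι] (z : ι → Cfsg.AlgInt)
    (hK : ∀ i, (z i : ℂ) ∈ cycField n)
    (hperm : ∀ σ : ℂ ≃+* ℂ, ∃ e : ι ≃ ι, ∀ i, σ (z i : ℂ) = (z (e i) : ℂ))
    (hz : ∀ i, z i ∈ M) (i₀ : ι) : z i₀ ∈ M' := by
  classical
  set F : Cfsg.AlgInt[X] := ∏ i, (X - C (z i)) with hF
  have hmonic : F.Monic := monic_prod_of_monic _ _ (fun i _ => monic_X_sub_C (z i))
  have hdeg : F.natDegree = Fintype.card ι := by
    rw [hF, natDegree_prod_of_monic _ _ (fun i _ => monic_X_sub_C (z i))]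
    simp
  -- Step 1: lower coefficients lie in M
  have h1 : ∀ j, j ≠ Fintype.card ι → F.coeff j ∈ M := by
    intro j hj
    have hmap : F.map (Ideal.Quotient.mk M) = X ^ Fintype.card ι := by
      rw [hF, Polynomial.map_prod]
      have : ∀ i ∈ (Finset.univ : Finset ι),
          (X - C (z i)).map (Ideal.Quotient.mk M) = (X : (Cfsg.AlgInt ⧸ M)[X]) := by
        intro i _
        rw [Polynomial.map_sub, map_X, map_C, Ideal.Quotient.eq_zero_iff_mem.mpr (hz i)]
        simp
      rw [Finset.prod_congr rfl this, Finset.prod_const, Finset.card_univ]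
    have h2 := congrArg (fun P => P.coeff j) hmap
    simp only [coeff_map, coeff_X_pow, if_neg hj] at h2
    exact Ideal.Quotient.eq_zero_iff_mem.mp h2
  -- Step 2: all coefficients are rational integers
  have h2 : ∀ j, ∃ m : ℤ, F.coeff j = (m : Cfsg.AlgInt) := by
    intro j
    obtain ⟨m, hm⟩ := prod_X_sub_C_coeff_int n hn (fun i => (z i : ℂ)) hK
      (fun i => (z i).2) hperm j
    refine ⟨m, Subtype.ext ?_⟩
    have h3 : (∏ i, (X - C ((z i : ℂ)))) = F.map (algebraMap Cfsg.AlgInt ℂ) := by
      rw [hF, Polynomial.map_prod]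
      apply Finset.prod_congr rfl
      intro i _
      simp
    rw [h3, coeff_map] at hm
    rw [show ((F.coeff j : Cfsg.AlgInt) : ℂ) = algebraMap Cfsg.AlgInt ℂ (F.coeff j) from rfl, hm]
    simp
  -- Step 3: lower coefficients lie in M'
  have h3 : ∀ j, j ≠ Fintype.card ι → F.coeff j ∈ M' := by
    intro j hj
    obtain ⟨m, hm⟩ := h2 j
    have hmM : (m : Cfsg.AlgInt) ∈ M := hm ▸ h1 j hj
    have hdvd : (p : ℤ) ∣ m := by
      by_contra hnd
      have hcop : IsCoprime (p : ℤ) m :=
        (Nat.prime_iff_prime_int.mp hp).coprime_iff_not_dvd.mpr hnd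
      obtain ⟨a, b, hab⟩ := hcop
      apply hM
      rw [Ideal.eq_top_iff_one]
      have h4 : ((a * p + b * m : ℤ) : Cfsg.AlgInt) = 1 := by rw [hab]; simp
      rw [← h4]
      push_cast
      exact M.add_mem (M.mul_mem_left _ hpM) (M.mul_mem_left _ hmM)
    obtain ⟨m', rfl⟩ := hdvd
    rw [hm]
    push_cast
    exact M'.mul_mem_right _ hpM'
  -- Step 4: evaluate at z i₀
  have heval : F.eval (z i₀) = 0 := by
    rw [hF, eval_prod]
    apply Finset.prod_eq_zero (Finset.mem_univ i₀)
    simp
  rw [eval_eq_sum_range, hdeg, Finset.sum_range_succ] at heval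
  have hlead : F.coeff (Fintype.card ι) = 1 := by
    rw [← hdeg]; exact hmonic.coeff_natDegree
  rw [hlead, one_mul] at heval
  have hpow : z i₀ ^ Fintype.card ι ∈ M' := by
    have h5 : z i₀ ^ Fintype.card ι =
        -∑ j ∈ Finset.range (Fintype.card ι), F.coeff j * z i₀ ^ j := by
      rw [eq_neg_iff_add_eq_zero, add_comm]; exact heval
    rw [h5]
    apply M'.neg_mem
    apply M'.sum_mem
    intro j hj
    exact M'.mul_mem_right _ (h3 j (Finset.mem_range.mp hj).ne)
  exact hM'.mem_of_pow_mem _ hpow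

end Cfsg.Agent.Helper75
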