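import Mathlib
import Cfsg.Prelude.Def_Blocks
import Cfsg.Agent.Helper75.GaloisOrbit
import Cfsg.Agent.Helper75.Zeros2
import Cfsg.Agent.Helper81.ClassAlgebra

/-!
# Galois action on central characters; blocks do not depend on the maximal ideal (helper75)

* `centralizer_upow`, `centralChar_galois`, `centralChar_mem_cycField`.
* `mem_of_memLocalIdeal`: an algebraic integer in the local ideal at a prime `M` lies in `M`.
* `sameBlock_diff_mem`: if `χ, ψ` are in the same block relative to `M` (over `p`), then the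
  differences of their central characters lie in every prime ideal `M'` containing `p`.
* `sameBlock_indep`: `SameBlock M χ ψ ↔ SameBlock M' χ ψ` for `M, M'` both `p`-modular.
-/

set_option autoImplicit false

namespace Cfsg.Agent.Helper75

theorem centralizer_upow {G : Type*} [Group G] [Finite G] (x : G) (u : (ZMod (Nat.card G))ˣ) :
    Subgroup.centralizer ({upow x u} : Set G) = Subgroup.centralizer ({x} : Set G) := by
  have key : ∀ (y : G) (v : (ZMod (Nat.card G))ˣ),
      Subgroup.centralizer ({y} : Set G) ≤ Subgroup.centralizer ({upow y v} : Set G) := by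
    intro y v c hc
    rw [Subgroup.mem_centralizer_iff] at hc ⊢
    intro w hw
    rw [Set.mem_singleton_iff] at hw
    subst hw
    have h1 : y * c = c * y := hc y rfl
    have h2 : Commute y c := h1
    exact (h2.pow_left _).eq
  apply le_antisymm
  · have := key (upow x u) u⁻¹
    rwa [← upow_mul, mul_inv_cancel, upow_one] at this
  · exact key x u

/-- Galois automorphisms act on central characters through the power maps. -/
theorem centralChar_galois {G : Type*} [Group G] [Finite G] (σ : ℂ ≃+* ℂ)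
    (v : (ZMod (Nat.card G))ˣ)
    (hv : ∀ {n : ℕ} (ρ : Representation ℂ G (Fin n → ℂ)) (g : G),
      σ (ρ.character g) = ρ.character (upow g v))
    (χ : Cfsg.IrrCharacter G) (x : G) :
    σ (Cfsg.centralChar (χ : G → ℂ) x) = Cfsg.centralChar (χ : G → ℂ) (upow x v) := by
  obtain ⟨χ, n, ρ, hρ, rfl⟩ := χ
  simp only [Cfsg.centralChar]
  rw [map_div₀, map_mul, map_natCast, hv ρ x, hv ρ 1, upow_one_left, centralizer_upow]

theorem centralChar_mem_cycField {G : Type*} [Group G] [Finite G] (χ : Cfsg.IrrCharacter G)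
    (x : G) : Cfsg.centralChar (χ : G → ℂ) x ∈ cycField (Nat.card G) := by
  obtain ⟨χ, n, ρ, hρ, rfl⟩ := χ
  simp only [Cfsg.centralChar]
  exact div_mem (mul_mem (natCast_mem _ _) (character_mem_cycField ρ x))
    (character_mem_cycField ρ 1)

/-- An algebraic integer lying in the local ideal at a prime ideal `M` lies in `M`. -/
theorem mem_of_memLocalIdeal (M : Ideal Cfsg.AlgInt) [hM : M.IsPrime] (z : Cfsg.AlgInt)
    (h : Cfsg.MemLocalIdeal M (z : ℂ)) : z ∈ M := by
  obtain ⟨a, b, ha, hb, hab⟩ := h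
  have hb0 : (b : ℂ) ≠ 0 := by
    intro h0
    apply hb
    have : b = 0 := Subtype.ext h0
    rw [this]; exact M.zero_mem
  have h1 : z * b = a := by
    apply Subtype.ext
    push_cast
    rw [← hab, div_mul_cancel₀ _ hb0]
  have h2 : z * b ∈ M := h1 ▸ ha
  exact (hM.mem_or_mem h2).resolve_right hb

/-- If two irreducible characters are in the same block relative to `M`, the differences of their
central characters lie in every prime ideal `M'` of the algebraic integers containing `p`. -/
theorem sameBlock_diff_mem {G : Type*} [Group G] [Finite G] {p : ℕ} (M : Ideal Cfsg.AlgInt)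
    (hM : Cfsg.IsPModular p M) (χ ψ : Cfsg.IrrCharacter G)
    (h : Cfsg.SameBlock M (χ : G → ℂ) (ψ : G → ℂ)) (M' : Ideal Cfsg.AlgInt) (hM' : M'.IsPrime)
    (hpM' : (p : Cfsg.AlgInt) ∈ M') (g : G) :
    ∃ r : Cfsg.AlgInt, r ∈ M' ∧
      (r : ℂ) = Cfsg.centralChar (χ : G → ℂ) g - Cfsg.centralChar (ψ : G → ℂ) g := by
  classical
  have : Fintype G := Fintype.ofFinite G
  have hn : Nat.card G ≠ 0 := Nat.card_pos.ne'
  have : NeZero (Nat.card G) := ⟨hn⟩
  have hMprime : M.IsPrime := hM.2.1.isPrime
  let zc : G → Cfsg.AlgInt := fun x =>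
    ⟨Cfsg.centralChar (χ : G → ℂ) x - Cfsg.centralChar (ψ : G → ℂ) x,
      sub_mem (Cfsg.Agent.Helper81.centralChar_mem_algInt χ x)
        (Cfsg.Agent.Helper81.centralChar_mem_algInt ψ x)⟩
  have hzM : ∀ x, zc x ∈ M := fun x => mem_of_memLocalIdeal M (zc x) (h x)
  have key := mem_of_galois_orbit_mem hM.1 M M' hM.2.1.ne_top hM.2.2 hM' hpM' (Nat.card G) hn
    (fun u : (ZMod (Nat.card G))ˣ => zc (upow g u))
    (fun u => sub_mem (centralChar_mem_cycField χ _) (centralChar_mem_cycField ψ _))
    (by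
      intro σ
      obtain ⟨v, hv⟩ := exists_unit_of_ringEquiv (G := G) σ
      refine ⟨Equiv.mulRight v, fun u => ?_⟩
      show σ (Cfsg.centralChar (χ : G → ℂ) (upow g u) - Cfsg.centralChar (ψ : G → ℂ) (upow g u)) =
        Cfsg.centralChar (χ : G → ℂ) (upow g (u * v)) - Cfsg.centralChar (ψ : G → ℂ) (upow g (u * v))
      rw [map_sub, centralChar_galois σ v (fun ρ g => hv ρ g) χ,
        centralChar_galois σ v (fun ρ g => hv ρ g) ψ, upow_mul])
    (fun u => hzM _) 1
  refine ⟨zc (upow g 1), key, ?_⟩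
  rw [upow_one]

/-- Whether two irreducible characters lie in the same `p`-block does not depend on the maximal
ideal over `p`. -/
theorem sameBlock_indep {G : Type*} [Group G] [Finite G] {p : ℕ} (M M' : Ideal Cfsg.AlgInt)
    (hM : Cfsg.IsPModular p M) (hM' : Cfsg.IsPModular p M') (χ ψ : Cfsg.IrrCharacter G) :
    Cfsg.SameBlock M (χ : G → ℂ) (ψ : G → ℂ) ↔ Cfsg.SameBlock M' (χ : G → ℂ) (ψ : G → ℂ) := by
  have aux : ∀ (M M' : Ideal Cfsg.AlgInt), Cfsg.IsPModular p M → Cfsg.IsPModular p M' →
      Cfsg.SameBlock M (χ : G → ℂ) (ψ : G → ℂ) → Cfsg.SameBlock M' (χ : G → ℂ) (ψ : G → ℂ) := by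
    intro M M' hM hM' h g
    obtain ⟨r, hr, hrz⟩ := sameBlock_diff_mem M hM χ ψ h M' hM'.2.1.isPrime hM'.2.2 g
    refine ⟨r, 1, hr, ?_, ?_⟩
    · intro h1
      exact hM'.2.1.ne_top ((Ideal.eq_top_iff_one _).mpr h1)
    · rw [← hrz]; simp
  exact ⟨aux M M' hM hM', aux M' M hM' hM⟩

end Cfsg.Agent.Helper75
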