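import Mathlib
import Cfsg.Prelude.Def_Blocks
import Cfsg.Agent.Helper75.BlocksGalois

/-!
# Galois twists of irreducible characters and blocks (helper75)

* `upow_unitOfCoprime`: `upow g (ZMod.unitOfCoprime k hk) = g ^ k`.
* `centralizer_pow_coprime`: `C_G(g ^ k) = C_G(g)` for `k` coprime to `|G|`.
* `powTwist k hk χ`: the irreducible character `g ↦ χ (g ^ k)`; `charDegree_powTwist`,
  `centralChar_powTwist`, `sameBlock_powTwist`, `powTwist_mem_principalBlock`.
-/

set_option autoImplicit false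

namespace Cfsg.Agent.Helper75

theorem upow_unitOfCoprime {G : Type*} [Group G] [Finite G] (g : G) (k : ℕ)
    (hk : Nat.Coprime k (Nat.card G)) : upow g (ZMod.unitOfCoprime k hk) = g ^ k := by
  have : NeZero (Nat.card G) := ⟨Nat.card_pos.ne'⟩
  unfold upow
  rw [ZMod.coe_unitOfCoprime, ZMod.val_natCast, pow_mod_natCard]

theorem centralizer_pow_coprime {G : Type*} [Group G] [Finite G] (g : G) (k : ℕ)
    (hk : Nat.Coprime k (Nat.card G)) :
    Subgroup.centralizer ({g ^ k} : Set G) = Subgroup.centralizer ({g} : Set G) := by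
  rw [← upow_unitOfCoprime g k hk, centralizer_upow]

/-- The Galois twist `g ↦ χ (g ^ k)` of an irreducible character, `k` coprime to `|G|`. -/
noncomputable def powTwist {G : Type*} [Group G] [Finite G] (k : ℕ)
    (hk : Nat.Coprime k (Nat.card G)) (χ : Cfsg.IrrCharacter G) : Cfsg.IrrCharacter G :=
  ⟨fun g => (χ : G → ℂ) (g ^ k), isIrrCharacter_pow k hk χ.2⟩

theorem powTwist_apply {G : Type*} [Group G] [Finite G] (k : ℕ)
    (hk : Nat.Coprime k (Nat.card G)) (χ : Cfsg.IrrCharacter G) (g : G) :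
    (powTwist k hk χ : G → ℂ) g = (χ : G → ℂ) (g ^ k) := rfl

theorem charDegree_powTwist {G : Type*} [Group G] [Finite G] (k : ℕ)
    (hk : Nat.Coprime k (Nat.card G)) (χ : Cfsg.IrrCharacter G) :
    Cfsg.charDegree (powTwist k hk χ : G → ℂ) = Cfsg.charDegree (χ : G → ℂ) := by
  unfold Cfsg.charDegree
  rw [powTwist_apply, one_pow]

theorem centralChar_pow_fun {G : Type*} [Group G] [Finite G] (k : ℕ)
    (hk : Nat.Coprime k (Nat.card G)) (χ : G → ℂ) (g : G) :
    Cfsg.centralChar (fun x => χ (x ^ k)) g = Cfsg.centralChar χ (g ^ k) := by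
  unfold Cfsg.centralChar
  simp only []
  rw [centralizer_pow_coprime g k hk, one_pow]

theorem centralChar_powTwist {G : Type*} [Group G] [Finite G] (k : ℕ)
    (hk : Nat.Coprime k (Nat.card G)) (χ : Cfsg.IrrCharacter G) (g : G) :
    Cfsg.centralChar (powTwist k hk χ : G → ℂ) g = Cfsg.centralChar (χ : G → ℂ) (g ^ k) :=
  centralChar_pow_fun k hk _ g

theorem sameBlock_pow_fun {G : Type*} [Group G] [Finite G] (M : Ideal Cfsg.AlgInt) (k : ℕ)
    (hk : Nat.Coprime k (Nat.card G)) (χ ψ : G → ℂ) (h : Cfsg.SameBlock M χ ψ) :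
    Cfsg.SameBlock M (fun x => χ (x ^ k)) (fun x => ψ (x ^ k)) := by
  intro g
  rw [centralChar_pow_fun k hk, centralChar_pow_fun k hk]
  exact h (g ^ k)

theorem sameBlock_powTwist {G : Type*} [Group G] [Finite G] (M : Ideal Cfsg.AlgInt) (k : ℕ)
    (hk : Nat.Coprime k (Nat.card G)) (χ ψ : Cfsg.IrrCharacter G)
    (h : Cfsg.SameBlock M (χ : G → ℂ) (ψ : G → ℂ)) :
    Cfsg.SameBlock M (powTwist k hk χ : G → ℂ) (powTwist k hk ψ : G → ℂ) :=
  sameBlock_pow_fun M k hk _ _ h

theorem powTwist_mem_principalBlock {G : Type*} [Group G] [Finite G] (M : Ideal Cfsg.AlgInt)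
    (k : ℕ) (hk : Nat.Coprime k (Nat.card G)) (χ : Cfsg.IrrCharacter G)
    (h : χ ∈ Cfsg.principalBlock M G) : powTwist k hk χ ∈ Cfsg.principalBlock M G := by
  have h1 : Cfsg.SameBlock M (fun _ : G => (1 : ℂ)) (χ : G → ℂ) := h
  exact sameBlock_pow_fun M k hk _ _ h1

theorem powTwist_mem_blockOf {G : Type*} [Group G] [Finite G] (M : Ideal Cfsg.AlgInt)
    (k : ℕ) (hk : Nat.Coprime k (Nat.card G)) (χ₀ χ : Cfsg.IrrCharacter G)
    (h : χ ∈ Cfsg.blockOf M (χ₀ : G → ℂ)) :
    powTwist k hk χ ∈ Cfsg.blockOf M (powTwist k hk χ₀ : G → ℂ) :=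
  sameBlock_powTwist M k hk χ₀ χ h

/-- Iterating the twist. -/
theorem powTwist_iterate {G : Type*} [Group G] [Finite G] (k : ℕ)
    (hk : Nat.Coprime k (Nat.card G)) (χ : Cfsg.IrrCharacter G) (j : ℕ) (g : G) :
    (((powTwist k hk)^[j] χ : Cfsg.IrrCharacter G) : G → ℂ) g = (χ : G → ℂ) (g ^ (k ^ j)) := by
  induction j generalizing χ with
  | zero => simp
  | succ j ih =>
    rw [Function.iterate_succ, Function.comp_apply, ih, powTwist_apply, ← pow_mul, pow_succ]

end Cfsg.Agent.Helper75
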