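import Cfsg.Agent.Helper75.ThirdMain
import Cfsg.Agent.Helper16.BrauerMap
import Cfsg.Prelude.Def_BrauerPairs

/-!
# Brauer pairs of the principal block (Third Main Theorem, Brauer-pair form)

For a `p`-subgroup `Q` and an irreducible character `ξ` of `C_G(Q)`:
`ξ` lies in the principal block of `C_G(Q)` iff the central character of `ξ` takes the value `1`
(modulo the local ideal) on the Brauer-map image at `Q` of the principal block idempotent of `G`.

* `brauerOmega_eq_omega`, `brRes_centralizer`: glue.
* `mem_principalBlock_centralizer_iff`: the statement above.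
* `isBrauerPairOf_principal_iff`: `(Q, e)` is a Brauer pair of `B₀(G)` iff `e = B₀(C_G(Q))`.
-/

set_option autoImplicit false
open Cfsg

namespace Cfsg.Agent.Helper75

universe u

variable {G : Type u} [Group G] [Fintype G]

omit [Fintype G] in
theorem brauerOmega_eq_omega (Q : Subgroup G) [Fintype (Subgroup.centralizer (Q : Set G))]
    (β : G → ℂ) (ξ : Subgroup.centralizer (Q : Set G) → ℂ) :
    Cfsg.brauerOmega Q β ξ
      = Helper81.omega ξ (fun x : Subgroup.centralizer (Q : Set G) => β x) := by
  unfold Cfsg.brauerOmega Helper81.omega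
  rw [finsum_eq_sum_of_fintype, Finset.sum_div]

omit [Fintype G] in
theorem brRes_centralizer (Q : Subgroup G) (a : G → ℂ) :
    Helper16.brRes Q (Subgroup.centralizer (Q : Set G)) a
      = fun x : Subgroup.centralizer (Q : Set G) => a x := by
  funext h
  exact Helper16.brRes_apply_of_mem a h.2

theorem mem_principalBlock_centralizer_iff {p : ℕ} [Fact p.Prime] {M : Ideal Cfsg.AlgInt}
    (hM : Cfsg.IsPModular p M) (Q : Subgroup G) (hQ : IsPGroup p Q)
    (ξ : Cfsg.IrrCharacter (Subgroup.centralizer (Q : Set G))) :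
    ξ ∈ Cfsg.principalBlock M (Subgroup.centralizer (Q : Set G)) ↔
      Cfsg.MemLocalIdeal M (Cfsg.brauerOmega Q (Cfsg.blockCoeff (Cfsg.principalBlock M G))
        (ξ : Subgroup.centralizer (Q : Set G) → ℂ) - 1) := by
  classical
  haveI : Fintype (Subgroup.centralizer (Q : Set G)) := Fintype.ofFinite _
  have hMm := hM.2.1
  have hB0 : Cfsg.IsPBlock M (Cfsg.principalBlock M G) := ⟨Helper81.trivIrr G, rfl⟩
  obtain ⟨χ, hχ⟩ := Helper16.exists_irr_brauer hM Q (Subgroup.centralizer (Q : Set G)) hQ le_rfl
    (Subgroup.centralizer_le_normalizer _) ξ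
  have h1 := hχ (Cfsg.blockCoeff (Cfsg.principalBlock M G))
    (Helper77.blockCoeff_isClassFunction _) (Helper77.blockCoeff_memLocalRing hMm hB0)
  have h2 := hχ (pregInd p G) (pregInd_isClassFunction p) (pregInd_memLocalRing hMm p)
  rw [brRes_centralizer] at h1 h2
  rw [pregInd_res] at h2
  rw [brauerOmega_eq_omega]
  constructor
  · intro hξ
    have h3 := (mem_principalBlock_iff_omega hM ξ).1 hξ
    have h4 : χ ∈ Cfsg.principalBlock M G := by
      rw [mem_principalBlock_iff_omega hM]
      intro h
      apply h3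
      have := Helper77.memLocalIdeal_add hMm h2 h
      rwa [sub_add_cancel] at this
    rw [Helper77.omega_blockCoeff_of_mem h4] at h1
    exact h1
  · intro h
    by_contra hξ
    have h3 := omega_pregInd_of_not_mem hM hξ
    rw [h3, zero_sub] at h2
    have h4 : χ ∉ Cfsg.principalBlock M G := by
      rw [mem_principalBlock_iff_omega hM, not_not]
      have := Helper77.memLocalIdeal_neg h2
      rwa [neg_neg] at this
    rw [Helper77.omega_blockCoeff_of_not_mem h4, sub_zero] at h1
    have h5 := Helper77.memLocalIdeal_sub hMm h1 h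
    rw [sub_sub_cancel] at h5
    exact Helper77.not_memLocalIdeal_one hMm h5

/-- **Third Main Theorem, Brauer-pair form.** -/
theorem isBrauerPairOf_principal_iff {p : ℕ} [Fact p.Prime] {M : Ideal Cfsg.AlgInt}
    (hM : Cfsg.IsPModular p M) (Q : Subgroup G) (hQ : IsPGroup p Q)
    (e : Set (Cfsg.IrrCharacter (Subgroup.centralizer (Q : Set G)))) (he : Cfsg.IsPBlock M e) :
    Cfsg.IsBrauerPairOf p M (Cfsg.principalBlock M G) Q e ↔
      e = Cfsg.principalBlock M (Subgroup.centralizer (Q : Set G)) := by
  have hMm := hM.2.1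
  constructor
  · rintro ⟨-, -, h⟩
    obtain ⟨ξ, hξ⟩ := Helper16.exists_mem_of_isPBlock hMm he
    have h2 := (mem_principalBlock_centralizer_iff hM Q hQ ξ).2 (h ξ hξ)
    exact (Helper16.eq_blockOf_of_mem hMm he hξ).trans
      (Helper16.eq_blockOf_of_mem hMm ⟨Helper81.trivIrr _, rfl⟩ h2).symm
  · intro h
    subst h
    exact ⟨⟨hQ, he⟩, ⟨Helper81.trivIrr G, rfl⟩,
      fun ξ hξ => (mem_principalBlock_centralizer_iff hM Q hQ ξ).1 hξ⟩

end Cfsg.Agent.Helper75
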