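import Mathlib
import Cfsg.Agent.Helper98.C2Defs
import Cfsg.Agent.Helper14.C2XA

/-!
# CALL S5634 (helper98), piece XM3: blocks of size at least three give Case I (helper75)
-/

set_option autoImplicit false

namespace Cfsg.Agent.Helper75.C2XM3

open Matrix Cfsg.Agent.Helper98.C2
open scoped MatrixGroups

variable {K : Type*} [Field K]

theorem blk_m3 {n t : ℕ} (blk : Fin n → Fin t) (m : ℕ) (hm : 3 ≤ m)
    (hfib : ∀ b : Fin t, (Finset.univ.filter (fun i => blk i = b)).card = m)
    (M : Subgroup (GL (Fin n) K)) (hH : BlkLE blk M)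
    (a φ : Fin n → K) (hφa : φ ⬝ᵥ a = 0) (hφ : φ ≠ 0)
    (ha : ∃ i j, blk i ≠ blk j ∧ a i ≠ 0 ∧ a j ≠ 0)
    (k : GL (Fin n) K) (hk : k ∈ M) (hkeq : k.1 = 1 + Matrix.vecMulVec a φ) : CaseI blk M := by
  classical
  obtain ⟨j, hj⟩ : ∃ j, φ j ≠ 0 := by
    by_contra h
    push Not at h
    exact hφ (funext h)
  have hjmem : j ∈ Finset.univ.filter (fun i => blk i = blk j) := by simp
  obtain ⟨p, hp, p', hp', hpp'⟩ : ∃ p ∈ (Finset.univ.filter (fun i => blk i = blk j)).erase j,
      ∃ p' ∈ (Finset.univ.filter (fun i => blk i = blk j)).erase j, p ≠ p' := by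
    apply Finset.one_lt_card.mp
    rw [Finset.card_erase_of_mem hjmem, hfib (blk j)]
    omega
  rw [Finset.mem_erase, Finset.mem_filter] at hp hp'
  obtain ⟨hpj, -, hpb⟩ := hp
  obtain ⟨hp'j, -, hp'b⟩ := hp'
  obtain ⟨ψ, hψsupp, hψj, hψa, hψ0⟩ : ∃ ψ : Fin n → K, (∀ i, blk i ≠ blk j → ψ i = 0) ∧
      ψ j = 0 ∧ ψ ⬝ᵥ a = 0 ∧ ψ ≠ 0 := by
    by_cases h0 : a p = 0
    · refine ⟨Pi.single p 1, ?_, ?_, ?_, ?_⟩
      · intro i hi
        have hip : i ≠ p := by
          intro h
          rw [h] at hi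
          exact hi hpb
        simp [hip]
      · simp [hpj.symm]
      · rw [single_one_dotProduct, h0]
      · intro h
        have := congrFun h p
        simp at this
    · refine ⟨Pi.single p (a p') - Pi.single p' (a p), ?_, ?_, ?_, ?_⟩
      · intro i hi
        have hip : i ≠ p := by
          intro h
          rw [h] at hi
          exact hi hpb
        have hip' : i ≠ p' := by
          intro h
          rw [h] at hi
          exact hi hp'b
        simp [hip, hip']
      · simp [hpj.symm, hp'j.symm]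
      · rw [sub_dotProduct, single_dotProduct, single_dotProduct]
        ring
      · intro h
        have := congrFun h p'
        simp [hpp'.symm] at this
        exact h0 this
  have hx : ∀ i, blk i ≠ blk j → (Pi.single j (1 : K) : Fin n → K) i = 0 := by
    intro i hi
    have hij : i ≠ j := by
      intro h
      rw [h] at hi
      exact hi rfl
    simp [hij]
  have hψx : ψ ⬝ᵥ (Pi.single j (1 : K) : Fin n → K) = 0 := by
    rw [dotProduct_single_one, hψj]
  obtain ⟨k', hk', hk'eq⟩ := Cfsg.Agent.Helper14.C2XA.blk_axis blk M hH a φ hφa k hk hkeq (blk j)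
    (Pi.single j (1 : K)) ψ hx hψsupp hψx hψa
  rw [dotProduct_single_one] at hk'eq
  obtain ⟨i1, i2, hne, hi1, hi2⟩ := ha
  obtain ⟨i, hi, hai⟩ : ∃ i, blk i ≠ blk j ∧ a i ≠ 0 := by
    by_cases h : blk i1 = blk j
    · exact ⟨i2, fun h2 => hne (h.trans h2.symm), hi2⟩
    · exact ⟨i1, h, hi1⟩
  refine ⟨a, φ j • ψ, blk i, ?_, ?_, ⟨i, rfl, hai⟩, ?_, k', hk', hk'eq⟩
  · rw [smul_dotProduct, hψa, smul_zero]
  · intro h
    rcases smul_eq_zero.mp h with h1 | h1
    · exact hj h1
    · exact hψ0 h1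
  · intro i' hi'
    have h1 : blk i' ≠ blk j := by
      rw [hi']
      exact hi
    simp [hψsupp i' h1]

end Cfsg.Agent.Helper75.C2XM3
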