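import Cfsg.Agent.Helper76.QuotRank2
import Cfsg.Agent.Helper16.BK

/-!
# Blocks of `G = P C_G(P)` with defect group `P`: the canonical character

`P` a `p`-subgroup of the finite group `G` with `P ⊔ C_G(P) = ⊤` and `B` a block with defect
group `P`.

* `index_centralizer_of_sup_eq_top`: `C_G(P)` has `p`-power index.
* `canonical_character`: `B` contains exactly one character `θ` with `P ≤ ker θ`; its degree has
  the same `p`-part as `[G : P]`; and `B` has `p`-regular rank one.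
-/

set_option autoImplicit false
set_option linter.style.haveILetI false
open Cfsg

namespace Cfsg.Agent.Helper75

open scoped ComplexConjugate

universe u

section canonChar

variable {G : Type u} [Group G] [Fintype G] {p : ℕ} [Fact p.Prime] {M : Ideal Cfsg.AlgInt}

omit [Fintype G] in
theorem commute_of_mem_centralizer' (P : Subgroup G) :
    ∀ u ∈ P, ∀ v ∈ Subgroup.centralizer (P : Set G), u * v = v * u :=
  fun u hu _ hv => Subgroup.mem_centralizer_iff.mp hv u hu

omit [Fintype G] in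
/-- If `G = P C_G(P)` for a `p`-subgroup `P`, then `C_G(P)` has `p`-power index. -/
theorem index_centralizer_of_sup_eq_top [Finite G] (P : Subgroup G) (hP : IsPGroup p P)
    (hG : P ⊔ Subgroup.centralizer (P : Set G) = ⊤) :
    ∃ k : ℕ, (Subgroup.centralizer (P : Set G)).index = p ^ k := by
  have hp : p.Prime := Fact.out
  haveI hCn : (Subgroup.centralizer (P : Set G)).Normal :=
    Helper76.normal_of_commute_sup' (commute_of_mem_centralizer' P) hG
  have h1 : (Subgroup.centralizer (P : Set G)).relIndex (P ⊔ Subgroup.centralizer (P : Set G))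
      = (Subgroup.centralizer (P : Set G)).relIndex P := Subgroup.relIndex_sup_right _ _
  rw [hG, Subgroup.relIndex_top_right] at h1
  obtain ⟨n, hn⟩ := IsPGroup.exists_card_eq hP
  have h2 : (Subgroup.centralizer (P : Set G)).relIndex P ∣ Nat.card P := Subgroup.index_dvd_card _
  rw [hn] at h2
  obtain ⟨m, -, hm⟩ := (Nat.dvd_prime_pow hp).mp h2
  exact ⟨m, by rw [h1, hm]⟩

/-- **Canonical character.** A block `B` of `G = P C_G(P)` with defect group `P` contains exactly
one character with `P` in its kernel, of full `p`-part in `G ⧸ P`, and has `p`-regular rank one. -/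
theorem canonical_character (hM : Cfsg.IsPModular p M) (P : Subgroup G) (hP : IsPGroup p P)
    (hG : P ⊔ Subgroup.centralizer (P : Set G) = ⊤)
    {B : Set (Cfsg.IrrCharacter G)} (hB : Cfsg.IsPBlock M B)
    (hD : Cfsg.IsDefectGroup p M B P) :
    (∃! θ : Cfsg.IrrCharacter G, θ ∈ B ∧ ∀ x ∈ P, (θ : G → ℂ) x = (θ : G → ℂ) 1) ∧
    (∀ θ ∈ B, (∀ x ∈ P, (θ : G → ℂ) x = (θ : G → ℂ) 1) →
      (Cfsg.charDegree (θ : G → ℂ)).factorization p = P.index.factorization p) ∧
    Cfsg.blockRank p B = 1 := by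
  classical
  have hp : p.Prime := Fact.out
  have hMm := hM.2.1
  have hcard := Helper77.card_of_isDefectGroup hM hB hD
  haveI hPn : P.Normal := Helper76.normal_of_commute_sup (commute_of_mem_centralizer' P) hG
  have hC := index_centralizer_of_sup_eq_top P hP hG
  have hcent : ∀ g : G, ¬ p ∣ orderOf g → g ∈ Subgroup.centralizer (P : Set G) :=
    fun g hg => Helper81.mem_centralizer_of_pRegular P hC hg
  have huniq := Helper76.pRegular_lift_unique P hP hcent
  have hnil : ∀ g : G, g ∉ Subgroup.centralizer (P : Set G) → ∀ ψ : Cfsg.IrrCharacter G,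
      Cfsg.MemLocalIdeal M (Cfsg.centralChar (ψ : G → ℂ) g) :=
    fun g hg ψ => Helper16.centralChar_memLocalIdeal_of_not_mem_centralizer hM P hP ψ g hg
  obtain ⟨θ, hθB, hθ⟩ := Helper81.exists_mem_block_ker hM P hP hnil hB
  obtain ⟨ψ₀, hψ₀, hψ₀g⟩ := Helper79.exists_irr_deflation P θ.2 hθ
  obtain ⟨ψ, hψdef⟩ : ∃ ψ : Cfsg.IrrCharacter (G ⧸ P), ψ = ⟨ψ₀, hψ₀⟩ := ⟨_, rfl⟩
  have hinfl : Helper76.irrInfl P ψ = θ := by
    rw [hψdef]
    exact Subtype.ext (funext hψ₀g)
  letI : Fintype (G ⧸ P) := Fintype.ofFinite _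
  have hQ0 : Nat.card (G ⧸ P) ≠ 0 := Nat.card_pos.ne'
  have hdeg : ∀ ψ' : Cfsg.IrrCharacter (G ⧸ P), Helper76.irrInfl P ψ' ∈ B →
      p ^ (Nat.card (G ⧸ P)).factorization p ∣ Cfsg.charDegree (ψ' : G ⧸ P → ℂ) := by
    intro ψ' hψ'
    have h1 : Nat.card G = Nat.card P * Nat.card (G ⧸ P) := by
      rw [← Subgroup.index_eq_card]
      exact (Subgroup.card_mul_index P).symm
    have h2 : (Nat.card G).factorization p
        = Cfsg.blockDefect p B + (Nat.card (G ⧸ P)).factorization p := by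
      rw [h1, Nat.factorization_mul Nat.card_pos.ne' hQ0, hcard, Finsupp.add_apply,
        Nat.Prime.factorization_pow hp, Finsupp.single_eq_same]
    have h3 : sInf ((fun χ : Cfsg.IrrCharacter G =>
        (Cfsg.charDegree (χ : G → ℂ)).factorization p) '' B)
        ≤ (Cfsg.charDegree (Helper76.irrInfl P ψ' : G → ℂ)).factorization p :=
      Nat.sInf_le ⟨_, hψ', rfl⟩
    have h4 : Cfsg.charDegree (Helper76.irrInfl P ψ' : G → ℂ)
        = Cfsg.charDegree (ψ' : G ⧸ P → ℂ) := rfl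
    have h5 : Cfsg.blockDefect p B = (Nat.card G).factorization p -
        sInf ((fun χ : Cfsg.IrrCharacter G =>
          (Cfsg.charDegree (χ : G → ℂ)).factorization p) '' B) := rfl
    have hd0 : Cfsg.charDegree (ψ' : G ⧸ P → ℂ) ≠ 0 := by
      intro h0
      have h6 := Helper81.irr_one_eq_charDegree ψ'
      rw [h0, Nat.cast_zero] at h6
      exact Helper81.irr_one_ne_zero ψ' h6
    rw [Nat.Prime.pow_dvd_iff_le_factorization hp hd0]
    rw [h4] at h3
    omega
  have hsame : ∀ χ₁ ∈ B, ∀ χ₂ ∈ B, Cfsg.SameBlock M (χ₁ : G → ℂ) (χ₂ : G → ℂ) := by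
    obtain ⟨χ₀, rfl⟩ := hB
    intro χ₁ h1 χ₂ h2
    exact Helper16.sameBlock_trans hMm (Helper16.sameBlock_symm h1) h2
  have hsingle : ∀ ψ' : Cfsg.IrrCharacter (G ⧸ P),
      Cfsg.SameBlock M (ψ : G ⧸ P → ℂ) (ψ' : G ⧸ P → ℂ) → ψ' = ψ :=
    Helper76.eq_of_sameBlock_of_defect_zero hM ψ (hdeg ψ (by rw [hinfl]; exact hθB))
  have hB0 : ∀ ψ' : Cfsg.IrrCharacter (G ⧸ P),
      Helper76.irrInfl P ψ' ∈ B ↔ ψ' ∈ ({ψ} : Set (Cfsg.IrrCharacter (G ⧸ P))) := by
    intro ψ'
    constructor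
    · intro h
      have h1 : Cfsg.SameBlock M (Helper76.irrInfl P ψ : G → ℂ)
          (Helper76.irrInfl P ψ' : G → ℂ) := by
        rw [hinfl]
        exact hsame θ hθB _ h
      exact Set.mem_singleton_iff.mpr
        (hsingle ψ' (Helper81.sameBlock_of_comp_mk hM P hP hC ψ ψ' h1))
    · intro h
      rw [Set.mem_singleton_iff.mp h, hinfl]
      exact hθB
  have hun : ∀ θ' : Cfsg.IrrCharacter G, θ' ∈ B →
      (∀ x ∈ P, (θ' : G → ℂ) x = (θ' : G → ℂ) 1) → θ' = θ := by
    intro θ' hθ'B hθ'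
    obtain ⟨ψ₀', hψ₀', hψ₀g'⟩ := Helper79.exists_irr_deflation P θ'.2 hθ'
    have hinfl' : Helper76.irrInfl P ⟨ψ₀', hψ₀'⟩ = θ' := Subtype.ext (funext hψ₀g')
    have h1 : (⟨ψ₀', hψ₀'⟩ : Cfsg.IrrCharacter (G ⧸ P)) = ψ :=
      Set.mem_singleton_iff.mp ((hB0 _).mp (by rw [hinfl']; exact hθ'B))
    rw [← hinfl', h1, hinfl]
  refine ⟨⟨θ, ⟨hθB, hθ⟩, fun θ' h => hun θ' h.1 h.2⟩, ?_, ?_⟩
  · intro θ' hθ'B hθ'
    rw [hun θ' hθ'B hθ', ← hinfl]
    have h4 : Cfsg.charDegree (Helper76.irrInfl P ψ : G → ℂ)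
        = Cfsg.charDegree (ψ : G ⧸ P → ℂ) := rfl
    rw [h4, Subgroup.index_eq_card]
    have hd0 : Cfsg.charDegree (ψ : G ⧸ P → ℂ) ≠ 0 := by
      intro h0
      have h6 := Helper81.irr_one_eq_charDegree ψ
      rw [h0, Nat.cast_zero] at h6
      exact Helper81.irr_one_ne_zero ψ h6
    apply le_antisymm
    · exact (Nat.factorization_le_iff_dvd hd0 hQ0).mpr (Helper81.charDegree_dvd_card ψ) p
    · exact (Nat.Prime.pow_dvd_iff_le_factorization hp hd0).mp
        (hdeg ψ (by rw [hinfl]; exact hθB))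
  · rw [Helper76.blockRank_eq_of_dominate hM P huniq hB {ψ} hB0]
    unfold Cfsg.blockRank
    rw [Set.image_singleton]
    apply finrank_span_singleton
    intro h0
    have h1 := congrFun h0 1
    rw [Helper77.pRegularPart_apply, orderOf_one,
      if_pos (by rw [Nat.dvd_one]; exact hp.one_lt.ne')] at h1
    exact Helper81.irr_one_ne_zero ψ h1

end canonChar

end Cfsg.Agent.Helper75
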