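import Cfsg.Agent.Helper78.GenDecomp
import Cfsg.Agent.Helper73.IndBlockPart

/-!
# Two-variable section orthogonality in blocks and the contribution matrix (helper75)

For a block `e` of a finite group `H`, `blockKernel e t c = Σ_{ψ ∈ e} ψ(t) conj ψ(c)`.

* `sum_blockPart_section_two`: for a `p`-element `z`, `C = C_G(z)`, a block `e` of `C` and
  `p`-regular `s, s' ∈ C`:
  `Σ_{χ ∈ Irr G} F_χ(s) conj F_χ(s') = blockKernel e s s'`, `F_χ` the `e`-part of `c ↦ χ(z c)`.
* `sum_mem_blockPart_section_two`: the same sum over `χ ∈ B` when `e` induces `B`.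
* `contrib_trace_sq`: `Σ_{χ,ψ ∈ B} |⟨F_χ, F_ψ⟩'|² = |C|² l(e)`, where `⟨ , ⟩'` is the sum over
  the `p`-regular elements (`Helper77.pregInner`).
-/

set_option autoImplicit false
open Cfsg
open scoped ComplexConjugate

namespace Cfsg.Agent.Helper75

universe u

/-- The block kernel `K_e(t, c) = Σ_{ψ ∈ e} ψ(t) conj ψ(c)`. -/
noncomputable def blockKernel {H : Type u} [Group H] (e : Set (Cfsg.IrrCharacter H)) (t c : H) :
    ℂ :=
  ∑ᶠ ψ ∈ e, (ψ : H → ℂ) t * conj ((ψ : H → ℂ) c)

theorem blockKernel_eq_sum {H : Type u} [Group H] [Fintype (Cfsg.IrrCharacter H)]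
    (e : Set (Cfsg.IrrCharacter H)) [DecidablePred (fun ψ => ψ ∈ e)] (t c : H) :
    blockKernel e t c = ∑ ψ ∈ Finset.univ.filter (fun ψ : Cfsg.IrrCharacter H => ψ ∈ e),
      (ψ : H → ℂ) t * conj ((ψ : H → ℂ) c) := by
  unfold blockKernel
  rw [finsum_mem_eq_finite_toFinset_sum _ (Set.toFinite e)]
  refine Finset.sum_congr ?_ (fun _ _ => rfl)
  ext ψ
  simp

theorem blockKernel_conj {H : Type u} [Group H] [Finite H] (e : Set (Cfsg.IrrCharacter H))
    (t c : H) : conj (blockKernel e t c) = blockKernel e c t := by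
  classical
  have := Fintype.ofFinite H
  have := Fintype.ofFinite (Cfsg.IrrCharacter H)
  rw [blockKernel_eq_sum, blockKernel_eq_sum, map_sum]
  refine Finset.sum_congr rfl fun ψ _ => ?_
  rw [map_mul, Complex.conj_conj, mul_comm]

theorem blockKernel_eq_zero {H : Type u} [Group H] [Fintype H] {p : ℕ} {M : Ideal Cfsg.AlgInt}
    (hM : Cfsg.IsPModular p M) {e : Set (Cfsg.IrrCharacter H)} (he : Cfsg.IsPBlock M e)
    {t c : H} (ht : ¬ p ∣ orderOf t) (hc : p ∣ orderOf c) : blockKernel e t c = 0 :=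
  Helper77.weak_block_orthogonality hM he ht hc

theorem blockKernel_eq_zero' {H : Type u} [Group H] [Fintype H] {p : ℕ} {M : Ideal Cfsg.AlgInt}
    (hM : Cfsg.IsPModular p M) {e : Set (Cfsg.IrrCharacter H)} (he : Cfsg.IsPBlock M e)
    {t c : H} (ht : p ∣ orderOf t) (hc : ¬ p ∣ orderOf c) : blockKernel e t c = 0 := by
  rw [← blockKernel_conj, blockKernel_eq_zero hM he hc ht, map_zero]

theorem blockKernel_conj_right {H : Type u} [Group H] [Finite H] (e : Set (Cfsg.IrrCharacter H))
    (t c d : H) : blockKernel e t (d * c * d⁻¹) = blockKernel e t c := by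
  unfold blockKernel
  simp only [Helper81.irr_conj]

theorem blockPart_eq_kernel {H : Type u} [Group H] [Fintype H] (e : Set (Cfsg.IrrCharacter H))
    (ϑ : H → ℂ) (t : H) :
    Cfsg.blockPart e ϑ t = (Nat.card H : ℂ)⁻¹ * ∑ c : H, ϑ c * blockKernel e t c := by
  classical
  have := Fintype.ofFinite (Cfsg.IrrCharacter H)
  rw [Helper73.blockPart_eq_finsum, finsum_mem_eq_finite_toFinset_sum _ (Set.toFinite e)]
  have h1 : ∀ c : H, blockKernel e t c = ∑ ψ ∈ (Set.toFinite e).toFinset,
      (ψ : H → ℂ) t * conj ((ψ : H → ℂ) c) := by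
    intro c
    unfold blockKernel
    rw [finsum_mem_eq_finite_toFinset_sum _ (Set.toFinite e)]
  calc ∑ ψ ∈ (Set.toFinite e).toFinset, Cfsg.classInner ϑ (ψ : H → ℂ) * (ψ : H → ℂ) t
      = ∑ ψ ∈ (Set.toFinite e).toFinset, (Nat.card H : ℂ)⁻¹ *
          ∑ c : H, ϑ c * ((ψ : H → ℂ) t * conj ((ψ : H → ℂ) c)) := by
        refine Finset.sum_congr rfl fun ψ _ => ?_
        unfold Cfsg.classInner
        rw [mul_assoc, Finset.sum_mul]
        congr 1
        refine Finset.sum_congr rfl fun c _ => ?_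
        ring
    _ = (Nat.card H : ℂ)⁻¹ * ∑ c : H, ϑ c * blockKernel e t c := by
        rw [← Finset.mul_sum, Finset.sum_comm]
        congr 1
        refine Finset.sum_congr rfl fun c _ => ?_
        rw [h1, Finset.mul_sum]

/-- `Σ_c K(c, t') K(t, c) = |H| K(t, t')`. -/
theorem sum_blockKernel_mul {H : Type u} [Group H] [Fintype H] (e : Set (Cfsg.IrrCharacter H))
    (t t' : H) :
    ∑ c : H, blockKernel e c t' * blockKernel e t c = (Nat.card H : ℂ) * blockKernel e t t' := by
  classical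
  have := Fintype.ofFinite (Cfsg.IrrCharacter H)
  have hcard : (Nat.card H : ℂ) ≠ 0 := by
    have : 0 < Nat.card H := Nat.card_pos
    exact_mod_cast this.ne'
  obtain ⟨E, hE⟩ : ∃ E : Finset (Cfsg.IrrCharacter H),
      E = Finset.univ.filter (fun ψ : Cfsg.IrrCharacter H => ψ ∈ e) := ⟨_, rfl⟩
  simp only [blockKernel_eq_sum, ← hE]
  have h1 : ∀ c : H, (∑ ψ ∈ E, (ψ : H → ℂ) c * conj ((ψ : H → ℂ) t'))
        * (∑ ψ' ∈ E, (ψ' : H → ℂ) t * conj ((ψ' : H → ℂ) c))
      = ∑ ψ ∈ E, ∑ ψ' ∈ E, (ψ' : H → ℂ) t * conj ((ψ : H → ℂ) t')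
          * ((ψ : H → ℂ) c * (ψ' : H → ℂ) c⁻¹) := by
    intro c
    rw [Finset.sum_mul_sum]
    refine Finset.sum_congr rfl fun ψ _ => Finset.sum_congr rfl fun ψ' _ => ?_
    rw [Helper77.irr_inv ψ' c]
    ring
  rw [Finset.sum_congr rfl (fun c _ => h1 c), Finset.sum_comm, Finset.mul_sum]
  refine Finset.sum_congr rfl fun ψ hψ => ?_
  rw [Finset.sum_comm]
  have h2 : ∀ ψ' ∈ E, ∑ c : H, (ψ' : H → ℂ) t * conj ((ψ : H → ℂ) t')
        * ((ψ : H → ℂ) c * (ψ' : H → ℂ) c⁻¹)
      = if ψ' = ψ then (Nat.card H : ℂ) * ((ψ : H → ℂ) t * conj ((ψ : H → ℂ) t')) else 0 := by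
    intro ψ' _
    rw [← Finset.mul_sum]
    have h3 := Helper81.irr_orthonormal ψ ψ'
    by_cases hψψ : ψ' = ψ
    · rw [if_pos hψψ]
      rw [if_pos hψψ.symm] at h3
      have h4 : ∑ c : H, (ψ : H → ℂ) c * (ψ' : H → ℂ) c⁻¹ = (Nat.card H : ℂ) := by
        field_simp at h3
        linear_combination h3
      rw [h4, hψψ]
      ring
    · rw [if_neg hψψ]
      rw [if_neg (fun h => hψψ h.symm)] at h3
      rcases mul_eq_zero.mp h3 with h5 | h5
      · exact absurd h5 (inv_ne_zero hcard)
      · rw [h5, mul_zero]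
  rw [Finset.sum_congr rfl h2, Finset.sum_ite_eq' E ψ, if_pos hψ]

variable {G : Type u} [Group G] [Fintype G]

/-- Two-variable section orthogonality for block parts. -/
theorem sum_blockPart_section_two {p : ℕ} [Fact p.Prime] {M : Ideal Cfsg.AlgInt}
    (hM : Cfsg.IsPModular p M) (z : G) (hz : ∃ k : ℕ, orderOf z = p ^ k)
    (e : Set (Cfsg.IrrCharacter (Subgroup.centralizer ({z} : Set G)))) (he : Cfsg.IsPBlock M e)
    (s s' : Subgroup.centralizer ({z} : Set G)) (hs : ¬ p ∣ orderOf s) (hs' : ¬ p ∣ orderOf s') :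
    ∑ᶠ χ : Cfsg.IrrCharacter G,
        Cfsg.blockPart e (fun c : Subgroup.centralizer ({z} : Set G) => (χ : G → ℂ) (z * c)) s
          * conj (Cfsg.blockPart e
              (fun c : Subgroup.centralizer ({z} : Set G) => (χ : G → ℂ) (z * c)) s')
      = blockKernel e s s' := by
  classical
  let _ : Fintype (Subgroup.centralizer ({z} : Set G)) := Fintype.ofFinite _
  have := Fintype.ofFinite (Cfsg.IrrCharacter G)
  have hcardC : (Nat.card (Subgroup.centralizer ({z} : Set G)) : ℂ) ≠ 0 := by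
    have : 0 < Nat.card (Subgroup.centralizer ({z} : Set G)) := Nat.card_pos
    exact_mod_cast this.ne'
  rw [finsum_eq_sum_of_fintype]
  have hterm : ∀ χ : Cfsg.IrrCharacter G,
      Cfsg.blockPart e (fun c : Subgroup.centralizer ({z} : Set G) => (χ : G → ℂ) (z * c)) s
          * conj (Cfsg.blockPart e
              (fun c : Subgroup.centralizer ({z} : Set G) => (χ : G → ℂ) (z * c)) s')
        = ((Nat.card (Subgroup.centralizer ({z} : Set G)) : ℂ)⁻¹) ^ 2 *
          ∑ c' : Subgroup.centralizer ({z} : Set G), blockKernel e c' s' *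
            (conj ((χ : G → ℂ) (z * (c' : G))) *
              ∑ c : Subgroup.centralizer ({z} : Set G),
                blockKernel e s c * (χ : G → ℂ) (z * (c : G))) := by
    intro χ
    rw [blockPart_eq_kernel, blockPart_eq_kernel, map_mul, map_inv₀, Complex.conj_natCast,
      map_sum, mul_mul_mul_comm, ← pow_two, Finset.sum_mul_sum]
    congr 1
    rw [Finset.sum_comm]
    refine Finset.sum_congr rfl fun c' _ => ?_
    rw [Finset.mul_sum, Finset.mul_sum]
    refine Finset.sum_congr rfl fun c _ => ?_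
    rw [map_mul, blockKernel_conj]
    ring
  rw [Finset.sum_congr rfl (fun χ _ => hterm χ), ← Finset.mul_sum, Finset.sum_comm]
  have hc' : ∀ c' : Subgroup.centralizer ({z} : Set G),
      ∑ χ : Cfsg.IrrCharacter G, blockKernel e c' s' *
        (conj ((χ : G → ℂ) (z * (c' : G))) *
          ∑ c : Subgroup.centralizer ({z} : Set G),
            blockKernel e s c * (χ : G → ℂ) (z * (c : G)))
      = (Nat.card (Subgroup.centralizer ({z} : Set G)) : ℂ)
          * (blockKernel e c' s' * blockKernel e s c') := by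
    intro c'
    by_cases hcs : p ∣ orderOf c'
    · rw [blockKernel_eq_zero' hM he hcs hs']
      simp
    · have h1 := Helper78.section_fourier z hz (blockKernel e s)
        (fun c d => blockKernel_conj_right e s c d)
        (fun c hc => blockKernel_eq_zero hM he hs hc) c' hcs
      rw [← Finset.mul_sum, h1]
      ring
  rw [Finset.sum_congr rfl (fun c' _ => hc' c'), ← Finset.mul_sum, sum_blockKernel_mul]
  field_simp

/-- Two-variable section orthogonality, summed over the induced block. -/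
theorem sum_mem_blockPart_section_two {p : ℕ} [Fact p.Prime] {M : Ideal Cfsg.AlgInt}
    (hM : Cfsg.IsPModular p M) (z : G) (hz : ∃ k : ℕ, orderOf z = p ^ k)
    (B : Set (Cfsg.IrrCharacter G))
    (e : Set (Cfsg.IrrCharacter (Subgroup.centralizer ({z} : Set G))))
    (hind : Cfsg.IsInducedBlock M (Subgroup.centralizer ({z} : Set G)) e B)
    (s s' : Subgroup.centralizer ({z} : Set G)) (hs : ¬ p ∣ orderOf s) (hs' : ¬ p ∣ orderOf s') :
    ∑ᶠ χ ∈ B,
        Cfsg.blockPart e (fun c : Subgroup.centralizer ({z} : Set G) => (χ : G → ℂ) (z * c)) s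
          * conj (Cfsg.blockPart e
              (fun c : Subgroup.centralizer ({z} : Set G) => (χ : G → ℂ) (z * c)) s')
      = blockKernel e s s' := by
  classical
  let _ : Fintype (Subgroup.centralizer ({z} : Set G)) := Fintype.ofFinite _
  have := Fintype.ofFinite (Cfsg.IrrCharacter G)
  have hMm := hM.2.1
  have hMp : M.IsPrime := hMm.isPrime
  have he := hind.1
  have hout : ∀ χ : Cfsg.IrrCharacter G, χ ∉ B → Cfsg.blockPart e
        (fun c : Subgroup.centralizer ({z} : Set G) => (χ : G → ℂ) (z * c)) s = 0 := by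
    intro χ hχ
    have hB' : Cfsg.IsPBlock M (Cfsg.blockOf M (χ : G → ℂ)) := ⟨χ, rfl⟩
    have hχ' : χ ∈ Cfsg.blockOf M (χ : G → ℂ) := Helper81.mem_blockOf_self χ
    have hnot : ¬ Cfsg.IsInducedBlock M (Subgroup.centralizer ({z} : Set G)) e
        (Cfsg.blockOf M (χ : G → ℂ)) := by
      intro hi
      have h1 := Helper78.isInducedBlock_unique hMm hind hi
      exact hχ (h1 ▸ hχ')
    exact Helper16.finsum_classInner_centralizer_eq_zero hM z hz hB' χ hχ' he hnot s hs
  rw [finsum_mem_eq_finite_toFinset_sum _ (Set.toFinite B),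
    ← sum_blockPart_section_two hM z hz e he s s' hs hs', finsum_eq_sum_of_fintype]
  apply Finset.sum_subset (Finset.subset_univ _)
  intro χ _ hχ
  rw [Set.Finite.mem_toFinset] at hχ
  rw [hout χ hχ, zero_mul]

/-- **Trace of the square of the contribution matrix**: for a block `e` of `C = C_G(z)` inducing
`B`, with `F_χ` the `e`-part of `c ↦ χ(z c)`,
`Σ_{χ,ψ ∈ B} |Σ_{s p-regular} F_χ(s) conj F_ψ(s)|² = |C|² l(e)`. -/
theorem contrib_trace_sq {p : ℕ} [Fact p.Prime] {M : Ideal Cfsg.AlgInt}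
    (hM : Cfsg.IsPModular p M) (z : G) (hz : ∃ k : ℕ, orderOf z = p ^ k)
    [Fintype (Subgroup.centralizer ({z} : Set G))]
    (B : Set (Cfsg.IrrCharacter G))
    (e : Set (Cfsg.IrrCharacter (Subgroup.centralizer ({z} : Set G))))
    (hind : Cfsg.IsInducedBlock M (Subgroup.centralizer ({z} : Set G)) e B)
    (BF : Finset (Cfsg.IrrCharacter G)) (hBF : ∀ χ, χ ∈ BF ↔ χ ∈ B) :
    ∑ χ ∈ BF, ∑ ψ ∈ BF,
        Helper77.pregInner p
          (Cfsg.blockPart e (fun c : Subgroup.centralizer ({z} : Set G) => (χ : G → ℂ) (z * c)))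
          (Cfsg.blockPart e (fun c : Subgroup.centralizer ({z} : Set G) => (ψ : G → ℂ) (z * c)))
        * conj (Helper77.pregInner p
          (Cfsg.blockPart e (fun c : Subgroup.centralizer ({z} : Set G) => (χ : G → ℂ) (z * c)))
          (Cfsg.blockPart e (fun c : Subgroup.centralizer ({z} : Set G) => (ψ : G → ℂ) (z * c))))
      = (Nat.card (Subgroup.centralizer ({z} : Set G)) : ℂ) ^ 2 * (Cfsg.blockRank p e : ℂ) := by
  classical
  have := Fintype.ofFinite (Cfsg.IrrCharacter G)
  have := Fintype.ofFinite (Cfsg.IrrCharacter (Subgroup.centralizer ({z} : Set G)))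
  have he := hind.1
  obtain ⟨F, hF⟩ : ∃ F : Cfsg.IrrCharacter G → Subgroup.centralizer ({z} : Set G) → ℂ,
      ∀ χ, F χ = Cfsg.blockPart e
        (fun c : Subgroup.centralizer ({z} : Set G) => (χ : G → ℂ) (z * c)) := ⟨_, fun _ => rfl⟩
  simp only [← hF]
  have hBFeq : BF = (Set.toFinite B).toFinset := by
    ext χ
    rw [hBF, Set.Finite.mem_toFinset]
  have hsec : ∀ s s' : Subgroup.centralizer ({z} : Set G), ¬ p ∣ orderOf s → ¬ p ∣ orderOf s' →
      ∑ χ ∈ BF, F χ s * conj (F χ s') = blockKernel e s s' := by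
    intro s s' hs hs'
    have h1 := sum_mem_blockPart_section_two hM z hz B e hind s s' hs hs'
    rw [finsum_mem_eq_finite_toFinset_sum _ (Set.toFinite B), ← hBFeq] at h1
    simpa only [hF] using h1
  -- expand the products
  have hexp : ∀ χ ψ : Cfsg.IrrCharacter G,
      Helper77.pregInner p (F χ) (F ψ) * conj (Helper77.pregInner p (F χ) (F ψ))
        = ∑ s : Subgroup.centralizer ({z} : Set G), ∑ s' : Subgroup.centralizer ({z} : Set G),
            if ¬ p ∣ orderOf s ∧ ¬ p ∣ orderOf s' then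
              (F χ s * conj (F χ s')) * (F ψ s' * conj (F ψ s)) else 0 := by
    intro χ ψ
    unfold Helper77.pregInner
    rw [map_sum, Finset.sum_mul_sum]
    refine Finset.sum_congr rfl fun s _ => Finset.sum_congr rfl fun s' _ => ?_
    by_cases hs : p ∣ orderOf s
    · simp [hs]
    · by_cases hs' : p ∣ orderOf s'
      · simp [hs']
      · simp only [hs, hs', not_false_eq_true, if_true, and_self, map_mul, Complex.conj_conj]
        ring
  simp only [hexp]
  have hswap : ∑ χ ∈ BF, ∑ ψ ∈ BF, ∑ s : Subgroup.centralizer ({z} : Set G),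
        ∑ s' : Subgroup.centralizer ({z} : Set G),
          (if ¬ p ∣ orderOf s ∧ ¬ p ∣ orderOf s' then
            (F χ s * conj (F χ s')) * (F ψ s' * conj (F ψ s)) else 0)
      = ∑ s : Subgroup.centralizer ({z} : Set G), ∑ s' : Subgroup.centralizer ({z} : Set G),
          if ¬ p ∣ orderOf s ∧ ¬ p ∣ orderOf s' then
            blockKernel e s s' * blockKernel e s' s else 0 := by
    calc ∑ χ ∈ BF, ∑ ψ ∈ BF, ∑ s : Subgroup.centralizer ({z} : Set G),
        ∑ s' : Subgroup.centralizer ({z} : Set G),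
          (if ¬ p ∣ orderOf s ∧ ¬ p ∣ orderOf s' then
            (F χ s * conj (F χ s')) * (F ψ s' * conj (F ψ s)) else 0)
        = ∑ χ ∈ BF, ∑ s : Subgroup.centralizer ({z} : Set G), ∑ ψ ∈ BF,
            ∑ s' : Subgroup.centralizer ({z} : Set G),
              (if ¬ p ∣ orderOf s ∧ ¬ p ∣ orderOf s' then
                (F χ s * conj (F χ s')) * (F ψ s' * conj (F ψ s)) else 0) :=
          Finset.sum_congr rfl fun χ _ => Finset.sum_comm
      _ = ∑ s : Subgroup.centralizer ({z} : Set G), ∑ χ ∈ BF, ∑ ψ ∈ BF,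
            ∑ s' : Subgroup.centralizer ({z} : Set G),
              (if ¬ p ∣ orderOf s ∧ ¬ p ∣ orderOf s' then
                (F χ s * conj (F χ s')) * (F ψ s' * conj (F ψ s)) else 0) := Finset.sum_comm
      _ = ∑ s : Subgroup.centralizer ({z} : Set G), ∑ χ ∈ BF,
            ∑ s' : Subgroup.centralizer ({z} : Set G), ∑ ψ ∈ BF,
              (if ¬ p ∣ orderOf s ∧ ¬ p ∣ orderOf s' then
                (F χ s * conj (F χ s')) * (F ψ s' * conj (F ψ s)) else 0) :=
          Finset.sum_congr rfl fun s _ => Finset.sum_congr rfl fun χ _ => Finset.sum_comm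
      _ = ∑ s : Subgroup.centralizer ({z} : Set G), ∑ s' : Subgroup.centralizer ({z} : Set G),
            ∑ χ ∈ BF, ∑ ψ ∈ BF,
              (if ¬ p ∣ orderOf s ∧ ¬ p ∣ orderOf s' then
                (F χ s * conj (F χ s')) * (F ψ s' * conj (F ψ s)) else 0) :=
          Finset.sum_congr rfl fun s _ => Finset.sum_comm
      _ = _ := by
          refine Finset.sum_congr rfl fun s _ => Finset.sum_congr rfl fun s' _ => ?_
          by_cases h : ¬ p ∣ orderOf s ∧ ¬ p ∣ orderOf s'
          · simp only [if_pos h]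
            rw [← Finset.sum_mul_sum, hsec s s' h.1 h.2, hsec s' s h.2 h.1]
          · simp only [if_neg h]
            simp
  rw [hswap]
  -- inner sum over `s'`
  have hinner : ∀ s : Subgroup.centralizer ({z} : Set G),
      ∑ s' : Subgroup.centralizer ({z} : Set G),
        (if ¬ p ∣ orderOf s ∧ ¬ p ∣ orderOf s' then
          blockKernel e s s' * blockKernel e s' s else 0)
      = if ¬ p ∣ orderOf s then
          (Nat.card (Subgroup.centralizer ({z} : Set G)) : ℂ) * blockKernel e s s else 0 := by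
    intro s
    by_cases hs : p ∣ orderOf s
    · simp [hs]
    · rw [if_pos hs, ← sum_blockKernel_mul e s s]
      refine Finset.sum_congr rfl fun s' _ => ?_
      by_cases hs' : p ∣ orderOf s'
      · rw [if_neg (fun h => h.2 hs'), blockKernel_eq_zero hM he hs hs', mul_zero]
      · rw [if_pos ⟨hs, hs'⟩, mul_comm]
  rw [Finset.sum_congr rfl (fun s _ => hinner s)]
  have hrank := Helper77.card_mul_blockRank hM he
  rw [pow_two, mul_assoc, hrank]
  simp only [Helper77.pregInner]
  rw [Finset.sum_comm, Finset.mul_sum]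
  refine Finset.sum_congr rfl fun s _ => ?_
  by_cases hs : p ∣ orderOf s
  · simp [hs]
  · simp only [hs, not_false_eq_true, if_true]
    rw [blockKernel_eq_sum]

end Cfsg.Agent.Helper75
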