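import Cfsg.Agent.Helper73.BrouePuig
import Cfsg.Agent.Helper75.GaloisAMGM
import Cfsg.Agent.Helper75.SectionTwo

/-!
# Contributions of a subsection: arithmetic (helper75)

For a block `b` of defect `d` of a finite group `H`:

* `defWeight p d θ = p^d θ(1) / |H|`: a local integer for `θ ∈ b`, a local unit for `θ` of height
  zero (`defWeight_memLocalRing`, `defWeight_not_memLocalIdeal`).
* `cn p d θ θ' = p^d |H|⁻¹ Σ_{x p-regular} θ(x) conj θ'(x)`: a rational integer for `θ' ∈ b`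
  (`cn_int`), congruent to `κ · defWeight θ · defWeight θ'` modulo the local ideal for
  `θ, θ' ∈ b` (`cn_sub_kappa`), `κ` a local unit.
-/

set_option autoImplicit false
open Cfsg
open scoped ComplexConjugate

namespace Cfsg.Agent.Helper75

universe u

/-- The defect weight `p^d θ(1) / |H|`. -/
noncomputable def defWeight {H : Type u} [Group H] (p d : ℕ) (θ : H → ℂ) : ℂ :=
  (p : ℂ) ^ d * θ 1 / (Nat.card H : ℂ)

/-- `p^d θ(1) = p^a k` for `θ` in a block of defect `d`, with `p ∤ k` when `θ` has height zero. -/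
theorem defWeight_factor {H : Type u} [Group H] [Finite H] {p : ℕ} (hp : p.Prime)
    {M : Ideal Cfsg.AlgInt} (hM : M.IsMaximal)
    {b : Set (Cfsg.IrrCharacter H)} (hb : Cfsg.IsPBlock M b) {d : ℕ}
    (hd : Cfsg.blockDefect p b = d) {θ : Cfsg.IrrCharacter H} (hθ : θ ∈ b) :
    ∃ k : ℕ, p ^ d * Cfsg.charDegree (θ : H → ℂ) = p ^ (Nat.card H).factorization p * k ∧
      (Cfsg.blockHeight p b (θ : H → ℂ) = 0 → ¬ p ∣ k) ∧
      (Nat.card H).factorization p ≤ d + (Cfsg.charDegree (θ : H → ℂ)).factorization p := by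
  have := Fintype.ofFinite H
  obtain ⟨θ₀, hθ₀, h0⟩ := Helper16.exists_height_zero (p := p) hM hb
  have h1 := Helper16.factorization_charDegree_add_blockDefect hθ₀ h0
  rw [hd] at h1
  have h2 : sInf ((fun χ : Cfsg.IrrCharacter H =>
      (Cfsg.charDegree (χ : H → ℂ)).factorization p) '' b)
      ≤ (Cfsg.charDegree (θ : H → ℂ)).factorization p := Nat.sInf_le ⟨θ, hθ, rfl⟩
  have h3 : (Cfsg.charDegree (θ₀ : H → ℂ)).factorization p
      ≤ (Cfsg.charDegree (θ : H → ℂ)).factorization p := by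
    unfold Cfsg.blockHeight at h0
    omega
  obtain ⟨ν, u, hu, hνu⟩ := Nat.exists_eq_pow_mul_and_not_dvd
    (Helper81.charDegree_pos θ).ne' p hp.ne_one
  have hν : (Cfsg.charDegree (θ : H → ℂ)).factorization p = ν := by
    rw [hνu]; exact Helper73.factorization_pow_mul_of_not_dvd hp ν u hu
  have hle : (Nat.card H).factorization p ≤ d + ν := by omega
  refine ⟨p ^ (d + ν - (Nat.card H).factorization p) * u, ?_, ?_, by omega⟩
  · rw [hνu, ← mul_assoc, ← mul_assoc, ← pow_add, ← pow_add]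
    congr 2
    omega
  · intro hh
    have h4 := Helper16.factorization_charDegree_add_blockDefect hθ hh
    rw [hd, hν] at h4
    have h5 : d + ν - (Nat.card H).factorization p = 0 := by omega
    rw [h5, pow_zero, one_mul]
    exact hu

theorem card_eq_ordProj_mul (H : Type u) [Group H] [Finite H] (p : ℕ) (hp : p.Prime) :
    ∃ N' : ℕ, ¬ p ∣ N' ∧ Nat.card H = p ^ (Nat.card H).factorization p * N' :=
  ⟨Nat.card H / p ^ (Nat.card H).factorization p, Nat.not_dvd_ordCompl hp Nat.card_pos.ne',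
    (Nat.ordProj_mul_ordCompl_eq_self (Nat.card H) p).symm⟩

theorem defWeight_eq {H : Type u} [Group H] [Finite H] {p : ℕ} (hp : p.Prime)
    {d : ℕ} (θ : Cfsg.IrrCharacter H) {k N' : ℕ}
    (hk : p ^ d * Cfsg.charDegree (θ : H → ℂ) = p ^ (Nat.card H).factorization p * k)
    (hN : Nat.card H = p ^ (Nat.card H).factorization p * N') :
    defWeight p d (θ : H → ℂ) = (k : ℂ) * (N' : ℂ)⁻¹ := by
  have hpa : ((p : ℂ) ^ (Nat.card H).factorization p) ≠ 0 :=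
    pow_ne_zero _ (by exact_mod_cast hp.ne_zero)
  have hN0 : (N' : ℂ) ≠ 0 := by
    intro h0
    have h1 : N' = 0 := by exact_mod_cast h0
    rw [h1, mul_zero] at hN
    exact Nat.card_pos.ne' hN
  have hkc : (p : ℂ) ^ d * (θ : H → ℂ) 1 = (p : ℂ) ^ (Nat.card H).factorization p * (k : ℂ) := by
    rw [Helper81.irr_one_eq_charDegree]
    exact_mod_cast hk
  have hNc : (Nat.card H : ℂ) = (p : ℂ) ^ (Nat.card H).factorization p * (N' : ℂ) := by
    exact_mod_cast hN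
  unfold defWeight
  rw [hkc]
  conv_lhs => rw [hNc]
  field_simp

theorem defWeight_memLocalRing {H : Type u} [Group H] [Finite H] {p : ℕ}
    {M : Ideal Cfsg.AlgInt} (hM : Cfsg.IsPModular p M)
    {b : Set (Cfsg.IrrCharacter H)} (hb : Cfsg.IsPBlock M b) {d : ℕ}
    (hd : Cfsg.blockDefect p b = d) {θ : Cfsg.IrrCharacter H} (hθ : θ ∈ b) :
    Cfsg.MemLocalRing M (defWeight p d (θ : H → ℂ)) := by
  obtain ⟨k, hk, -, -⟩ := defWeight_factor hM.1 hM.2.1 hb hd hθ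
  obtain ⟨N', hpN, hN⟩ := card_eq_ordProj_mul H p hM.1
  rw [defWeight_eq hM.1 θ hk hN]
  exact Helper77.memLocalRing_mul hM.2.1 (Helper81.memLocalRing_natCast hM.2.1.ne_top k)
    (Helper77.memLocalRing_natCast_inv hM hpN)

theorem defWeight_not_memLocalIdeal {H : Type u} [Group H] [Finite H] {p : ℕ}
    {M : Ideal Cfsg.AlgInt} (hM : Cfsg.IsPModular p M)
    {b : Set (Cfsg.IrrCharacter H)} (hb : Cfsg.IsPBlock M b) {d : ℕ}
    (hd : Cfsg.blockDefect p b = d) {θ : Cfsg.IrrCharacter H} (hθ : θ ∈ b)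
    (h0 : Cfsg.blockHeight p b (θ : H → ℂ) = 0) :
    ¬ Cfsg.MemLocalIdeal M (defWeight p d (θ : H → ℂ)) := by
  obtain ⟨k, hk, hk0, -⟩ := defWeight_factor hM.1 hM.2.1 hb hd hθ
  obtain ⟨N', hpN, hN⟩ := card_eq_ordProj_mul H p hM.1
  rw [defWeight_eq hM.1 θ hk hN]
  intro hI
  have hN0 : (N' : ℂ) ≠ 0 := by
    intro h0'
    have h1 : N' = 0 := by exact_mod_cast h0'
    exact hpN (h1 ▸ dvd_zero p)
  have h1 := Helper77.memLocalIdeal_mul hM.2.1 (Helper81.memLocalRing_natCast hM.2.1.ne_top N') hI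
  have h2 : (N' : ℂ) * ((k : ℂ) * (N' : ℂ)⁻¹) = (k : ℂ) := by field_simp
  rw [h2] at h1
  exact Helper77.not_memLocalIdeal_natCast hM (hk0 h0) h1

/-- `cn p d θ θ' = p^d |H|⁻¹ Σ_{x p-regular} θ(x) conj θ'(x)`. -/
noncomputable def cn {H : Type u} [Group H] [Fintype H] (p d : ℕ) (θ θ' : H → ℂ) : ℂ :=
  (p : ℂ) ^ d / (Nat.card H : ℂ) * Helper77.pregInner p θ θ'

theorem cn_eq {H : Type u} [Group H] [Fintype H] (p d : ℕ) (θ : Cfsg.IrrCharacter H)
    (θ' : H → ℂ) :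
    cn p d (θ : H → ℂ) θ' = defWeight p d (θ : H → ℂ) * Helper73.hzc p θ' (θ : H → ℂ) := by
  unfold cn defWeight
  rw [← Helper73.hzc_mul_one]
  ring

/-- The unit `κ` attached to a height zero character `θ₀`. -/
noncomputable def kap {H : Type u} [Group H] [Fintype H] (p d : ℕ) (θ₀ : H → ℂ) : ℂ :=
  Helper73.hzc p θ₀ θ₀ * (defWeight p d θ₀)⁻¹

theorem kap_memLocalRing {H : Type u} [Group H] [Fintype H] {p : ℕ}
    {M : Ideal Cfsg.AlgInt} (hM : Cfsg.IsPModular p M)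
    {b : Set (Cfsg.IrrCharacter H)} (hb : Cfsg.IsPBlock M b) {d : ℕ}
    (hd : Cfsg.blockDefect p b = d) {θ₀ : Cfsg.IrrCharacter H} (hθ₀ : θ₀ ∈ b)
    (h0 : Cfsg.blockHeight p b (θ₀ : H → ℂ) = 0) :
    Cfsg.MemLocalRing M (kap p d (θ₀ : H → ℂ)) :=
  Helper77.memLocalRing_mul hM.2.1 (Helper73.hzc_memLocalRing hM.2.1 p θ₀ θ₀)
    (Helper77.memLocalRing_inv hM.2.1 (defWeight_memLocalRing hM hb hd hθ₀)
      (defWeight_not_memLocalIdeal hM hb hd hθ₀ h0))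

theorem kap_not_memLocalIdeal {H : Type u} [Group H] [Fintype H] {p : ℕ}
    {M : Ideal Cfsg.AlgInt} (hM : Cfsg.IsPModular p M)
    {b : Set (Cfsg.IrrCharacter H)} (hb : Cfsg.IsPBlock M b) {d : ℕ}
    (hd : Cfsg.blockDefect p b = d) {θ₀ : Cfsg.IrrCharacter H} (hθ₀ : θ₀ ∈ b)
    (h0 : Cfsg.blockHeight p b (θ₀ : H → ℂ) = 0) :
    ¬ Cfsg.MemLocalIdeal M (kap p d (θ₀ : H → ℂ)) := by
  have hMm := hM.2.1
  have hw := defWeight_memLocalRing hM hb hd hθ₀
  have hw' := defWeight_not_memLocalIdeal hM hb hd hθ₀ h0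
  have hw0 : defWeight p d (θ₀ : H → ℂ) ≠ 0 := fun h => hw' (h ▸ Helper77.memLocalIdeal_zero hMm)
  intro hI
  rcases Helper16.memLocalIdeal_or_of_mul hMm (Helper73.hzc_memLocalRing hMm p θ₀ θ₀) hI
    with h1 | h1
  · exact (Helper73.hzc_not_memLocalIdeal_iff hM hb hθ₀ hθ₀).mpr h0 h1
  · have h2 := Helper77.memLocalIdeal_mul hMm hw h1
    rw [mul_inv_cancel₀ hw0] at h2
    exact Helper77.not_memLocalIdeal_one hMm h2

/-- `hzc p ξ θ₀ ≡ κ · defWeight ξ` for `ξ ∈ b`. -/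
theorem hzc_sub_kap {H : Type u} [Group H] [Fintype H] {p : ℕ}
    {M : Ideal Cfsg.AlgInt} (hM : Cfsg.IsPModular p M)
    {b : Set (Cfsg.IrrCharacter H)} (hb : Cfsg.IsPBlock M b) {d : ℕ}
    (hd : Cfsg.blockDefect p b = d) {θ₀ : Cfsg.IrrCharacter H} (hθ₀ : θ₀ ∈ b)
    (h0 : Cfsg.blockHeight p b (θ₀ : H → ℂ) = 0) {ξ : Cfsg.IrrCharacter H} (hξ : ξ ∈ b) :
    Cfsg.MemLocalIdeal M (Helper73.hzc p (ξ : H → ℂ) (θ₀ : H → ℂ)
      - kap p d (θ₀ : H → ℂ) * defWeight p d (ξ : H → ℂ)) := by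
  have hMm := hM.2.1
  have hw := defWeight_memLocalRing hM hb hd hθ₀
  have hw' := defWeight_not_memLocalIdeal hM hb hd hθ₀ h0
  have hw0 : defWeight p d (θ₀ : H → ℂ) ≠ 0 := fun h => hw' (h ▸ Helper77.memLocalIdeal_zero hMm)
  have hsym := Helper73.hzc_mul_symm hM.1 ξ θ₀
  have hcard : (Nat.card H : ℂ) ≠ 0 := by
    have : 0 < Nat.card H := Nat.card_pos
    exact_mod_cast this.ne'
  have h1 : Helper73.hzc p (ξ : H → ℂ) (θ₀ : H → ℂ) * defWeight p d (θ₀ : H → ℂ)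
      = Helper73.hzc p (θ₀ : H → ℂ) (ξ : H → ℂ) * defWeight p d (ξ : H → ℂ) := by
    unfold defWeight
    rw [mul_div_assoc', mul_div_assoc']
    congr 1
    linear_combination (p : ℂ) ^ d * hsym
  have h2 : Helper73.hzc p (ξ : H → ℂ) (θ₀ : H → ℂ)
      = Helper73.hzc p (θ₀ : H → ℂ) (ξ : H → ℂ) * defWeight p d (ξ : H → ℂ)
        * (defWeight p d (θ₀ : H → ℂ))⁻¹ := by
    rw [← h1, mul_assoc, mul_inv_cancel₀ hw0, mul_one]
  have h3 := Helper73.hzc_sub_memLocalIdeal hMm p hb θ₀ hξ hθ₀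
  have h4 : Helper73.hzc p (ξ : H → ℂ) (θ₀ : H → ℂ)
        - kap p d (θ₀ : H → ℂ) * defWeight p d (ξ : H → ℂ)
      = (Helper73.hzc p (θ₀ : H → ℂ) (ξ : H → ℂ) - Helper73.hzc p (θ₀ : H → ℂ) (θ₀ : H → ℂ))
        * (defWeight p d (ξ : H → ℂ) * (defWeight p d (θ₀ : H → ℂ))⁻¹) := by
    unfold kap
    rw [h2]
    ring
  rw [h4]
  exact Helper77.memLocalIdeal_mul' hMm h3
    (Helper77.memLocalRing_mul hMm (defWeight_memLocalRing hM hb hd hξ)
      (Helper77.memLocalRing_inv hMm hw hw'))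

/-- `cn θ θ' ≡ κ · defWeight θ · defWeight θ'` for `θ, θ' ∈ b`. -/
theorem cn_sub_kap {H : Type u} [Group H] [Fintype H] {p : ℕ}
    {M : Ideal Cfsg.AlgInt} (hM : Cfsg.IsPModular p M)
    {b : Set (Cfsg.IrrCharacter H)} (hb : Cfsg.IsPBlock M b) {d : ℕ}
    (hd : Cfsg.blockDefect p b = d) {θ₀ : Cfsg.IrrCharacter H} (hθ₀ : θ₀ ∈ b)
    (h0 : Cfsg.blockHeight p b (θ₀ : H → ℂ) = 0) {θ θ' : Cfsg.IrrCharacter H} (hθ : θ ∈ b)
    (hθ' : θ' ∈ b) :
    Cfsg.MemLocalIdeal M (cn p d (θ : H → ℂ) (θ' : H → ℂ)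
      - kap p d (θ₀ : H → ℂ) * defWeight p d (θ : H → ℂ) * defWeight p d (θ' : H → ℂ)) := by
  have hMm := hM.2.1
  have h1 := Helper73.hzc_sub_memLocalIdeal hMm p hb θ' hθ hθ₀
  have h2 := hzc_sub_kap hM hb hd hθ₀ h0 hθ'
  have h3 := Helper77.memLocalIdeal_add hMm h1 h2
  have h4 := Helper77.memLocalIdeal_mul hMm (defWeight_memLocalRing hM hb hd hθ) h3
  have e : cn p d (θ : H → ℂ) (θ' : H → ℂ)
        - kap p d (θ₀ : H → ℂ) * defWeight p d (θ : H → ℂ) * defWeight p d (θ' : H → ℂ)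
      = defWeight p d (θ : H → ℂ) *
        (Helper73.hzc p (θ' : H → ℂ) (θ : H → ℂ) - Helper73.hzc p (θ' : H → ℂ) (θ₀ : H → ℂ)
          + (Helper73.hzc p (θ' : H → ℂ) (θ₀ : H → ℂ)
            - kap p d (θ₀ : H → ℂ) * defWeight p d (θ' : H → ℂ))) := by
    rw [cn_eq]
    ring
  rw [e]
  exact h4

/-- `cn θ θ'` is a rational integer for `θ'` in a block of defect `d`. -/
theorem cn_int {H : Type u} [Group H] [Fintype H] {p : ℕ}
    {M : Ideal Cfsg.AlgInt} (hM : Cfsg.IsPModular p M)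
    {b : Set (Cfsg.IrrCharacter H)} (hb : Cfsg.IsPBlock M b) {d : ℕ}
    (hd : Cfsg.blockDefect p b = d) (θ : Cfsg.IrrCharacter H) {θ' : Cfsg.IrrCharacter H}
    (hθ' : θ' ∈ b) :
    ∃ j : ℤ, cn p d (θ : H → ℂ) (θ' : H → ℂ) = (j : ℂ) := by
  have hp := hM.1
  have hpf : Fact p.Prime := ⟨hp⟩
  obtain ⟨k, -, -, hle⟩ := defWeight_factor hp hM.2.1 hb hd hθ'
  obtain ⟨N', hpN, hN⟩ := card_eq_ordProj_mul H p hp
  obtain ⟨j, hj⟩ := Helper73.pregTilde_classInner_int hp θ θ'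
  have hda : d ≤ (Nat.card H).factorization p := by
    rw [← hd]; unfold Cfsg.blockDefect; omega
  have hdiv : (p : ℤ) ^ ((Nat.card H).factorization p - d) ∣ j := by
    rw [padicValInt_dvd_iff]
    by_cases hj0 : j = 0
    · exact Or.inl hj0
    · right
      have := (Helper73.classInner_val_iff hM θ θ' j hj).1 hj0
      omega
  obtain ⟨j', hj'⟩ := hdiv
  refine ⟨j', ?_⟩
  unfold cn
  rw [Helper73.pregInner_eq_ordCompl_mul p hp, hj, hj']
  have hpc : (p : ℂ) ≠ 0 := by exact_mod_cast hp.ne_zero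
  have hN0 : (N' : ℂ) ≠ 0 := by
    intro h0'
    have h1 : N' = 0 := by exact_mod_cast h0'
    exact hpN (h1 ▸ dvd_zero p)
  have hNc : (Nat.card H : ℂ) = (p : ℂ) ^ (Nat.card H).factorization p * (N' : ℂ) := by
    exact_mod_cast hN
  have hdivN : ((Nat.card H / p ^ (Nat.card H).factorization p : ℕ) : ℂ) = (N' : ℂ) := by
    congr 1
    exact Nat.div_eq_of_eq_mul_right (pow_pos hp.pos _) hN
  rw [hdivN]
  conv_lhs => rw [hNc]
  obtain ⟨c, hc⟩ : ∃ c, (Nat.card H).factorization p = d + c := ⟨_, (Nat.add_sub_cancel' hda).symm⟩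
  rw [hc, Nat.add_sub_cancel_left]
  push_cast
  rw [pow_add]
  field_simp

end Cfsg.Agent.Helper75
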