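import Cfsg.Agent.Helper75.Contrib2

/-!
# Idempotency of the contribution matrix (helper75)

For a `p`-element `z`, `C = C_G(z)`, a block `e` of `C` inducing `B`, and
`contrib C z e p d χ ψ = p^d |C|⁻¹ Σ_{s p-regular} F_χ(s) conj F_ψ(s)`:

* `sum_blockPart_mul_kernel`: `Σ_c (ϑ_e)(c) K_e(t, c) = |H| ϑ_e(t)`.
* `pregInner_row`: `Σ_{ψ ∈ B} |⟨F_χ, F_ψ⟩'|² = |C| ⟨F_χ, F_χ⟩'`.
* `contrib_row`: `Σ_{ψ ∈ B} |contrib χ ψ|² = p^d contrib χ χ`.
* `contrib_trace`: `Σ_{χ ∈ B} contrib χ χ = p^d l(e)`.
-/

set_option autoImplicit false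
open Cfsg
open scoped ComplexConjugate

namespace Cfsg.Agent.Helper75

universe u

theorem sum_blockPart_mul_kernel {H : Type u} [Group H] [Fintype H]
    (e : Set (Cfsg.IrrCharacter H)) (ϑ : H → ℂ) (t : H) :
    ∑ c : H, Cfsg.blockPart e ϑ c * blockKernel e t c
      = (Nat.card H : ℂ) * Cfsg.blockPart e ϑ t := by
  have hcard : (Nat.card H : ℂ) ≠ 0 := by
    have : 0 < Nat.card H := Nat.card_pos
    exact_mod_cast this.ne'
  have h1 : ∀ c : H, Cfsg.blockPart e ϑ c * blockKernel e t c
      = (Nat.card H : ℂ)⁻¹ * ∑ x : H, ϑ x * (blockKernel e c x * blockKernel e t c) := by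
    intro c
    rw [blockPart_eq_kernel, mul_assoc, Finset.sum_mul]
    congr 1
    refine Finset.sum_congr rfl fun x _ => ?_
    ring
  rw [Finset.sum_congr rfl (fun c _ => h1 c), ← Finset.mul_sum, Finset.sum_comm]
  have h2 : ∀ x : H, ∑ c : H, ϑ x * (blockKernel e c x * blockKernel e t c)
      = (Nat.card H : ℂ) * (ϑ x * blockKernel e t x) := by
    intro x
    rw [← Finset.mul_sum, sum_blockKernel_mul]
    ring
  rw [Finset.sum_congr rfl (fun x _ => h2 x), ← Finset.mul_sum, blockPart_eq_kernel]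
  field_simp

variable {G : Type u} [Group G] [Fintype G]

/-- Row sums of the squared contribution matrix. -/
theorem pregInner_row {p : ℕ} [Fact p.Prime] {M : Ideal Cfsg.AlgInt}
    (hM : Cfsg.IsPModular p M) (z : G) (hz : ∃ k : ℕ, orderOf z = p ^ k)
    [Fintype (Subgroup.centralizer ({z} : Set G))]
    (B : Set (Cfsg.IrrCharacter G))
    (e : Set (Cfsg.IrrCharacter (Subgroup.centralizer ({z} : Set G))))
    (hind : Cfsg.IsInducedBlock M (Subgroup.centralizer ({z} : Set G)) e B)
    (BF : Finset (Cfsg.IrrCharacter G)) (hBF : ∀ χ, χ ∈ BF ↔ χ ∈ B) (χ : Cfsg.IrrCharacter G) :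
    ∑ ψ ∈ BF,
        Helper77.pregInner p
          (Cfsg.blockPart e (fun c : Subgroup.centralizer ({z} : Set G) => (χ : G → ℂ) (z * c)))
          (Cfsg.blockPart e (fun c : Subgroup.centralizer ({z} : Set G) => (ψ : G → ℂ) (z * c)))
        * conj (Helper77.pregInner p
          (Cfsg.blockPart e (fun c : Subgroup.centralizer ({z} : Set G) => (χ : G → ℂ) (z * c)))
          (Cfsg.blockPart e (fun c : Subgroup.centralizer ({z} : Set G) => (ψ : G → ℂ) (z * c))))
      = (Nat.card (Subgroup.centralizer ({z} : Set G)) : ℂ) *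
        Helper77.pregInner p
          (Cfsg.blockPart e (fun c : Subgroup.centralizer ({z} : Set G) => (χ : G → ℂ) (z * c)))
          (Cfsg.blockPart e
            (fun c : Subgroup.centralizer ({z} : Set G) => (χ : G → ℂ) (z * c))) := by
  classical
  have he := hind.1
  obtain ⟨F, hF⟩ : ∃ F : Cfsg.IrrCharacter G → Subgroup.centralizer ({z} : Set G) → ℂ,
      ∀ χ, F χ = Cfsg.blockPart e
        (fun c : Subgroup.centralizer ({z} : Set G) => (χ : G → ℂ) (z * c)) := ⟨_, fun _ => rfl⟩
  simp only [← hF]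
  have hBFeq : BF = (Set.toFinite B).toFinset := by
    ext χ
    rw [hBF, Set.Finite.mem_toFinset]
  have hsec : ∀ s s' : Subgroup.centralizer ({z} : Set G), ¬ p ∣ orderOf s → ¬ p ∣ orderOf s' →
      ∑ χ ∈ BF, F χ s * conj (F χ s') = blockKernel e s s' := by
    intro s s' hs hs'
    have h1 := sum_mem_blockPart_section_two hM z hz B e hind s s' hs hs'
    rw [finsum_mem_eq_finite_toFinset_sum _ (Set.toFinite B), ← hBFeq] at h1
    simpa only [hF] using h1
  have hexp : ∀ ψ : Cfsg.IrrCharacter G,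
      Helper77.pregInner p (F χ) (F ψ) * conj (Helper77.pregInner p (F χ) (F ψ))
        = ∑ s : Subgroup.centralizer ({z} : Set G), ∑ s' : Subgroup.centralizer ({z} : Set G),
            if ¬ p ∣ orderOf s ∧ ¬ p ∣ orderOf s' then
              (F χ s * conj (F χ s')) * (F ψ s' * conj (F ψ s)) else 0 := by
    intro ψ
    unfold Helper77.pregInner
    rw [map_sum, Finset.sum_mul_sum]
    refine Finset.sum_congr rfl fun s _ => Finset.sum_congr rfl fun s' _ => ?_
    by_cases hs : p ∣ orderOf s
    · simp [hs]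
    · by_cases hs' : p ∣ orderOf s'
      · simp [hs']
      · simp only [hs, hs', not_false_eq_true, if_true, and_self, map_mul, Complex.conj_conj]
        ring
  simp only [hexp]
  have hswap : ∑ ψ ∈ BF, ∑ s : Subgroup.centralizer ({z} : Set G),
        ∑ s' : Subgroup.centralizer ({z} : Set G),
          (if ¬ p ∣ orderOf s ∧ ¬ p ∣ orderOf s' then
            (F χ s * conj (F χ s')) * (F ψ s' * conj (F ψ s)) else 0)
      = ∑ s : Subgroup.centralizer ({z} : Set G), ∑ s' : Subgroup.centralizer ({z} : Set G),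
          if ¬ p ∣ orderOf s ∧ ¬ p ∣ orderOf s' then
            (F χ s * conj (F χ s')) * blockKernel e s' s else 0 := by
    calc ∑ ψ ∈ BF, ∑ s : Subgroup.centralizer ({z} : Set G),
        ∑ s' : Subgroup.centralizer ({z} : Set G),
          (if ¬ p ∣ orderOf s ∧ ¬ p ∣ orderOf s' then
            (F χ s * conj (F χ s')) * (F ψ s' * conj (F ψ s)) else 0)
        = ∑ s : Subgroup.centralizer ({z} : Set G), ∑ ψ ∈ BF,
            ∑ s' : Subgroup.centralizer ({z} : Set G),
              (if ¬ p ∣ orderOf s ∧ ¬ p ∣ orderOf s' then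
                (F χ s * conj (F χ s')) * (F ψ s' * conj (F ψ s)) else 0) := Finset.sum_comm
      _ = ∑ s : Subgroup.centralizer ({z} : Set G), ∑ s' : Subgroup.centralizer ({z} : Set G),
            ∑ ψ ∈ BF,
              (if ¬ p ∣ orderOf s ∧ ¬ p ∣ orderOf s' then
                (F χ s * conj (F χ s')) * (F ψ s' * conj (F ψ s)) else 0) :=
          Finset.sum_congr rfl fun s _ => Finset.sum_comm
      _ = _ := by
          refine Finset.sum_congr rfl fun s _ => Finset.sum_congr rfl fun s' _ => ?_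
          by_cases h : ¬ p ∣ orderOf s ∧ ¬ p ∣ orderOf s'
          · simp only [if_pos h]
            rw [← Finset.mul_sum, hsec s' s h.2 h.1]
          · simp only [if_neg h]
            simp
  rw [hswap]
  have hinner : ∀ s : Subgroup.centralizer ({z} : Set G),
      ∑ s' : Subgroup.centralizer ({z} : Set G),
        (if ¬ p ∣ orderOf s ∧ ¬ p ∣ orderOf s' then
          (F χ s * conj (F χ s')) * blockKernel e s' s else 0)
      = if ¬ p ∣ orderOf s then
          (Nat.card (Subgroup.centralizer ({z} : Set G)) : ℂ) * (F χ s * conj (F χ s)) else 0 := by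
    intro s
    by_cases hs : p ∣ orderOf s
    · simp [hs]
    · rw [if_pos hs]
      have h1 := sum_blockPart_mul_kernel e
        (fun c : Subgroup.centralizer ({z} : Set G) => (χ : G → ℂ) (z * c)) s
      rw [← hF] at h1
      have h2 : ∑ s' : Subgroup.centralizer ({z} : Set G),
          (if ¬ p ∣ orderOf s ∧ ¬ p ∣ orderOf s' then
            (F χ s * conj (F χ s')) * blockKernel e s' s else 0)
          = F χ s * conj (∑ s' : Subgroup.centralizer ({z} : Set G),
              F χ s' * blockKernel e s s') := by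
        rw [map_sum, Finset.mul_sum]
        refine Finset.sum_congr rfl fun s' _ => ?_
        by_cases hs' : p ∣ orderOf s'
        · rw [if_neg (fun h => h.2 hs'), blockKernel_eq_zero hM he hs hs']
          simp
        · rw [if_pos ⟨hs, hs'⟩, map_mul, blockKernel_conj]
          ring
      rw [h2, h1, map_mul, Complex.conj_natCast]
      ring
  rw [Finset.sum_congr rfl (fun s _ => hinner s)]
  unfold Helper77.pregInner
  rw [Finset.mul_sum]
  refine Finset.sum_congr rfl fun s _ => ?_
  by_cases hs : p ∣ orderOf s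
  · simp [hs]
  · simp [hs]

/-- Row identity of the contribution matrix: `Σ_{ψ ∈ B} |a_χψ|² = p^d a_χχ`. -/
theorem contrib_row {p : ℕ} [Fact p.Prime] {M : Ideal Cfsg.AlgInt}
    (hM : Cfsg.IsPModular p M) (z : G) (hz : ∃ k : ℕ, orderOf z = p ^ k)
    [Fintype (Subgroup.centralizer ({z} : Set G))]
    (B : Set (Cfsg.IrrCharacter G))
    (e : Set (Cfsg.IrrCharacter (Subgroup.centralizer ({z} : Set G))))
    (hind : Cfsg.IsInducedBlock M (Subgroup.centralizer ({z} : Set G)) e B)
    (BF : Finset (Cfsg.IrrCharacter G)) (hBF : ∀ χ, χ ∈ BF ↔ χ ∈ B) (d : ℕ)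
    (χ : Cfsg.IrrCharacter G) :
    ∑ ψ ∈ BF, contrib (Subgroup.centralizer ({z} : Set G)) z e p d (χ : G → ℂ) (ψ : G → ℂ)
        * conj (contrib (Subgroup.centralizer ({z} : Set G)) z e p d (χ : G → ℂ) (ψ : G → ℂ))
      = (p : ℂ) ^ d
        * contrib (Subgroup.centralizer ({z} : Set G)) z e p d (χ : G → ℂ) (χ : G → ℂ) := by
  have hcard : (Nat.card (Subgroup.centralizer ({z} : Set G)) : ℂ) ≠ 0 := by
    have : 0 < Nat.card (Subgroup.centralizer ({z} : Set G)) := Nat.card_pos
    exact_mod_cast this.ne'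
  have hrow := pregInner_row hM z hz B e hind BF hBF χ
  unfold contrib
  have hterm : ∀ ψ : Cfsg.IrrCharacter G,
      (p : ℂ) ^ d / (Nat.card (Subgroup.centralizer ({z} : Set G)) : ℂ) * Helper77.pregInner p
          (Cfsg.blockPart e (fun c : Subgroup.centralizer ({z} : Set G) => (χ : G → ℂ) (z * c)))
          (Cfsg.blockPart e (fun c : Subgroup.centralizer ({z} : Set G) => (ψ : G → ℂ) (z * c)))
        * conj ((p : ℂ) ^ d / (Nat.card (Subgroup.centralizer ({z} : Set G)) : ℂ)
          * Helper77.pregInner p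
          (Cfsg.blockPart e (fun c : Subgroup.centralizer ({z} : Set G) => (χ : G → ℂ) (z * c)))
          (Cfsg.blockPart e (fun c : Subgroup.centralizer ({z} : Set G) => (ψ : G → ℂ) (z * c))))
      = ((p : ℂ) ^ d / (Nat.card (Subgroup.centralizer ({z} : Set G)) : ℂ)) ^ 2 *
        (Helper77.pregInner p
          (Cfsg.blockPart e (fun c : Subgroup.centralizer ({z} : Set G) => (χ : G → ℂ) (z * c)))
          (Cfsg.blockPart e (fun c : Subgroup.centralizer ({z} : Set G) => (ψ : G → ℂ) (z * c)))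
        * conj (Helper77.pregInner p
          (Cfsg.blockPart e (fun c : Subgroup.centralizer ({z} : Set G) => (χ : G → ℂ) (z * c)))
          (Cfsg.blockPart e
            (fun c : Subgroup.centralizer ({z} : Set G) => (ψ : G → ℂ) (z * c))))) := by
    intro ψ
    rw [map_mul, map_div₀, map_pow, Complex.conj_natCast, Complex.conj_natCast]
    ring
  rw [Finset.sum_congr rfl (fun ψ _ => hterm ψ), ← Finset.mul_sum, hrow]
  field_simp

/-- Trace of the contribution matrix: `Σ_{χ ∈ B} a_χχ = p^d l(e)`. -/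
theorem contrib_trace {p : ℕ} [Fact p.Prime] {M : Ideal Cfsg.AlgInt}
    (hM : Cfsg.IsPModular p M) (z : G) (hz : ∃ k : ℕ, orderOf z = p ^ k)
    [Fintype (Subgroup.centralizer ({z} : Set G))]
    (B : Set (Cfsg.IrrCharacter G))
    (e : Set (Cfsg.IrrCharacter (Subgroup.centralizer ({z} : Set G))))
    (hind : Cfsg.IsInducedBlock M (Subgroup.centralizer ({z} : Set G)) e B)
    (BF : Finset (Cfsg.IrrCharacter G)) (hBF : ∀ χ, χ ∈ BF ↔ χ ∈ B) (d : ℕ) :
    ∑ χ ∈ BF, contrib (Subgroup.centralizer ({z} : Set G)) z e p d (χ : G → ℂ) (χ : G → ℂ)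
      = (p : ℂ) ^ d * (Cfsg.blockRank p e : ℂ) := by
  have hcard : (Nat.card (Subgroup.centralizer ({z} : Set G)) : ℂ) ≠ 0 := by
    have : 0 < Nat.card (Subgroup.centralizer ({z} : Set G)) := Nat.card_pos
    exact_mod_cast this.ne'
  have htr := contrib_trace_sq hM z hz B e hind BF hBF
  rw [Finset.sum_congr rfl (fun χ _ => pregInner_row hM z hz B e hind BF hBF χ),
    ← Finset.mul_sum] at htr
  have h1 : ∑ χ ∈ BF, Helper77.pregInner p
        (Cfsg.blockPart e (fun c : Subgroup.centralizer ({z} : Set G) => (χ : G → ℂ) (z * c)))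
        (Cfsg.blockPart e (fun c : Subgroup.centralizer ({z} : Set G) => (χ : G → ℂ) (z * c)))
      = (Nat.card (Subgroup.centralizer ({z} : Set G)) : ℂ) * (Cfsg.blockRank p e : ℂ) := by
    apply mul_left_cancel₀ hcard
    rw [htr]
    ring
  unfold contrib
  rw [← Finset.mul_sum, h1]
  field_simp

end Cfsg.Agent.Helper75
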