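import Cfsg.Agent.Helper77.D1Defs2
import Cfsg.Agent.Helper16.BlockPart
import Cfsg.Agent.Helper15.CharScalar
import Cfsg.Agent.Helper79.Codegree
import Cfsg.Agent.Helper79.Linear
import Cfsg.Agent.Helper3.Induced
import Cfsg.Agent.Helper77.LocalRing

/-!
# Blocks of defect one: block identification through the second main theorem (helper75)

Piece CA of CALL S4442B: `d1_cc : D1CCStmt G p`.
-/

set_option autoImplicit false
open Cfsg Cfsg.Agent.Helper77
open scoped ComplexConjugate

namespace Cfsg.Agent.Helper75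

universe u

/-- A central element of finite order acts by a root of unity in an irreducible character. -/
theorem d1ca_central {C : Type*} [Group C] (ψ : IrrCharacter C) {z : C}
    (hz : ∀ c : C, z * c = c * z) {n : ℕ} (hn : z ^ n = 1) :
    ∃ lam : ℂ, lam ^ n = 1 ∧ ∀ c : C, (ψ : C → ℂ) (z * c) = lam * (ψ : C → ℂ) c := by
  obtain ⟨m, ρ, hirr, hψ⟩ := ψ.2
  have := hirr
  have hzc : z ∈ Subgroup.center C := Subgroup.mem_center_iff.mpr (fun c => (hz c).symm)
  obtain ⟨c, hc⟩ := Helper15.rep_central_scalar ρ hzc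
  have hpos := Cfsg.Agent.Helper80.rep_finrank_pos ρ
  have hcn : c ^ n = 1 := by
    have h1 : (ρ z) ^ n = 1 := by rw [← map_pow, hn, map_one]
    rw [hc, smul_pow, one_pow] at h1
    have h3 := congrArg (LinearMap.trace ℂ (Fin m → ℂ)) h1
    rw [map_smul, LinearMap.trace_one, smul_eq_mul] at h3
    have h4 : (Module.finrank ℂ (Fin m → ℂ) : ℂ) ≠ 0 := by exact_mod_cast hpos.ne'
    have h5 : (c ^ n - 1) * (Module.finrank ℂ (Fin m → ℂ) : ℂ) = 0 := by
      rw [sub_mul, h3, one_mul, sub_self]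
    rcases mul_eq_zero.mp h5 with h6 | h6
    · exact sub_eq_zero.mp h6
    · exact absurd h6 h4
  refine ⟨c, hcn, fun g => ?_⟩
  rw [← hψ]; exact Helper15.char_mul_of_rep_scalar ρ hc g

/-- If every element is a central element times an element of the image of `ι`, restriction
along `ι` preserves irreducibility. -/
theorem d1ca_res_irr {C K : Type*} [Group C] [Group K] (ι : K →* C)
    (hgen : ∀ c : C, ∃ z : C, (∀ d : C, z * d = d * z) ∧ ∃ k : K, c = z * ι k)
    {ψ : C → ℂ} (h : IsIrrCharacter C ψ) : IsIrrCharacter K (fun k => ψ (ι k)) := by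
  obtain ⟨n, ρ, hρ, rfl⟩ := h
  have _i : ρ.IsIrreducible := hρ
  refine ⟨n, ρ.comp ι, ?_, rfl⟩
  rw [Helper79.isIrreducible_iff] at hρ ⊢
  refine ⟨hρ.1, fun S hS => hρ.2 S ?_⟩
  intro g v hv
  obtain ⟨z, hz, k, rfl⟩ := hgen g
  have hcomm : ∀ g : C, ρ z * ρ g = ρ g * ρ z := by
    intro g
    rw [← map_mul, ← map_mul, hz g]
  obtain ⟨ω, hω⟩ := Helper80.schur_scalar ρ (ρ z) hcomm
  rw [map_mul, hω]
  show ω • (ρ (ι k) v) ∈ S
  exact S.smul_mem ω (hS k v hv)

/-- Projection of a sum of irreducible characters of `C` onto `θ` along `ι`. -/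
theorem d1ca_proj {C K : Type u} [Group C] [Group K] [Fintype C] [Fintype K]
    (ι : K →* C) (res : IrrCharacter C → IrrCharacter K)
    (hres : ∀ (ψ : IrrCharacter C) (k : K), (res ψ : K → ℂ) k = (ψ : C → ℂ) (ι k))
    (θ : IrrCharacter K) (a : IrrCharacter C → ℂ) (b : Set (IrrCharacter C)) :
    (Nat.card K : ℂ)⁻¹ * ∑ k : K, (∑ᶠ ψ ∈ b, a ψ * (ψ : C → ℂ) (ι k)) * conj ((θ : K → ℂ) k)
      = ∑ᶠ ψ ∈ b ∩ {ψ | res ψ = θ}, a ψ := by
  classical
  have := Fintype.ofFinite (IrrCharacter C)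
  have horth : ∀ ψ : IrrCharacter C,
      (Nat.card K : ℂ)⁻¹ * ∑ k : K, (ψ : C → ℂ) (ι k) * conj ((θ : K → ℂ) k)
        = if res ψ = θ then 1 else 0 := by
    intro ψ
    have h1 := Helper81.irr_orthonormal (res ψ) θ
    rw [← h1]
    congr 1
    refine Finset.sum_congr rfl fun k _ => ?_
    rw [hres, Helper77.irr_inv]
  rw [finsum_mem_def, finsum_eq_sum_of_fintype]
  have e1 : ∀ k : K, (∑ᶠ ψ ∈ b, a ψ * (ψ : C → ℂ) (ι k))
      = ∑ ψ : IrrCharacter C, if ψ ∈ b then a ψ * (ψ : C → ℂ) (ι k) else 0 := by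
    intro k
    rw [finsum_mem_def, finsum_eq_sum_of_fintype]
    refine Finset.sum_congr rfl fun ψ _ => ?_
    rw [Set.indicator_apply]
  simp only [e1, Finset.sum_mul, Finset.mul_sum]
  rw [Finset.sum_comm]
  refine Finset.sum_congr rfl fun ψ _ => ?_
  rw [Set.indicator_apply]
  by_cases hψ : ψ ∈ b
  · simp only [if_pos hψ]
    have h2 : ∑ k : K, (Nat.card K : ℂ)⁻¹ * (a ψ * (ψ : C → ℂ) (ι k) * conj ((θ : K → ℂ) k))
        = a ψ * ((Nat.card K : ℂ)⁻¹ * ∑ k : K, (ψ : C → ℂ) (ι k) * conj ((θ : K → ℂ) k)) := by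
      rw [Finset.mul_sum, Finset.mul_sum]
      refine Finset.sum_congr rfl fun k _ => ?_
      ring
    rw [h2, horth ψ]
    by_cases hθ : res ψ = θ
    · rw [if_pos hθ, if_pos ⟨hψ, hθ⟩, mul_one]
    · rw [if_neg hθ, if_neg (fun hh => hθ hh.2), mul_zero]
  · simp only [if_neg hψ, zero_mul, mul_zero, Finset.sum_const_zero]
    rw [if_neg (fun hh => hψ hh.1)]

variable {G : Type u} [Group G] [Finite G]

theorem d1_cc (p : ℕ) [Fact p.Prime] : D1CCStmt G p := by
  classical
  intro M x K hM h θ χ hχ g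
  have hp : p.Prime := Fact.out
  have hMm := hM.2.1
  let _ : Fintype G := Fintype.ofFinite G
  let _ : Fintype K := Fintype.ofFinite K
  let _ : Fintype (Subgroup.centralizer ({x} : Set G)) := Fintype.ofFinite _
  have hmemC : ∀ c : G, c ∈ Subgroup.centralizer ({x} : Set G) ↔ c * x = x * c := by
    intro c
    rw [Subgroup.mem_centralizer_iff]
    constructor
    · intro hc; exact (hc x rfl).symm
    · intro hc s hs; rw [Set.mem_singleton_iff] at hs; rw [hs]; exact hc.symm
  have hxC : x ∈ Subgroup.centralizer ({x} : Set G) := (hmemC x).mpr rfl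
  have hKC : K ≤ Subgroup.centralizer ({x} : Set G) := by
    intro k hk
    exact (hmemC k).mpr ((h.hC k).mpr ⟨0, k, hk, by simp⟩)
  have hxp : x ^ p = 1 := by rw [← h.hx]; exact pow_orderOf_eq_one x
  -- the inclusion of `K` and the central element
  obtain ⟨ι, hι⟩ : ∃ ι : K →* Subgroup.centralizer ({x} : Set G),
      ∀ k : K, ((ι k : Subgroup.centralizer ({x} : Set G)) : G) = (k : G) :=
    ⟨Subgroup.inclusion hKC, fun k => rfl⟩
  obtain ⟨xC, hxCv⟩ : ∃ xC : Subgroup.centralizer ({x} : Set G), (xC : G) = x := ⟨⟨x, hxC⟩, rfl⟩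
  have hxcent : ∀ d : Subgroup.centralizer ({x} : Set G), xC * d = d * xC := by
    intro d
    apply Subtype.ext
    rw [Subgroup.coe_mul, Subgroup.coe_mul, hxCv]
    exact ((hmemC d).mp d.2).symm
  have hxCp : xC ^ p = 1 := by
    apply Subtype.ext
    rw [Subgroup.coe_pow, hxCv, hxp]; rfl
  have hdecomp : ∀ c : Subgroup.centralizer ({x} : Set G), ∃ i : ℕ, ∃ k : K, c = xC ^ i * ι k := by
    intro c
    obtain ⟨i, k, hk, hck⟩ := (h.hC c).mp ((hmemC c).mp c.2)
    refine ⟨i, ⟨k, hk⟩, ?_⟩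
    apply Subtype.ext
    rw [Subgroup.coe_mul, Subgroup.coe_pow, hxCv, hι]
    exact hck
  have hpowcent : ∀ (i : ℕ) (d : Subgroup.centralizer ({x} : Set G)), xC ^ i * d = d * xC ^ i := by
    intro i d
    exact (Commute.pow_left (show Commute xC d from hxcent d) i)
  have hgen : ∀ c : Subgroup.centralizer ({x} : Set G),
      ∃ z : Subgroup.centralizer ({x} : Set G), (∀ d, z * d = d * z) ∧ ∃ k : K, c = z * ι k := by
    intro c
    obtain ⟨i, k, hck⟩ := hdecomp c
    exact ⟨xC ^ i, hpowcent i, k, hck⟩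
  -- restriction to `K`
  obtain ⟨res, hres⟩ : ∃ res : IrrCharacter (Subgroup.centralizer ({x} : Set G)) → IrrCharacter K,
      ∀ (ψ : IrrCharacter (Subgroup.centralizer ({x} : Set G))) (k : K),
        (res ψ : K → ℂ) k = (ψ : Subgroup.centralizer ({x} : Set G) → ℂ) (ι k) :=
    ⟨fun ψ => ⟨fun k => (ψ : Subgroup.centralizer ({x} : Set G) → ℂ) (ι k),
      d1ca_res_irr ι hgen ψ.2⟩, fun ψ k => rfl⟩
  -- the scalars
  have hlam : ∀ ψ : IrrCharacter (Subgroup.centralizer ({x} : Set G)), ∃ lam : ℂ, lam ^ p = 1 ∧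
      ∀ (i : ℕ) (c : Subgroup.centralizer ({x} : Set G)),
        (ψ : Subgroup.centralizer ({x} : Set G) → ℂ) (xC ^ i * c)
          = lam ^ i * (ψ : Subgroup.centralizer ({x} : Set G) → ℂ) c := by
    intro ψ
    obtain ⟨lam, hl1, hl2⟩ := d1ca_central ψ hxcent hxCp
    refine ⟨lam, hl1, fun i => ?_⟩
    induction i with
    | zero => intro c; simp
    | succ i ih =>
      intro c
      rw [pow_succ', mul_assoc, hl2, ih, pow_succ']
      ring
  have hι1 : ι 1 = 1 := map_one ι
  have hval : ∀ ψ : IrrCharacter (Subgroup.centralizer ({x} : Set G)), res ψ = θ →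
      ∀ lam : ℂ, (∀ (i : ℕ) (c : Subgroup.centralizer ({x} : Set G)),
        (ψ : Subgroup.centralizer ({x} : Set G) → ℂ) (xC ^ i * c)
          = lam ^ i * (ψ : Subgroup.centralizer ({x} : Set G) → ℂ) c) →
      ((ψ : Subgroup.centralizer ({x} : Set G) → ℂ) 1 = (θ : K → ℂ) 1) ∧
      ∀ (i : ℕ) (k : K), (ψ : Subgroup.centralizer ({x} : Set G) → ℂ) (xC ^ i * ι k)
        = lam ^ i * (θ : K → ℂ) k := by
    intro ψ hψ lam hl
    constructor
    · rw [← hψ, hres, hι1]
    · intro i k
      rw [hl, ← hres, hψ]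
  -- the class function
  have hχcl : IsClassFunction G (χ : G → ℂ) :=
    Helper79.isCharacter_isClassFunction (Helper79.irr_isCharacter χ)
  have hϑcl : IsClassFunction (Subgroup.centralizer ({x} : Set G))
      (fun c : Subgroup.centralizer ({x} : Set G) => (χ : G → ℂ) (x * (c : G))) := by
    intro c d
    show (χ : G → ℂ) (x * ((d * c * d⁻¹ : Subgroup.centralizer ({x} : Set G)) : G))
      = (χ : G → ℂ) (x * (c : G))
    have hd : (d : G) * x = x * (d : G) := (hmemC d).mp d.2
    have e1 : x * ((d * c * d⁻¹ : Subgroup.centralizer ({x} : Set G)) : G)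
        = (d : G) * (x * (c : G)) * (d : G)⁻¹ := by
      rw [Subgroup.coe_mul, Subgroup.coe_mul, Subgroup.coe_inv]
      calc x * ((d : G) * (c : G) * (d : G)⁻¹) = (x * (d : G)) * (c : G) * (d : G)⁻¹ := by group
        _ = ((d : G) * x) * (c : G) * (d : G)⁻¹ := by rw [hd]
        _ = (d : G) * (x * (c : G)) * (d : G)⁻¹ := by group
    rw [e1]
    exact hχcl _ _
  -- `dco` as a sum over the characters of the centralizer above `θ`
  have hdco : dco K (θ : K → ℂ) (χ : G → ℂ) x
      = ∑ᶠ ψ ∈ {ψ : IrrCharacter (Subgroup.centralizer ({x} : Set G)) | res ψ = θ},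
          classInner (fun c : Subgroup.centralizer ({x} : Set G) => (χ : G → ℂ) (x * (c : G)))
            (ψ : Subgroup.centralizer ({x} : Set G) → ℂ) := by
    have := Fintype.ofFinite (IrrCharacter (Subgroup.centralizer ({x} : Set G)))
    have h1 := d1ca_proj ι res hres θ
      (fun ψ => classInner (fun c : Subgroup.centralizer ({x} : Set G) => (χ : G → ℂ) (x * (c : G)))
            (ψ : Subgroup.centralizer ({x} : Set G) → ℂ)) Set.univ
    rw [Set.univ_inter] at h1
    rw [← h1]
    unfold dco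
    rw [finsum_eq_sum_of_fintype]
    congr 1
    refine Finset.sum_congr rfl fun k _ => ?_
    congr 1
    have h2 := congrFun (Helper3.classFunction_eq_sum _ hϑcl) (ι k)
    rw [Finset.sum_apply] at h2
    simp only [Pi.smul_apply, smul_eq_mul] at h2
    rw [finsum_mem_univ, finsum_eq_sum_of_fintype, ← h2, hι]
  -- a character above `θ`
  have hex : ∃ ψ₀ : IrrCharacter (Subgroup.centralizer ({x} : Set G)), res ψ₀ = θ := by
    by_contra hne
    push Not at hne
    have hempty : {ψ : IrrCharacter (Subgroup.centralizer ({x} : Set G)) | res ψ = θ} = ∅ := by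
      ext ψ
      simp only [Set.mem_empty_iff_false, iff_false]
      exact hne ψ
    rw [hempty, finsum_mem_empty] at hdco
    exact hχ hdco
  obtain ⟨ψ₀, hψ₀⟩ := hex
  obtain ⟨lam₀, hl₀p, hl₀⟩ := hlam ψ₀
  obtain ⟨hv₀1, hv₀⟩ := hval ψ₀ hψ₀ lam₀ hl₀
  have hl₀ne : lam₀ ≠ 0 := by
    intro h0
    rw [h0, zero_pow hp.ne_zero] at hl₀p
    exact zero_ne_one hl₀p
  -- the characters above `θ` lie in one block
  have hsub : {ψ : IrrCharacter (Subgroup.centralizer ({x} : Set G)) | res ψ = θ}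
      ⊆ blockOf M (ψ₀ : Subgroup.centralizer ({x} : Set G) → ℂ) := by
    intro ψ hψ
    obtain ⟨lam, hlp, hl⟩ := hlam ψ
    obtain ⟨hv1, hv⟩ := hval ψ hψ lam hl
    intro c
    obtain ⟨i, k, rfl⟩ := hdecomp c
    have hz : ((lam * lam₀⁻¹) ^ i) ^ p ^ 1 = 1 := by
      rw [pow_one, ← pow_mul, mul_comm i p, pow_mul, mul_pow, inv_pow, hlp, hl₀p]
      simp
    have h1 := Helper77.memLocalIdeal_mul hMm
      (Helper16.centralChar_memLocalRing hMm ψ₀ (xC ^ i * ι k))
      (Helper77.memLocalIdeal_neg (Helper77.memLocalIdeal_root_sub_one hM hz))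
    have e : centralChar (ψ₀ : Subgroup.centralizer ({x} : Set G) → ℂ) (xC ^ i * ι k)
        - centralChar (ψ : Subgroup.centralizer ({x} : Set G) → ℂ) (xC ^ i * ι k)
        = centralChar (ψ₀ : Subgroup.centralizer ({x} : Set G) → ℂ) (xC ^ i * ι k)
          * -((lam * lam₀⁻¹) ^ i - 1) := by
      unfold centralChar
      rw [hv₀1, hv1, hv₀, hv, mul_pow, inv_pow]
      have : lam₀ ^ i ≠ 0 := pow_ne_zero i hl₀ne
      field_simp
      ring
    rw [e]
    exact h1
  -- the second main theorem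
  have hind : IsInducedBlock M (Subgroup.centralizer ({x} : Set G))
      (blockOf M (ψ₀ : Subgroup.centralizer ({x} : Set G) → ℂ)) (blockOf M (χ : G → ℂ)) := by
    by_contra hnot
    have key : ∀ k : K, ∑ᶠ ψ ∈ blockOf M (ψ₀ : Subgroup.centralizer ({x} : Set G) → ℂ),
        classInner (fun c : Subgroup.centralizer ({x} : Set G) => (χ : G → ℂ) (x * (c : G)))
            (ψ : Subgroup.centralizer ({x} : Set G) → ℂ)
          * (ψ : Subgroup.centralizer ({x} : Set G) → ℂ) (ι k) = 0 := by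
      intro k
      refine Helper16.finsum_classInner_centralizer_eq_zero hM x ⟨1, by rw [h.hx, pow_one]⟩
        ⟨χ, rfl⟩ χ (Helper16.sameBlock_refl hMm _) ⟨ψ₀, rfl⟩ hnot (ι k) ?_
      intro hdvd
      apply h.hK
      have h1 : orderOf (ι k) = orderOf (k : G) := by
        rw [← Subgroup.orderOf_coe, hι]
      rw [h1, Subgroup.orderOf_coe] at hdvd
      exact hdvd.trans (orderOf_dvd_natCard k)
    have h1 := d1ca_proj ι res hres θ
      (fun ψ => classInner (fun c : Subgroup.centralizer ({x} : Set G) => (χ : G → ℂ) (x * (c : G)))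
            (ψ : Subgroup.centralizer ({x} : Set G) → ℂ))
      (blockOf M (ψ₀ : Subgroup.centralizer ({x} : Set G) → ℂ))
    rw [Set.inter_eq_right.mpr hsub, ← hdco] at h1
    simp only [key, zero_mul, Finset.sum_const_zero, mul_zero] at h1
    exact hχ h1.symm
  have h1 := hind.2.2 ψ₀ (Helper16.sameBlock_refl hMm _) χ (Helper16.sameBlock_refl hMm _) g
  -- comparison of the induced central character with `omTheta`
  have h2 : MemLocalIdeal M
      (inducedCentralChar (Subgroup.centralizer ({x} : Set G))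
        (ψ₀ : Subgroup.centralizer ({x} : Set G) → ℂ) g - omTheta p x K (θ : K → ℂ) g) := by
    have hbij : Function.Bijective
        (fun c : Fin p × K => (xC ^ (c.1 : ℕ) * ι c.2 : Subgroup.centralizer ({x} : Set G))) := by
      constructor
      · rintro ⟨i, k⟩ ⟨j, k'⟩ hij
        have hG : x ^ (i : ℕ) * (k : G) = x ^ (j : ℕ) * (k' : G) := by
          have h3 := congrArg (Subtype.val) hij
          simp only [Subgroup.coe_mul, Subgroup.coe_pow, hxCv, hι] at h3
          exact h3
        have hw : (k' : G) * (k : G)⁻¹ = (x ^ (j : ℕ))⁻¹ * x ^ (i : ℕ) := by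
          have h3 : x ^ (i : ℕ) = x ^ (j : ℕ) * (k' : G) * (k : G)⁻¹ := by rw [← hG]; group
          rw [h3]; group
        have hwK : (k' : G) * (k : G)⁻¹ ∈ K := K.mul_mem k'.2 (K.inv_mem k.2)
        have hwp : ((k' : G) * (k : G)⁻¹) ^ p = 1 := by
          rw [hw]
          have hc : Commute ((x ^ (j : ℕ))⁻¹) (x ^ (i : ℕ)) :=
            ((Commute.refl x).pow_pow (j : ℕ) (i : ℕ)).inv_left
          rw [hc.mul_pow, inv_pow, ← pow_mul, ← pow_mul, mul_comm (j : ℕ) p, mul_comm (i : ℕ) p,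
            pow_mul, pow_mul, hxp]
          simp
        have hw1 : (k' : G) * (k : G)⁻¹ = 1 := by
          have ho : orderOf ((k' : G) * (k : G)⁻¹) ∣ p := orderOf_dvd_of_pow_eq_one hwp
          rcases (Nat.dvd_prime hp).mp ho with h3 | h3
          · exact orderOf_eq_one_iff.mp h3
          · exfalso
            apply h.hK
            rw [← h3]
            exact Subgroup.orderOf_dvd_natCard K hwK
        have hkk : (k' : G) = (k : G) := mul_inv_eq_one.mp hw1
        have hxx : x ^ (i : ℕ) = x ^ (j : ℕ) := by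
          rw [hkk] at hG
          exact mul_right_cancel hG
        have hij' : (i : ℕ) = (j : ℕ) :=
          pow_injOn_Iio_orderOf (by rw [Set.mem_Iio, h.hx]; exact i.2)
            (by rw [Set.mem_Iio, h.hx]; exact j.2) hxx
        exact Prod.ext (Fin.ext hij') (Subtype.ext hkk.symm)
      · intro c
        obtain ⟨i, k, rfl⟩ := hdecomp c
        refine ⟨(⟨i % p, Nat.mod_lt i hp.pos⟩, k), ?_⟩
        show xC ^ (i % p) * ι k = xC ^ i * ι k
        rw [← pow_eq_pow_mod i hxCp]
    have e1 : inducedCentralChar (Subgroup.centralizer ({x} : Set G))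
        (ψ₀ : Subgroup.centralizer ({x} : Set G) → ℂ) g
        = ∑ c : Fin p × K, if IsConj g (x ^ (c.1 : ℕ) * (c.2 : G))
            then lam₀ ^ (c.1 : ℕ) * ((θ : K → ℂ) c.2 / (θ : K → ℂ) 1) else 0 := by
      unfold inducedCentralChar
      rw [finsum_mem_def, finsum_eq_sum_of_fintype, ← Function.Bijective.sum_comp hbij]
      refine Finset.sum_congr rfl fun c _ => ?_
      rw [Set.indicator_apply]
      have hcoe : ((xC ^ (c.1 : ℕ) * ι c.2 : Subgroup.centralizer ({x} : Set G)) : G)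
          = x ^ (c.1 : ℕ) * (c.2 : G) := by
        rw [Subgroup.coe_mul, Subgroup.coe_pow, hxCv, hι]
      by_cases hc : IsConj g (x ^ (c.1 : ℕ) * (c.2 : G))
      · rw [if_pos hc, if_pos (show _ ∈ {h : Subgroup.centralizer ({x} : Set G) | IsConj g (h : G)}
          from (by rw [Set.mem_setOf_eq, hcoe]; exact hc)), hv₀, hv₀1]
        ring
      · rw [if_neg hc, if_neg (show ¬ _ ∈ {h : Subgroup.centralizer ({x} : Set G) | IsConj g (h : G)}
          from (by rw [Set.mem_setOf_eq, hcoe]; exact hc))]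
    have e2 : omTheta p x K (θ : K → ℂ) g
        = ∑ c : Fin p × K, if IsConj g (x ^ (c.1 : ℕ) * (c.2 : G))
            then (θ : K → ℂ) c.2 / (θ : K → ℂ) 1 else 0 := by
      unfold omTheta
      rw [finsum_mem_def, finsum_eq_sum_of_fintype]
      refine Finset.sum_congr rfl fun c _ => ?_
      rw [Set.indicator_apply]
      rfl
    rw [e1, e2, ← Finset.sum_sub_distrib]
    refine Helper77.memLocalIdeal_sum hMm _ _ fun c _ => ?_
    by_cases hc : IsConj g (x ^ (c.1 : ℕ) * (c.2 : G))
    · rw [if_pos hc, if_pos hc]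
      have e3 : lam₀ ^ (c.1 : ℕ) * ((θ : K → ℂ) c.2 / (θ : K → ℂ) 1)
          - (θ : K → ℂ) c.2 / (θ : K → ℂ) 1
          = (lam₀ ^ (c.1 : ℕ) - 1)
            * ((θ : K → ℂ) c.2 * ((charDegree (θ : K → ℂ) : ℕ) : ℂ)⁻¹) := by
        rw [Helper79.isCharacter_one_eq_charDegree (Helper79.irr_isCharacter θ)]
        ring
      rw [e3]
      apply Helper77.memLocalIdeal_mul' hMm
      · apply Helper77.memLocalIdeal_root_sub_one hM (n := 1)
        rw [pow_one, ← pow_mul, mul_comm, pow_mul, hl₀p, one_pow]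
      · apply Helper77.memLocalRing_mul hMm
        · exact Helper77.memLocalRing_of_isIntegral hMm
            (Helper80.isCharacter_isIntegral (Helper80.isCharacter_of_irr θ.2) c.2)
        · apply Helper77.memLocalRing_natCast_inv hM
          intro hdvd
          exact h.hK (hdvd.trans (Helper79.irr_charDegree_dvd_card θ))
    · rw [if_neg hc, if_neg hc, sub_zero]
      exact Helper77.memLocalIdeal_zero hMm
  have e : centralChar (χ : G → ℂ) g - omTheta p x K (θ : K → ℂ) g
      = (inducedCentralChar (Subgroup.centralizer ({x} : Set G))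
        (ψ₀ : Subgroup.centralizer ({x} : Set G) → ℂ) g - omTheta p x K (θ : K → ℂ) g)
        - (inducedCentralChar (Subgroup.centralizer ({x} : Set G))
        (ψ₀ : Subgroup.centralizer ({x} : Set G) → ℂ) g - centralChar (χ : G → ℂ) g) := by ring
  rw [e]
  exact Helper77.memLocalIdeal_sub hMm h2 h1

end Cfsg.Agent.Helper75
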