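import Mathlib
import Cfsg.Prelude.Def_GeometricClasses
import Cfsg.Prelude.Def_Classical
import Cfsg.Agent.Helper98.ELPDefs

set_option autoImplicit false

/-! Sub-CALL ELP (helper98): piece (helper75). -/

namespace Cfsg.Agent.Helper75.ELP

open Matrix Cfsg.Agent.Helper98.ELP
open scoped MatrixGroups

variable {n : Type} [Fintype n] [DecidableEq n] {F : Type*} [Field F]

/-- NONSC [S]: entry `(inl a, inr b)` of `siegM T` is `(T - Tᵀ) a b`, of `z • 1` is `0`. -/
theorem sieg_nonscalar (T : Matrix n n F) (h : T - Tᵀ ≠ 0) (z : F) :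
    ((sieg T : GL (n ⊕ n) F) : Matrix (n ⊕ n) (n ⊕ n) F) ≠ z • (1 : Matrix (n ⊕ n) (n ⊕ n) F) := by
  intro heq
  apply h
  ext a b
  have h1 : (siegM T) (Sum.inl a) (Sum.inr b) =
      (z • (1 : Matrix (n ⊕ n) (n ⊕ n) F)) (Sum.inl a) (Sum.inr b) := by
    rw [← sieg_coe, heq]
  rw [siegM, Matrix.fromBlocks_apply₁₂, Matrix.smul_apply, Matrix.one_apply_ne Sum.inl_ne_inr,
    smul_zero] at h1
  exact h1

end Cfsg.Agent.Helper75.ELP
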