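import Mathlib
import Cfsg.Prelude.Def_GeometricClasses
import Cfsg.Prelude.Def_Classical
import Cfsg.Agent.Helper98.ELPDefs

set_option autoImplicit false

/-! Sub-CALL ELP (helper98): piece (helper75). -/

namespace Cfsg.Agent.Helper75.ELP

open Matrix Cfsg.Agent.Helper98.ELP
open scoped MatrixGroups

variable {n : Type} [Fintype n] [DecidableEq n] {F : Type*} [Field F]

/-- SINGLE [M]: `A = 1 + single a b l` (inverse `1 - single a b l`, `a ≠ b`):
`A * single b c 1 * Aᵀ = single b c 1 + single a c l` for `b ≠ c`. -/
theorem single_conj (a b c : n) (hab : a ≠ b) (hbc : b ≠ c) (l : F) :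
    ∃ A : GL n F, (A : Matrix n n F) * Matrix.single b c (1 : F) * (A : Matrix n n F)ᵀ
      - Matrix.single b c (1 : F) = Matrix.single a c l := by
  have hE : Matrix.single a b l * Matrix.single a b (-l) = (0 : Matrix n n F) := by
    rw [Matrix.single_mul_single_of_ne (h := hab.symm)]
  have hE' : Matrix.single a b (-l) * Matrix.single a b l = (0 : Matrix n n F) := by
    rw [Matrix.single_mul_single_of_ne (h := hab.symm)]
  have hsum : Matrix.single a b l + Matrix.single a b (-l) = (0 : Matrix n n F) := by
    rw [← Matrix.single_add, add_neg_cancel, Matrix.single_zero]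
  have hsum' : Matrix.single a b (-l) + Matrix.single a b l = (0 : Matrix n n F) := by
    rw [← Matrix.single_add, neg_add_cancel, Matrix.single_zero]
  refine ⟨⟨1 + Matrix.single a b l, 1 + Matrix.single a b (-l), ?_, ?_⟩, ?_⟩
  · calc (1 + Matrix.single a b l) * (1 + Matrix.single a b (-l))
        = 1 + (Matrix.single a b l + Matrix.single a b (-l))
            + Matrix.single a b l * Matrix.single a b (-l) := by noncomm_ring
      _ = 1 := by rw [hsum, hE, add_zero, add_zero]
  · calc (1 + Matrix.single a b (-l)) * (1 + Matrix.single a b l)
        = 1 + (Matrix.single a b (-l) + Matrix.single a b l)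
            + Matrix.single a b (-l) * Matrix.single a b l := by noncomm_ring
      _ = 1 := by rw [hsum', hE', add_zero, add_zero]
  · show (1 + Matrix.single a b l) * Matrix.single b c (1 : F) * (1 + Matrix.single a b l)ᵀ
      - Matrix.single b c (1 : F) = Matrix.single a c l
    rw [Matrix.transpose_add, Matrix.transpose_one, Matrix.transpose_single]
    have h1 : Matrix.single a b l * Matrix.single b c (1 : F) = Matrix.single a c l := by
      rw [Matrix.single_mul_single_same, mul_one]
    have h2 : Matrix.single b c (1 : F) * Matrix.single b a l = (0 : Matrix n n F) := by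
      rw [Matrix.single_mul_single_of_ne (h := hbc.symm)]
    have h3 : Matrix.single a c l * Matrix.single b a l = (0 : Matrix n n F) := by
      rw [Matrix.single_mul_single_of_ne (h := hbc.symm)]
    rw [add_mul, one_mul, h1, mul_add, mul_one, add_mul, h2, h3, add_zero, add_zero,
      add_sub_cancel_left]

end Cfsg.Agent.Helper75.ELP
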