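import Mathlib

/-!
# CALL S4278 (helper18), piece PW: powers in a semidirect product `U ⋊ H` (helper75)
-/

set_option autoImplicit false

namespace Cfsg.Agent.Helper75.G2O

/-- PIECE PW (pure group theory): powers in a semidirect product `U ⋊ H`. -/
theorem g2o_pow_split {G : Type*} [Group G] (U H : Subgroup G) (hUH : U ⊓ H = ⊥)
    (hN : H ≤ Subgroup.normalizer (U : Set G)) {u z : G} (hu : u ∈ U) (hz : z ∈ H) (k : ℕ)
    (h : (u * z) ^ k = 1) : z ^ k = 1 := by
  have key : ∀ j : ℕ, ∃ u' ∈ U, (u * z) ^ j = u' * z ^ j := by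
    intro j
    induction j with
    | zero => exact ⟨1, U.one_mem, by simp⟩
    | succ j ih =>
      obtain ⟨u', hu', he⟩ := ih
      have hzj : z ^ j ∈ Subgroup.normalizer (U : Set G) := hN (H.pow_mem hz j)
      have hc : z ^ j * u * (z ^ j)⁻¹ ∈ U :=
        (Subgroup.mem_normalizer_iff.mp hzj u).mp hu
      refine ⟨u' * (z ^ j * u * (z ^ j)⁻¹), U.mul_mem hu' hc, ?_⟩
      rw [pow_succ, he, pow_succ]
      group
  obtain ⟨u', hu', he⟩ := key k
  rw [h] at he
  have hzk : z ^ k = u'⁻¹ := by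
    have h1 : u'⁻¹ * 1 = u'⁻¹ * (u' * z ^ k) := by rw [he]
    rw [mul_one, inv_mul_cancel_left] at h1
    exact h1.symm
  have hmem : z ^ k ∈ U ⊓ H := ⟨by rw [hzk]; exact U.inv_mem hu', H.pow_mem hz k⟩
  rw [hUH] at hmem
  exact Subgroup.mem_bot.mp hmem

end Cfsg.Agent.Helper75.G2O
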