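import Mathlib
import Cfsg.Agent.Helper10.O7920Defs

/-!
# CALL S2490 (helper10), piece CASE1: a normal Sylow 11-subgroup gives a connected prime graph
(helper75)
-/

set_option autoImplicit false

namespace Cfsg.Agent.Helper75.O7920CASE1

open Subgroup Cfsg.Agent.Helper10.O7920

theorem case1 {G : Type*} [Group G] [Finite G] (hG : Nat.card G = 7920) (hkey : KeyStmt G)
    (h1 : Nat.card (Sylow 11 G) = 1) : PConn G := by
  haveI : Fact (Nat.Prime 11) := ⟨by norm_num⟩
  haveI : Fact (Nat.Prime 2) := ⟨by norm_num⟩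
  haveI : Fact (Nat.Prime 3) := ⟨by norm_num⟩
  haveI : Fact (Nat.Prime 5) := ⟨by norm_num⟩
  obtain ⟨P⟩ : Nonempty (Sylow 11 G) := inferInstance
  have hP := sylow11_card hG P
  have hN := card_normalizer_mul_n11 hG P
  rw [h1, mul_one] at hN
  obtain ⟨e, he, hmul⟩ := card_normalizer_eq_mul P hP
  rw [hN] at hmul
  have hsub : Subsingleton (Sylow 11 G) := (Nat.card_eq_one_iff_unique.mp h1).1
  haveI hPn : (P : Subgroup G).Normal := Sylow.normal_of_subsingleton P
  have hCn : (centralizer ((P : Subgroup G) : Set G)).Normal := Subgroup.normal_centralizer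
  have he10 : e ∣ 10 := he
  have hele : e ≤ 10 := Nat.le_of_dvd (by norm_num) he10
  have h2 : 2 ∣ Nat.card (centralizer ((P : Subgroup G) : Set G)) := by
    interval_cases e <;> omega
  have h3 : 3 ∣ Nat.card (centralizer ((P : Subgroup G) : Set G)) := by
    interval_cases e <;> omega
  have e112 : PJ G 11 2 := pj_of_dvd_centralizer (p := 11) (r := 2) (by norm_num) P hP h2
  have e113 : PJ G 11 3 := pj_of_dvd_centralizer (p := 11) (r := 3) (by norm_num) P hP h3
  by_cases h5 : 5 ∣ Nat.card (centralizer ((P : Subgroup G) : Set G))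
  · have e115 : PJ G 11 5 := pj_of_dvd_centralizer (p := 11) (r := 5) (by norm_num) P hP h5
    exact pconn_of_edges (a := 11) (b := 2) (c := 3) (d := 5) (by intro x; omega) e112
      (Or.inl e113) (Or.inl e115)
  · have e35 : PJ G 3 5 := hkey (centralizer ((P : Subgroup G) : Set G)) hCn 3 5
      (Or.inr (Or.inl rfl)) (Or.inr (Or.inr (Or.inl rfl))) h3 h5
      (fun _ => ⟨by norm_num, fun h => absurd h (by norm_num)⟩)
    exact pconn_of_edges (a := 11) (b := 2) (c := 3) (d := 5) (by intro x; omega) e112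
      (Or.inl e113) (Or.inr (Or.inr e35))

end Cfsg.Agent.Helper75.O7920CASE1
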