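import Mathlib
import Cfsg.Prelude.Def_GeometricClasses
import Cfsg.Agent.Helper90.SFRDefs
import Cfsg.Agent.Helper51.SFRNECDIAG
import Cfsg.Agent.Helper75.SFRBADE2Core

/-!
# CALL S5965 (helper90), piece BADE2: `IsBad F₀ 2 r` when `r ∤ q₀ ± 1` (helper75)
-/

set_option autoImplicit false

namespace Cfsg.Agent.Helper75

open Module Polynomial Cfsg.Agent.Helper90.SFR

section top
variable {F : Type*} [Field F] [Fintype F]

/-! ## PIECE BADE2 -/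
theorem bad_two (F₀ : Subfield F) (q₀ : ℕ) (hF₀ : Nat.card ↥F₀ = q₀) (r : ℕ) [Fact r.Prime]
    (hr2 : r ≠ 2) (hr : r ∣ Fintype.card F - 1) (hr0 : ¬ r ∣ q₀ - 1) (hr1 : ¬ r ∣ q₀ + 1) :
    IsBad F₀ 2 r := by
  exact bad_two_core F₀ q₀ hF₀ r hr2 hr hr0 hr1
    (fun x d hx h => Cfsg.Agent.Helper51.conj_diag_nec F₀ q₀ hF₀ 2 x d hx h)

end top

end Cfsg.Agent.Helper75
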