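import Mathlib

set_option autoImplicit false

namespace Cfsg.Agent.Helper75

open Subgroup

universe u

variable {Γ : Type u} [Group Γ] [Finite Γ]

/-- PIECE AR of CALL SL2L. -/
theorem sl2l_arith {n p : ℕ} (hp : p.Prime) (hd : n ∣ p ^ 2 - 1)
    (h : ¬ ∃ s t : ℕ, s.Prime ∧ t.Prime ∧ s ∣ n ∧ t ∣ n ∧ s ∣ p - 1 ∧ t ∣ p + 1) :
    n ∣ p - 1 ∨ n ∣ p + 1 := by
  have hfac : p ^ 2 - 1 = (p - 1) * (p + 1) := by
    have h1 := hp.one_lt
    obtain ⟨m, rfl⟩ : ∃ m, p = m + 1 := ⟨p - 1, by omega⟩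
    simp only [Nat.add_sub_cancel]
    have h2 : (m + 1) ^ 2 = m * (m + 1 + 1) + 1 := by ring
    rw [h2, Nat.add_sub_cancel]
  rw [hfac] at hd
  by_cases h1 : Nat.Coprime n (p + 1)
  · left; exact h1.dvd_of_dvd_mul_right hd
  · by_cases h2 : Nat.Coprime n (p - 1)
    · right; exact h2.dvd_of_dvd_mul_left hd
    · exfalso
      obtain ⟨t, ht, htn, htp⟩ := Nat.Prime.not_coprime_iff_dvd.mp h1
      obtain ⟨s, hs, hsn, hsp⟩ := Nat.Prime.not_coprime_iff_dvd.mp h2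
      exact h ⟨s, t, hs, ht, hsn, htn, hsp, htp⟩

end Cfsg.Agent.Helper75
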