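import Mathlib

set_option autoImplicit false

namespace Cfsg.Agent.Helper75

open Subgroup

universe u

variable {Γ : Type u} [Group Γ] [Finite Γ]

/-- PIECE G7a of CALL SL2L. -/
theorem sl2l_reduce {p : ℕ} (hp : p.Prime) {Z : Subgroup Γ} {k d z₁ : Γ} {lam : ℕ}
    (hdp : d ^ p ∈ Z) (hz₁ : z₁ ∈ Z) (hZd : ∀ z ∈ Z, z * d = d * z)
    (hkZ : ∀ z ∈ Z, k * z = z * k) (hkd : k * d * k⁻¹ = d ^ lam * z₁)
    (hlam : p ∣ lam ^ 2 - 1) (hlam1 : 1 ≤ lam) :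
    ∃ z ∈ Z, (k * d * k⁻¹ = d * z ∨ k ^ 2 * d * (k ^ 2)⁻¹ = d * z) := by
  have hfac : lam ^ 2 - 1 = (lam - 1) * (lam + 1) := by
    obtain ⟨n, rfl⟩ : ∃ n, lam = n + 1 := ⟨lam - 1, by omega⟩
    simp only [Nat.add_sub_cancel]
    have h1 : (n + 1) ^ 2 = n * (n + 1 + 1) + 1 := by ring
    rw [h1, Nat.add_sub_cancel]
  rw [hfac] at hlam
  rcases (Nat.Prime.dvd_mul hp).mp hlam with h | h
  · obtain ⟨m, hm⟩ := h
    have hl : lam = 1 + p * m := by omega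
    refine ⟨(d ^ p) ^ m * z₁, Z.mul_mem (Z.pow_mem hdp m) hz₁, Or.inl ?_⟩
    rw [hkd, hl, pow_add, pow_one, pow_mul, mul_assoc]
  · obtain ⟨m, hm⟩ := h
    have hw : (d ^ p) ^ m * z₁ ∈ Z := Z.mul_mem (Z.pow_mem hdp m) hz₁
    have hdl : d ^ lam = (d ^ p) ^ m * d⁻¹ := by
      have h1 : d ^ lam * d = (d ^ p) ^ m := by rw [← pow_succ, hm, pow_mul]
      rw [← h1]; group
    have hkd' : k * d * k⁻¹ = d⁻¹ * ((d ^ p) ^ m * z₁) := by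
      rw [hkd, hdl]
      have hc : (d ^ p) ^ m * d⁻¹ = d⁻¹ * (d ^ p) ^ m := by
        have h2 := hZd _ (Z.pow_mem hdp m)
        calc (d ^ p) ^ m * d⁻¹ = d⁻¹ * (d * (d ^ p) ^ m) * d⁻¹ := by group
          _ = d⁻¹ * ((d ^ p) ^ m * d) * d⁻¹ := by rw [h2]
          _ = d⁻¹ * (d ^ p) ^ m := by group
      rw [hc, mul_assoc]
    obtain ⟨w, hwZ, hkdw⟩ : ∃ w ∈ Z, k * d * k⁻¹ = d⁻¹ * w := ⟨_, hw, hkd'⟩
    refine ⟨1, Z.one_mem, Or.inr ?_⟩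
    have e1 : k ^ 2 * d * (k ^ 2)⁻¹ = k * (k * d * k⁻¹) * k⁻¹ := by rw [pow_two]; group
    have e2 : k * (d⁻¹ * w) * k⁻¹ = (k * d * k⁻¹)⁻¹ * (k * w * k⁻¹) := by group
    have e3 : k * w * k⁻¹ = w := by rw [hkZ w hwZ]; group
    have e4 : w * d = d * w := hZd w hwZ
    rw [e1, hkdw, e2, hkdw, e3]
    calc (d⁻¹ * w)⁻¹ * w = w⁻¹ * (d * w) := by group
      _ = w⁻¹ * (w * d) := by rw [e4]
      _ = d * 1 := by group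

end Cfsg.Agent.Helper75
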