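import Mathlib

set_option autoImplicit false

namespace Cfsg.Agent.Helper75

open Subgroup

universe u

variable {Γ : Type u} [Group Γ] [Finite Γ]

/-- PIECE G7b of CALL SL2L. -/
theorem sl2l_central_shift {p : ℕ} (hp : p.Prime) {Z : Subgroup Γ} (hZc : Nat.card Z = p)
    {k₀ d z : Γ} (hz : z ∈ Z) (hk₀Z : ∀ z ∈ Z, k₀ * z = z * k₀)
    (hcop : (orderOf k₀).Coprime p) (h : k₀ * d * k₀⁻¹ = d * z) : k₀ * d = d * k₀ := by
  have hpow : ∀ j : ℕ, k₀ ^ j * d * (k₀ ^ j)⁻¹ = d * z ^ j := by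
    intro j
    induction j with
    | zero => simp
    | succ n ih =>
      have e1 : k₀ ^ (n + 1) * d * (k₀ ^ (n + 1))⁻¹ =
          k₀ * (k₀ ^ n * d * (k₀ ^ n)⁻¹) * k₀⁻¹ := by
        rw [pow_succ']; group
      have e2 : k₀ * (d * z ^ n) * k₀⁻¹ = (k₀ * d * k₀⁻¹) * (k₀ * z ^ n * k₀⁻¹) := by group
      have e3 : k₀ * z ^ n * k₀⁻¹ = z ^ n := by rw [hk₀Z _ (Z.pow_mem hz n)]; group
      rw [e1, ih, e2, h, e3, mul_assoc, ← pow_succ']
  have h1 := hpow (orderOf k₀)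
  rw [pow_orderOf_eq_one] at h1
  have hz1 : z ^ orderOf k₀ = 1 := by
    have h2 : d * z ^ orderOf k₀ = d * 1 := by rw [← h1]; group
    exact mul_left_cancel h2
  have ho1 : orderOf z ∣ orderOf k₀ := orderOf_dvd_of_pow_eq_one hz1
  have ho2 : orderOf z ∣ p := by
    have h3 := orderOf_dvd_natCard (⟨z, hz⟩ : Z)
    rwa [Subgroup.orderOf_mk, hZc] at h3
  have ho3 : orderOf z ∣ 1 := by
    have h4 := Nat.dvd_gcd ho1 ho2
    rwa [Nat.Coprime.gcd_eq_one hcop] at h4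
  have hz' : z = 1 := orderOf_eq_one_iff.mp (Nat.dvd_one.mp ho3)
  rw [hz', mul_one] at h
  calc k₀ * d = (k₀ * d * k₀⁻¹) * k₀ := by group
    _ = d * k₀ := by rw [h]

end Cfsg.Agent.Helper75
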