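import Mathlib
import Cfsg.Agent.Helper65.SUGDefs

set_option autoImplicit false

namespace Cfsg.Agent.Helper75

open Matrix
open Cfsg.Agent.Helper5 (frobQ frobQ_apply frobQ_frobQ)
open Cfsg.Agent.Helper13
open Cfsg.Agent.Helper65

variable {F : Type*} [Field F] [Fintype F] {q n : ℕ}

/-- PAR: the torus parameters. -/
theorem sug_par (hF : Fintype.card F = q ^ 2) (hq3 : 3 ≤ q) (rho : F) (hrho : rho ≠ 0)
    (hord : ∀ m : ℕ, rho ^ m = 1 → (q ^ 2 - 1) ∣ m) :
    ∃ (xi : F) (j : ℕ), xi * frobQ hF xi = 1 ∧ xi ^ 2 * rho ^ 2 = frobQ hF (rho ^ 2) ∧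
      (rho ^ 2) ^ j * frobQ hF ((rho ^ 2) ^ j) = 1 ∧ xi ^ j ≠ (rho ^ 2) ^ j := by
  have hN : rho ^ (q ^ 2 - 1) = 1 := by
    have h := FiniteField.pow_card_sub_one_eq_one rho hrho
    rwa [hF] at h
  obtain ⟨s, hs⟩ : ∃ s, q = s + 1 := ⟨q - 1, by omega⟩
  have hNs : q ^ 2 - 1 = s * (s + 2) := by
    rw [hs]
    apply Nat.sub_eq_of_eq_add
    ring
  rw [hNs] at hN hord
  rcases Nat.lt_or_ge q 4 with h4 | h4
  · -- `q = 3`
    have hs2 : s = 2 := by omega
    rw [hs2] at hN hord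
    have h8 : rho ^ 8 = 1 := hN
    refine ⟨rho ^ 6, 1, ?_, ?_, ?_, ?_⟩
    · rw [frobQ_apply, hs, hs2]
      calc rho ^ 6 * (rho ^ 6) ^ (2 + 1) = (rho ^ 8) ^ 3 := by ring
        _ = 1 := by rw [h8, one_pow]
    · rw [frobQ_apply, hs, hs2]
      calc (rho ^ 6) ^ 2 * rho ^ 2 = rho ^ 8 * (rho ^ 2) ^ (2 + 1) := by ring
        _ = (rho ^ 2) ^ (2 + 1) := by rw [h8, one_mul]
    · rw [frobQ_apply, hs, hs2]
      calc (rho ^ 2) ^ 1 * ((rho ^ 2) ^ 1) ^ (2 + 1) = rho ^ 8 := by ring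
        _ = 1 := h8
    · intro h
      have h4' : rho ^ 4 = 1 := by
        have h2 : rho ^ 2 * rho ^ 4 = rho ^ 2 * 1 := by
          rw [mul_one]
          calc rho ^ 2 * rho ^ 4 = (rho ^ 6) ^ 1 := by ring
            _ = (rho ^ 2) ^ 1 := h
            _ = rho ^ 2 := by ring
        exact mul_left_cancel₀ (pow_ne_zero 2 hrho) h2
      have h5 := hord 4 h4'
      have h6 := Nat.le_of_dvd (by norm_num) h5
      omega
  · -- `q ≥ 4`
    have hs3 : 3 ≤ s := by omega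
    refine ⟨rho ^ s, s, ?_, ?_, ?_, ?_⟩
    · rw [frobQ_apply, hs]
      calc rho ^ s * (rho ^ s) ^ (s + 1) = rho ^ (s * (s + 2)) := by ring
        _ = 1 := hN
    · rw [frobQ_apply, hs]
      ring
    · rw [frobQ_apply, hs]
      calc (rho ^ 2) ^ s * ((rho ^ 2) ^ s) ^ (s + 1) = (rho ^ (s * (s + 2))) ^ 2 := by ring
        _ = 1 := by rw [hN, one_pow]
    · intro h
      obtain ⟨r, hr⟩ : ∃ r, s = r + 2 := ⟨s - 2, by omega⟩
      have h1 : rho ^ (s * r) = 1 := by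
        have h2 : rho ^ (2 * s) * rho ^ (s * r) = rho ^ (2 * s) * 1 := by
          rw [mul_one]
          calc rho ^ (2 * s) * rho ^ (s * r) = (rho ^ s) ^ s := by
                rw [hr]
                ring
            _ = (rho ^ 2) ^ s := h
            _ = rho ^ (2 * s) := by ring
        exact mul_left_cancel₀ (pow_ne_zero _ hrho) h2
      have h3 := hord _ h1
      have h4'' : s + 2 ∣ r := Nat.dvd_of_mul_dvd_mul_left (by omega) h3
      have h5 := Nat.le_of_dvd (by omega) h4''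
      omega

end Cfsg.Agent.Helper75
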