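import Mathlib
import Cfsg.Agent.Helper65.SUGDefs

set_option autoImplicit false

namespace Cfsg.Agent.Helper75

open Matrix
open Cfsg.Agent.Helper5 (frobQ frobQ_apply frobQ_frobQ)
open Cfsg.Agent.Helper13
open Cfsg.Agent.Helper65

variable {F : Type*} [Field F] [Fintype F] {q n : ℕ}

/-- W2: two non-orthogonal members on the first two coordinates give all of the first plane. -/
theorem sug_w2 (hF : Fintype.card F = q ^ 2) (hn : 2 ≤ n) (Φ : Set (Fin n → F))
    (hΦ : SugClosed hF Φ) (e f : Fin n → F) (he : e ∈ Φ) (hf : f ∈ Φ)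
    (hes : ∀ i : Fin n, 2 ≤ i.val → e i = 0) (hfs : ∀ i : Fin n, 2 ≤ i.val → f i = 0)
    (hef : Cfsg.hermForm n F q e f ≠ 0) : SugFull q Φ 2 := by
  have h0 : 0 < n := by omega
  have h1 : 1 < n := by omega
  obtain ⟨i0, hi0⟩ : ∃ i0 : Fin n, i0 = ⟨0, h0⟩ := ⟨_, rfl⟩
  obtain ⟨i1, hi1⟩ : ∃ i1 : Fin n, i1 = ⟨1, h1⟩ := ⟨_, rfl⟩
  have hcase : ∀ i : Fin n, i = i0 ∨ i = i1 ∨ 2 ≤ i.val := by
    intro i
    by_cases hi : i.val = 0
    · left
      rw [hi0]
      exact Fin.ext hi
    · by_cases hi' : i.val = 1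
      · right; left
        rw [hi1]
        exact Fin.ext hi'
      · right; right
        omega
  have hE0 : ∀ i : Fin n, sugE F n 0 i = if i = i0 then 1 else 0 := by
    intro i
    rw [sugE_apply, hi0]
    by_cases hi : i.val = 0
    · rw [if_pos hi, if_pos (Fin.ext hi)]
    · rw [if_neg hi, if_neg (fun h => hi (congrArg Fin.val h))]
  have hE1 : ∀ i : Fin n, sugE F n 1 i = if i = i1 then 1 else 0 := by
    intro i
    rw [sugE_apply, hi1]
    by_cases hi : i.val = 1
    · rw [if_pos hi, if_pos (Fin.ext hi)]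
    · rw [if_neg hi, if_neg (fun h => hi (congrArg Fin.val h))]
  have h01 : i0 ≠ i1 := by
    rw [hi0, hi1]
    intro h
    have := congrArg Fin.val h
    simp at this
  have hi0v : i0.val = 0 := by rw [hi0]
  have hi1v : i1.val = 1 := by rw [hi1]
  -- decomposition of vectors supported on the first two coordinates
  have hdec : ∀ u : Fin n → F, (∀ i : Fin n, 2 ≤ i.val → u i = 0) →
      u = u i0 • sugE F n 0 + u i1 • sugE F n 1 := by
    intro u hu
    funext i
    simp only [Pi.add_apply, Pi.smul_apply, smul_eq_mul, hE0, hE1]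
    rcases hcase i with h | h | h
    · rw [h, if_pos rfl, if_neg h01]
      ring
    · rw [h, if_neg h01.symm, if_pos rfl]
      ring
    · have hne0 : i ≠ i0 := fun hh => by rw [hh, hi0v] at h; omega
      have hne1 : i ≠ i1 := fun hh => by rw [hh, hi1v] at h; omega
      rw [if_neg hne0, if_neg hne1, hu i h]
      ring
  -- the form in coordinates
  have hform : ∀ u w : Fin n → F, (∀ i : Fin n, 2 ≤ i.val → u i = 0) →
      Cfsg.hermForm n F q u w = u i0 * frobQ hF (w i0) + u i1 * frobQ hF (w i1) := by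
    intro u w hu
    calc Cfsg.hermForm n F q u w
        = Cfsg.hermForm n F q (u i0 • sugE F n 0 + u i1 • sugE F n 1) w := by rw [← hdec u hu]
      _ = u i0 * frobQ hF (w i0) + u i1 * frobQ hF (w i1) := by
          rw [uh_add_left, uh_smul_left, uh_smul_left, sug_herm_E_left hF w 0 h0,
            sug_herm_E_left hF w 1 h1, hi0, hi1]
  have hee := (hΦ.iso e he).2
  rw [hform e e hes] at hee
  have hef' := hef
  rw [hform e f hes] at hef'
  -- the determinant
  have hD : e i0 * f i1 - e i1 * f i0 ≠ 0 := by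
    intro hD
    apply hef'
    have hD' : e i0 * f i1 = e i1 * f i0 := sub_eq_zero.mp hD
    have hDq : frobQ hF (e i0) * frobQ hF (f i1) = frobQ hF (e i1) * frobQ hF (f i0) := by
      rw [← map_mul, ← map_mul, hD']
    by_cases hz : e i0 = 0
    · rw [hz, zero_mul, zero_add] at hee
      have h1' : e i1 = 0 := by
        rcases mul_eq_zero.mp hee with h | h
        · exact h
        · exact (ufrob_eq_zero hF).mp h
      rw [hz, h1']
      ring
    · have hfz : frobQ hF (e i0) ≠ 0 := fun h => hz ((ufrob_eq_zero hF).mp h)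
      apply mul_left_cancel₀ hfz
      rw [mul_zero]
      linear_combination (frobQ hF (f i0)) * hee + (e i1) * hDq
  intro v hv0 hvv hvs
  obtain ⟨a, ha⟩ : ∃ a : F, a = (v i0 * f i1 - v i1 * f i0) / (e i0 * f i1 - e i1 * f i0) :=
    ⟨_, rfl⟩
  obtain ⟨b, hb⟩ : ∃ b : F, b = (e i0 * v i1 - e i1 * v i0) / (e i0 * f i1 - e i1 * f i0) :=
    ⟨_, rfl⟩
  have hv : v = a • e + b • f := by
    funext i
    simp only [Pi.add_apply, Pi.smul_apply, smul_eq_mul]
    rcases hcase i with h | h | h
    · rw [h, ha, hb, eq_comm, div_mul_eq_mul_div, div_mul_eq_mul_div, ← add_div, div_eq_iff hD]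
      ring
    · rw [h, ha, hb, eq_comm, div_mul_eq_mul_div, div_mul_eq_mul_div, ← add_div, div_eq_iff hD]
      ring
    · rw [hvs i h, hes i h, hfs i h]
      ring
  have hx0 : a • e + b • f ≠ 0 := by
    rw [← hv]
    exact hv0
  have hx : Cfsg.hermForm n F q (a • e + b • f) (a • e + b • f) = 0 := by
    rw [← hv]
    exact hvv
  rw [hv]
  exact sug_plane hF Φ hΦ e f he hf hef a b hx0 hx

end Cfsg.Agent.Helper75
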