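import Mathlib
import Cfsg.Agent.Helper40.BNStD

/-!
CALL S2314 (helper40): piece REIDX (helper75, double).
-/

set_option autoImplicit false

namespace Cfsg.Agent.Helper75.UCREIDX

open Cfsg.Agent.Helper6 Cfsg.Agent.Helper40.BNSt Cfsg.Lie

/-- an injective enumeration of a finite set of naturals -/
theorem ucreidx_enum (J0 : Finset ℕ) :
    ∃ f : ℕ → ℕ, Set.InjOn f ((Finset.range J0.card : Finset ℕ) : Set ℕ) ∧
      (Finset.range J0.card).image f = J0 := by
  classical
  refine ⟨fun i => if h : i < J0.card then (J0.orderEmbOfFin rfl ⟨i, h⟩ : ℕ) else 0, ?_, ?_⟩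
  · intro i hi j hj hij
    rw [Finset.coe_range, Set.mem_Iio] at hi hj
    simp only [dif_pos hi, dif_pos hj] at hij
    have h1 := (J0.orderEmbOfFin rfl).injective hij
    exact congrArg Fin.val h1
  · ext x
    rw [Finset.mem_image]
    constructor
    · rintro ⟨i, hi, rfl⟩
      rw [Finset.mem_range] at hi
      simp only [dif_pos hi]
      exact Finset.orderEmbOfFin_mem J0 rfl _
    · intro hx
      have hx' : x ∈ Set.range (J0.orderEmbOfFin rfl) := by
        rw [Finset.range_orderEmbOfFin]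
        exact hx
      obtain ⟨⟨i, hi⟩, rfl⟩ := hx'
      exact ⟨i, Finset.mem_range.mpr hi, by simp only [dif_pos hi]⟩

/-- `subgroupOf` of a sup with a closure -/
theorem ucreidx_sub {G : Type*} [Group G] (H A : Subgroup G) (hA : A ≤ H) (s' : Set ↥H)
    (s : Set G) (hs : (fun x : ↥H => (x : G)) '' s' = s) :
    A.subgroupOf H ⊔ Subgroup.closure s' = (A ⊔ Subgroup.closure s).subgroupOf H := by
  have hsH : Subgroup.closure s ≤ H := by
    rw [Subgroup.closure_le]
    intro x hx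
    rw [← hs] at hx
    obtain ⟨y, -, rfl⟩ := hx
    exact y.2
  rw [Subgroup.subgroupOf_sup hA hsH]
  congr 1
  have h1 : (Subgroup.closure s').map H.subtype = Subgroup.closure s := by
    rw [MonoidHom.map_closure]
    congr 1
  rw [← h1]
  exact (Subgroup.comap_map_eq_self_of_injective H.subtype_injective _).symm

/-- reindexing a sum over the subsets of an image -/
theorem ucreidx_sum (r : ℕ) (f : ℕ → ℕ)
    (hf : Set.InjOn f ((Finset.range r : Finset ℕ) : Set ℕ)) (Φ : Finset ℕ → ℂ) :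
    ∑ K0 ∈ ((Finset.range r).image f).powerset, Φ K0 =
      ∑ J ∈ (Finset.range r).powerset, Φ (J.image f) := by
  classical
  rw [Finset.powerset_image, Finset.sum_image]
  have key : ∀ J J' : Finset ℕ, J ⊆ Finset.range r → J' ⊆ Finset.range r →
      J.image f = J'.image f → J ⊆ J' := by
    intro J J' hJ hJ' h i hi
    have h1 : f i ∈ J'.image f := by
      rw [← h]
      exact Finset.mem_image_of_mem f hi
    obtain ⟨j, hj, hji⟩ := Finset.mem_image.mp h1
    have h2 := hf (Finset.mem_coe.mpr (hJ' hj)) (Finset.mem_coe.mpr (hJ hi)) hji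
    rw [← h2]
    exact hj
  intro J hJ J' hJ' h
  rw [Finset.mem_coe, Finset.mem_powerset] at hJ hJ'
  exact Finset.Subset.antisymm (key J J' hJ hJ' h) (key J' J hJ' hJ h.symm)

/-- REIDX: the Steinberg character of the induced BN-pair of `P_J`, as a sum over the subsets of `J0`. -/
theorem reidx {G : Type*} [Group G] (P : Cfsg.BNPair G) (σ : ℕ → G) (J0 : Finset ℕ)
    (Q : Cfsg.BNPair ↥(P.parabolic (σ '' (J0 : Set ℕ))))
    (hQB : Q.B = P.B.subgroupOf (P.parabolic (σ '' (J0 : Set ℕ))))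
    (hQS : Q.S = {x : ↥(P.parabolic (σ '' (J0 : Set ℕ))) | (x : G) ∈ σ '' (J0 : Set ℕ)}) :
    ∃ (r' : ℕ) (σ' : ℕ → ↥(P.parabolic (σ '' (J0 : Set ℕ)))),
      Q.S = σ' '' ((Finset.range r' : Finset ℕ) : Set ℕ) ∧
      ∀ x : ↥(P.parabolic (σ '' (J0 : Set ℕ))), stChar Q r' σ' x =
        ∑ K0 ∈ J0.powerset, (-1 : ℂ) ^ K0.card *
          Cfsg.fixedPointCharacter
            ((P.parabolic (σ '' (K0 : Set ℕ))).subgroupOf (P.parabolic (σ '' (J0 : Set ℕ)))) x := by
  classical
  obtain ⟨f, hfinj, hfim⟩ := ucreidx_enum J0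
  have hmemJ : ∀ i, i ∈ Finset.range J0.card → f i ∈ J0 := by
    intro i hi
    have h1 : f i ∈ (Finset.range J0.card).image f := Finset.mem_image_of_mem f hi
    rw [hfim] at h1
    exact h1
  have hσmem : ∀ k, k ∈ J0 → σ k ∈ P.parabolic (σ '' (J0 : Set ℕ)) := by
    intro k hk
    exact (le_sup_right : Subgroup.closure (σ '' (J0 : Set ℕ)) ≤
      P.B ⊔ Subgroup.closure (σ '' (J0 : Set ℕ))) (Subgroup.subset_closure ⟨k, hk, rfl⟩)
  obtain ⟨σ', hσ'⟩ : ∃ σ' : ℕ → ↥(P.parabolic (σ '' (J0 : Set ℕ))),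
      ∀ i, i ∈ Finset.range J0.card →
        ((σ' i : ↥(P.parabolic (σ '' (J0 : Set ℕ)))) : G) = σ (f i) := by
    refine ⟨fun i => if h : f i ∈ J0 then ⟨σ (f i), hσmem _ h⟩ else 1, fun i hi => ?_⟩
    simp only [dif_pos (hmemJ i hi)]
  refine ⟨J0.card, σ', ?_, ?_⟩
  · rw [hQS]
    ext x
    constructor
    · rintro ⟨k, hk, hkx⟩
      have hk' : k ∈ (Finset.range J0.card).image f := by
        rw [hfim]
        exact hk
      obtain ⟨i, hi, rfl⟩ := Finset.mem_image.mp hk'
      refine ⟨i, hi, ?_⟩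
      apply Subtype.ext
      rw [hσ' i hi, hkx]
    · rintro ⟨i, hi, rfl⟩
      have hi' : i ∈ Finset.range J0.card := hi
      exact ⟨f i, hmemJ i hi', (hσ' i hi').symm⟩
  · intro x
    have hC := ucreidx_sum J0.card f hfinj (fun K0 => (-1 : ℂ) ^ K0.card *
      Cfsg.fixedPointCharacter
        ((P.parabolic (σ '' (K0 : Set ℕ))).subgroupOf (P.parabolic (σ '' (J0 : Set ℕ)))) x)
    rw [hfim] at hC
    refine Eq.trans ?_ hC.symm
    unfold stChar
    apply Finset.sum_congr rfl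
    intro J hJ
    rw [Finset.mem_powerset] at hJ
    have hcard : (J.image f).card = J.card :=
      Finset.card_image_of_injOn (hfinj.mono (Finset.coe_subset.mpr hJ))
    have hs : (fun y : ↥(P.parabolic (σ '' (J0 : Set ℕ))) => (y : G)) '' (σ' '' (J : Set ℕ)) =
        σ '' ((J.image f : Finset ℕ) : Set ℕ) := by
      ext y
      constructor
      · rintro ⟨_, ⟨i, hi, rfl⟩, rfl⟩
        refine ⟨f i, ?_, (hσ' i (hJ hi)).symm⟩
        rw [Finset.coe_image]
        exact ⟨i, hi, rfl⟩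
      · rintro ⟨k, hk, rfl⟩
        rw [Finset.coe_image] at hk
        obtain ⟨i, hi, rfl⟩ := hk
        exact ⟨σ' i, ⟨i, hi, rfl⟩, hσ' i (hJ hi)⟩
    have hsub : Q.parabolic (σ' '' (J : Set ℕ)) =
        (P.parabolic (σ '' ((J.image f : Finset ℕ) : Set ℕ))).subgroupOf
          (P.parabolic (σ '' (J0 : Set ℕ))) := by
      show Q.B ⊔ Subgroup.closure (σ' '' (J : Set ℕ)) =
        (P.B ⊔ Subgroup.closure (σ '' ((J.image f : Finset ℕ) : Set ℕ))).subgroupOf
          (P.parabolic (σ '' (J0 : Set ℕ)))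
      rw [hQB]
      exact ucreidx_sub (P.parabolic (σ '' (J0 : Set ℕ))) P.B le_sup_left _ _ hs
    rw [hsub, hcard]

end Cfsg.Agent.Helper75.UCREIDX
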