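import Mathlib

set_option autoImplicit false

/-!
# S5982, piece FIELD: an automorphism inverting-and-powering a root of unity has large order
-/

namespace Cfsg.Agent.Helper75

open Module Polynomial

section fin
variable {F : Type*} [Field F] [Fintype F]

/-! ## PIECE FIELD -/
theorem ord_le_of_hom (q₀ : ℕ) (r : ℕ) [Fact r.Prime] {K : Type*} [Field K] [Algebra F K]
    [FiniteDimensional F K] (α : K) (hα : α ^ r = 1) (hα1 : α ≠ 1) (ρ : K →ₐ[F] K)
    (hρ : ρ α = (α ^ q₀)⁻¹) : orderOf (-(q₀ : ZMod r)) ≤ finrank F K := by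
  classical
  have hr : r.Prime := Fact.out
  have hord : orderOf α = r := orderOf_eq_prime hα hα1
  have hα0 : α ≠ 0 := by
    rintro rfl
    rw [zero_pow hr.ne_zero] at hα
    exact zero_ne_one hα
  obtain ⟨ρ', hρ'⟩ : ∃ ρ' : K ≃ₐ[F] K, ∀ x, ρ' x = ρ x :=
    ⟨AlgEquiv.ofBijective ρ (AlgHom.bijective ρ), fun x => rfl⟩
  have hpow : ∀ k : ℕ, (ρ' ^ k) α = α ^ ((-(q₀ : ℤ)) ^ k) := by
    intro k
    induction k with
    | zero => simp
    | succ k ih =>
      rw [pow_succ, AlgEquiv.mul_apply, hρ', hρ, map_inv₀, map_pow, ih, pow_succ, zpow_mul,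
        zpow_neg, zpow_natCast]
  have hN : 0 < orderOf ρ' := orderOf_pos ρ'
  have h1 : α ^ ((-(q₀ : ℤ)) ^ orderOf ρ' - 1) = 1 := by
    rw [zpow_sub₀ hα0, ← hpow, pow_orderOf_eq_one, zpow_one, AlgEquiv.one_apply]
    exact div_self hα0
  obtain ⟨u, hu⟩ : ∃ u : Kˣ, (u : K) = α := ⟨Units.mk0 α hα0, rfl⟩
  have hordu : orderOf u = r := by rw [← orderOf_units, hu, hord]
  have h1' : u ^ ((-(q₀ : ℤ)) ^ orderOf ρ' - 1) = 1 := by
    apply Units.ext
    rw [Units.val_zpow_eq_zpow_val, hu, h1, Units.val_one]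
  have h2 : (r : ℤ) ∣ (-(q₀ : ℤ)) ^ orderOf ρ' - 1 := by
    rw [← hordu]
    exact orderOf_dvd_iff_zpow_eq_one.mpr h1'
  have h3 : (-(q₀ : ZMod r)) ^ orderOf ρ' = 1 := by
    have h := (ZMod.intCast_zmod_eq_zero_iff_dvd _ r).mpr h2
    push_cast at h
    exact sub_eq_zero.mp h
  have h4 : orderOf (-(q₀ : ZMod r)) ∣ orderOf ρ' := orderOf_dvd_of_pow_eq_one h3
  calc orderOf (-(q₀ : ZMod r)) ≤ orderOf ρ' := Nat.le_of_dvd hN h4
    _ ≤ Fintype.card (K ≃ₐ[F] K) := orderOf_le_card_univ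
    _ ≤ finrank F K := AlgEquiv.card_le

end fin

end Cfsg.Agent.Helper75
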